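import Cfsg.Agent.Lib.Goldschmidt.Setting
import Cfsg.Agent.Lib.PGroup.Basic

/-!
# Central involutions inside normalised subgroups of edge stabilisers
-/

set_option autoImplicit false

namespace Cfsg.Agent.Goldschmidt

open MulAction

variable {G V : Type*} [Group G] [MulAction G V] {A : Amal G V}

/-- A nontrivial subgroup normalised by an edge stabiliser containing it contains a central
involution of the edge stabiliser. -/
theorem Amal.exists_central_invol {u v : V} (h : A.Adj u v) {X : Subgroup G}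
    (hX : X ≤ stabilizer G u ⊓ stabilizer G v) (hne : X ≠ ⊥)
    (hnorm : ∀ g : G, g • u = u → g • v = v → ∀ y ∈ X, g * y * g⁻¹ ∈ X) :
    ∃ y ∈ X, y ≠ 1 ∧ y * y = 1 ∧ y • u = u ∧ y • v = v ∧
      ∀ g : G, g • u = u → g • v = v → Commute g y := by
  have : Finite ↥(stabilizer G u ⊓ stabilizer G v) := A.finite_of_le (v := u) inf_le_left
  set T := stabilizer G u ⊓ stabilizer G v with hT
  have hN : (X.subgroupOf T).Normal := ⟨fun n hn g => by
    rw [Subgroup.mem_subgroupOf] at hn ⊢
    exact hnorm g g.2.1 g.2.2 _ hn⟩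
  have hNne : X.subgroupOf T ≠ ⊥ := by
    rw [Ne, Subgroup.subgroupOf_eq_bot, disjoint_iff, inf_eq_left.2 hX]
    exact hne
  have : Fact (Nat.Prime 2) := ⟨Nat.prime_two⟩
  obtain ⟨z, hz, hzc, hzo⟩ := PGroup.exists_orderOf_eq_mem_center (A.two h) (X.subgroupOf T) hNne
  rw [Subgroup.mem_subgroupOf] at hz
  refine ⟨z, hz, fun e => ?_, ?_, (hX hz).1, (hX hz).2, fun g hgu hgv => ?_⟩
  · have : z = 1 := Subtype.ext e
    simp [this] at hzo
  · rw [← Subgroup.coe_mul, ← pow_two, ← hzo, pow_orderOf_eq_one, Subgroup.coe_one]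
  · exact congrArg Subtype.val (Subgroup.mem_center_iff.1 hzc ⟨g, hgu, hgv⟩)

end Cfsg.Agent.Goldschmidt
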