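import Cfsg.Agent.Lib.Goldschmidt.Main
import Cfsg.Agent.Lib.Amalgam.CosetGraph
import Cfsg.Agent.Lib.LocalStructure.Basic

/-!
# The coset graph of an amalgam of index `(3, 3)`
-/

set_option autoImplicit false

namespace Cfsg.Agent.Goldschmidt

open MulAction

variable {G : Type*} [Group G]

/-- A Sylow 2-subgroup of a group with quotient `S₃` by the 2-core has index 3 and is not normal. -/
theorem sylow_facts {M : Type*} [Group M] [Finite M] (P : Sylow 2 M)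
    (e : M ⧸ pCore 2 M ≃* Equiv.Perm (Fin 3)) :
    (P : Subgroup M).index = 3 ∧ ¬ (P : Subgroup M).Normal := by
  have : Fact (Nat.Prime 2) := ⟨Nat.prime_two⟩
  have hcard : Nat.card M = 6 * Nat.card (pCore 2 M) := by
    rw [Subgroup.card_eq_card_quotient_mul_card_subgroup (pCore 2 M), Nat.card_congr e.toEquiv,
      Nat.card_perm, Nat.card_eq_fintype_card, Fintype.card_fin]
    rfl
  obtain ⟨k, hk⟩ := IsPGroup.iff_card.1 (LocalStructure.isPGroup_pCore (G := M) 2)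
  obtain ⟨a, ha⟩ := IsPGroup.iff_card.1 P.isPGroup'
  have hodd : ¬ 2 ∣ (P : Subgroup M).index := P.not_dvd_index
  have hmul := (P : Subgroup M).card_mul_index
  rw [hcard, hk, ha] at hmul
  have h1 : (P : Subgroup M).index ∣ 3 := by
    have hd : (P : Subgroup M).index ∣ 2 ^ (k + 1) * 3 := ⟨2 ^ a, by rw [pow_succ]; linarith⟩
    exact Nat.Coprime.dvd_of_dvd_mul_left
      (Nat.Coprime.pow_right _ ((Nat.Prime.coprime_iff_not_dvd Nat.prime_two).2 hodd).symm) hd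
  have hne : (P : Subgroup M).index ≠ 1 := by
    intro h
    rw [h, mul_one] at hmul
    have h3 : 3 ∣ 2 ^ a := ⟨2 ^ (k + 1), by rw [pow_succ]; linarith⟩
    have := Nat.Prime.dvd_of_dvd_pow (by norm_num : Nat.Prime 3) h3
    norm_num at this
  have hidx : (P : Subgroup M).index = 3 := ((Nat.dvd_prime (by norm_num)).1 h1).resolve_left hne
  refine ⟨hidx, fun hn => ?_⟩
  have hle := Nat.le_of_dvd Nat.card_pos
    (Subgroup.card_dvd_of_le (LocalStructure.le_pCore hn P.isPGroup'))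
  rw [hidx] at hmul
  have := Nat.one_le_two_pow (n := k)
  omega

/-- The data of the amalgam at one of its two subgroups. -/
theorem side_facts (M T : Subgroup G) [Finite M] (ha : ∃ P : Sylow 2 M, (P : Subgroup M) = T.subgroupOf M)
    (hb : Nonempty (M ⧸ pCore 2 M ≃* Equiv.Perm (Fin 3))) :
    (T.subgroupOf M).index = 3 ∧ ¬ (T.subgroupOf M).Normal ∧ IsPGroup 2 (T.subgroupOf M) := by
  obtain ⟨P, hP⟩ := ha
  obtain ⟨e⟩ := hb
  obtain ⟨h1, h2⟩ := sylow_facts P e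
  rw [hP] at h1 h2
  exact ⟨h1, h2, hP ▸ P.isPGroup'⟩

/-- An orbit of size three with the point stabiliser not normal in a finite group contains a point
moved by an element fixing the given one. -/
theorem nbr_data {X : Type*} [MulAction G X] {M : Subgroup G} {u : X} {Adj : X → Prop}
    (horb : ∀ x, Adj x ↔ ∃ g ∈ M, g • u = x)
    (hidx : ((stabilizer G u).subgroupOf M).index = 3)
    (hnn : ¬ ((stabilizer G u).subgroupOf M).Normal) :
    (∃ a b c, a ≠ b ∧ a ≠ c ∧ b ≠ c ∧ ∀ x, Adj x ↔ x = a ∨ x = b ∨ x = c) ∧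
      ∃ g ∈ M, g • u = u ∧ ∃ x, Adj x ∧ g • x ≠ x := by
  have horb' : {x | Adj x} = orbit M u := by
    ext x
    rw [Set.mem_ofPred_eq, horb, mem_orbit_iff]
    exact ⟨fun ⟨g, hg, h⟩ => ⟨⟨g, hg⟩, h⟩, fun ⟨⟨g, hg⟩, h⟩ => ⟨g, hg, h⟩⟩
  constructor
  · have : {x | Adj x}.ncard = 3 := by
      rw [horb', ← index_stabilizer M u, ← hidx]
      rfl
    obtain ⟨a, b, c, hab, hac, hbc, he⟩ := Set.ncard_eq_three.1 this
    refine ⟨a, b, c, hab, hac, hbc, fun x => ?_⟩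
    exact (Set.ext_iff.1 he x).trans (by simp)
  by_contra hcon
  push Not at hcon
  refine hnn ⟨fun n hn m => ?_⟩
  rw [Subgroup.mem_subgroupOf, mem_stabilizer_iff] at hn ⊢
  have h1 := hcon n n.2 hn _ ((horb _).2 ⟨(m⁻¹ : M), (m⁻¹ : M).2, rfl⟩)
  rw [Subgroup.coe_mul, Subgroup.coe_mul, mul_smul, mul_smul, h1, ← mul_smul, ← Subgroup.coe_mul,
    mul_inv_cancel, Subgroup.coe_one, one_smul]

variable {M₁ M₂ : Subgroup G}

/-- The side of a vertex of the coset graph. -/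
def cosetSide : Cfsg.CosetVertex M₁ M₂ → Bool
  | Sum.inl _ => true
  | Sum.inr _ => false

variable (M₁ M₂) in
/-- The two base vertices. -/
abbrev vOne : Cfsg.CosetVertex M₁ M₂ := Sum.inl ((1 : G) : G ⧸ M₁)

variable (M₁ M₂) in
/-- The two base vertices. -/
abbrev vTwo : Cfsg.CosetVertex M₁ M₂ := Sum.inr ((1 : G) : G ⧸ M₂)

theorem stab_vOne : stabilizer G (vOne M₁ M₂) = M₁ := by
  rw [vOne, Amalgam.stabilizer_inl]
  ext
  simp

theorem stab_vTwo : stabilizer G (vTwo M₁ M₂) = M₂ := by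
  rw [vTwo, Amalgam.stabilizer_inr]
  ext
  simp

theorem exists_base (v : Cfsg.CosetVertex M₁ M₂) :
    (∃ g : G, g • vOne M₁ M₂ = v) ∨ ∃ g : G, g • vTwo M₁ M₂ = v := by
  rcases v with a | b
  · induction a using QuotientGroup.induction_on with
    | _ x => exact Or.inl ⟨x, by simp [vOne]⟩
  · induction b using QuotientGroup.induction_on with
    | _ x => exact Or.inr ⟨x, by simp [vTwo]⟩

theorem adj_base : (Cfsg.cosetGraph M₁ M₂).Adj (vOne M₁ M₂) (vTwo M₁ M₂) := Amalgam.adj_mk 1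

theorem adj_orbit {v u : Cfsg.CosetVertex M₁ M₂} (h : (Cfsg.cosetGraph M₁ M₂).Adj v u)
    (x : Cfsg.CosetVertex M₁ M₂) :
    (Cfsg.cosetGraph M₁ M₂).Adj v x ↔ ∃ g ∈ stabilizer G v, g • u = x := by
  refine ⟨fun hx => Amalgam.exists_stabilizer_smul_eq h hx, ?_⟩
  rintro ⟨g, hg, rfl⟩
  have := Amalgam.adj_smul g h
  rwa [show g • v = v from hg] at this

/-- The coset graph as an `Amal`. -/
def cosetAmal [Finite M₁] [Finite M₂]
    (ha₁ : ∃ P : Sylow 2 M₁, (P : Subgroup M₁) = (M₁ ⊓ M₂).subgroupOf M₁)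
    (ha₂ : ∃ P : Sylow 2 M₂, (P : Subgroup M₂) = (M₁ ⊓ M₂).subgroupOf M₂)
    (hb₁ : Nonempty (M₁ ⧸ Cfsg.pCore 2 M₁ ≃* Equiv.Perm (Fin 3)))
    (hb₂ : Nonempty (M₂ ⧸ Cfsg.pCore 2 M₂ ≃* Equiv.Perm (Fin 3)))
    (hc : ∀ N : Subgroup G, N ≤ M₁ ⊓ M₂ → (N.subgroupOf M₁).Normal → (N.subgroupOf M₂).Normal →
      N = ⊥) : Amal G (Cfsg.CosetVertex M₁ M₂) where
  Adj := (Cfsg.cosetGraph M₁ M₂).Adj
  side := cosetSide
  symm h := h.symm
  side_adj := by
    intro u v h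
    obtain ⟨x, ⟨rfl, rfl⟩ | ⟨rfl, rfl⟩⟩ := Amalgam.exists_rep_of_adj h <;> rfl
  side_smul g v := by cases v <;> rfl
  adj_smul g _ _ h := Amalgam.adj_smul g h
  nbrs := by
    have key : ∀ v : Cfsg.CosetVertex M₁ M₂, v = vOne M₁ M₂ ∨ v = vTwo M₁ M₂ →
        ∃ a b c, a ≠ b ∧ a ≠ c ∧ b ≠ c ∧
          ∀ x, (Cfsg.cosetGraph M₁ M₂).Adj v x ↔ x = a ∨ x = b ∨ x = c := by
      obtain ⟨i1, n1, -⟩ := side_facts M₁ (M₁ ⊓ M₂) ha₁ hb₁
      obtain ⟨i2, n2, -⟩ := side_facts M₂ (M₁ ⊓ M₂) ha₂ hb₂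
      rw [Subgroup.inf_subgroupOf_left] at i1 n1
      rw [Subgroup.inf_subgroupOf_right] at i2 n2
      rintro v (rfl | rfl)
      · exact (nbr_data (u := vTwo M₁ M₂) (M := M₁) (fun x => by rw [adj_orbit adj_base, stab_vOne])
          (by rwa [stab_vTwo]) (by rwa [stab_vTwo])).1
      · exact (nbr_data (u := vOne M₁ M₂) (M := M₂)
          (fun x => by rw [adj_orbit adj_base.symm, stab_vTwo])
          (by rwa [stab_vOne]) (by rwa [stab_vOne])).1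
    intro v
    obtain ⟨g, w, hw, rfl⟩ : ∃ g : G, ∃ w, (w = vOne M₁ M₂ ∨ w = vTwo M₁ M₂) ∧ g • w = v := by
      rcases exists_base v with ⟨g, e⟩ | ⟨g, e⟩
      exacts [⟨g, _, Or.inl rfl, e⟩, ⟨g, _, Or.inr rfl, e⟩]
    obtain ⟨a, b, c, hab, hac, hbc, h⟩ := key w hw
    refine ⟨g • a, g • b, g • c, fun e => hab (MulAction.injective g e),
      fun e => hac (MulAction.injective g e), fun e => hbc (MulAction.injective g e), fun x => ?_⟩
    obtain ⟨y, rfl⟩ := MulAction.surjective g x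
    rw [(MulAction.injective g).eq_iff, (MulAction.injective g).eq_iff,
      (MulAction.injective g).eq_iff, ← h]
    refine ⟨fun hy => ?_, Amalgam.adj_smul g⟩
    have := Amalgam.adj_smul g⁻¹ hy
    rwa [inv_smul_smul, inv_smul_smul] at this
  edge := by
    intro u v u' v' h h' hs
    obtain ⟨x, ⟨rfl, rfl⟩ | ⟨rfl, rfl⟩⟩ := Amalgam.exists_rep_of_adj h <;>
      obtain ⟨y, ⟨rfl, rfl⟩ | ⟨rfl, rfl⟩⟩ := Amalgam.exists_rep_of_adj h'
    · exact ⟨y * x⁻¹, by simp, by simp⟩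
    · simp [cosetSide] at hs
    · simp [cosetSide] at hs
    · exact ⟨y * x⁻¹, by simp, by simp⟩
  finite v := by
    obtain ⟨g, rfl⟩ | ⟨g, rfl⟩ := exists_base v <;> rw [stabilizer_smul_eq_stabilizer_map_conj]
    · rw [stab_vOne]
      exact Finite.of_equiv M₁
        (Subgroup.equivMapOfInjective _ _ (MulAut.conj g).injective).toEquiv
    · rw [stab_vTwo]
      exact Finite.of_equiv M₂
        (Subgroup.equivMapOfInjective _ _ (MulAut.conj g).injective).toEquiv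
  two := by
    intro u v h
    obtain ⟨-, -, h2⟩ := side_facts M₁ (M₁ ⊓ M₂) ha₁ hb₁
    have hT : IsPGroup 2 ↥(M₁ ⊓ M₂) := h2.of_equiv (Subgroup.subgroupOfEquivOfLe inf_le_left)
    obtain ⟨x, ⟨rfl, rfl⟩ | ⟨rfl, rfl⟩⟩ := Amalgam.exists_rep_of_adj h
    · rw [Amalgam.stabilizer_inl, Amalgam.stabilizer_inr, ← Amalgam.map_conj_inf]
      exact hT.map _
    · rw [inf_comm, Amalgam.stabilizer_inl, Amalgam.stabilizer_inr, ← Amalgam.map_conj_inf]
      exact hT.map _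
  swap := by
    obtain ⟨i1, n1, -⟩ := side_facts M₁ (M₁ ⊓ M₂) ha₁ hb₁
    obtain ⟨i2, n2, -⟩ := side_facts M₂ (M₁ ⊓ M₂) ha₂ hb₂
    rw [Subgroup.inf_subgroupOf_left] at i1 n1
    rw [Subgroup.inf_subgroupOf_right] at i2 n2
    have b1 : ∃ g : G, g • vOne M₁ M₂ = vOne M₁ M₂ ∧ g • vTwo M₁ M₂ = vTwo M₁ M₂ ∧
        ∃ x, (Cfsg.cosetGraph M₁ M₂).Adj (vOne M₁ M₂) x ∧ g • x ≠ x := by
      obtain ⟨g, hg, hgu, hx⟩ := (nbr_data (u := vTwo M₁ M₂) (M := M₁)
        (Adj := (Cfsg.cosetGraph M₁ M₂).Adj (vOne M₁ M₂))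
        (fun x => by rw [adj_orbit adj_base, stab_vOne]) (by rwa [stab_vTwo])
        (by rwa [stab_vTwo])).2
      refine ⟨g, ?_, hgu, hx⟩
      rwa [← mem_stabilizer_iff, stab_vOne]
    have b2 : ∃ g : G, g • vTwo M₁ M₂ = vTwo M₁ M₂ ∧ g • vOne M₁ M₂ = vOne M₁ M₂ ∧
        ∃ x, (Cfsg.cosetGraph M₁ M₂).Adj (vTwo M₁ M₂) x ∧ g • x ≠ x := by
      obtain ⟨g, hg, hgu, hx⟩ := (nbr_data (u := vOne M₁ M₂) (M := M₂)
        (Adj := (Cfsg.cosetGraph M₁ M₂).Adj (vTwo M₁ M₂))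
        (fun x => by rw [adj_orbit adj_base.symm, stab_vTwo]) (by rwa [stab_vOne])
        (by rwa [stab_vOne])).2
      refine ⟨g, ?_, hgu, hx⟩
      rwa [← mem_stabilizer_iff, stab_vTwo]
    intro u v h
    have trans : ∀ (k : G) {a b : Cfsg.CosetVertex M₁ M₂},
        (∃ g : G, g • a = a ∧ g • b = b ∧ ∃ x, (Cfsg.cosetGraph M₁ M₂).Adj a x ∧ g • x ≠ x) →
        ∃ g : G, g • k • a = k • a ∧ g • k • b = k • b ∧
          ∃ x, (Cfsg.cosetGraph M₁ M₂).Adj (k • a) x ∧ g • x ≠ x := by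
      rintro k a b ⟨g, ga, gb, x, hx, hgx⟩
      exact ⟨k * g * k⁻¹, by rw [mul_smul, mul_smul, inv_smul_smul, ga],
        by rw [mul_smul, mul_smul, inv_smul_smul, gb], k • x, Amalgam.adj_smul k hx,
        by rw [mul_smul, mul_smul, inv_smul_smul]; exact fun e => hgx (MulAction.injective k e)⟩
    obtain ⟨x, ⟨rfl, rfl⟩ | ⟨rfl, rfl⟩⟩ := Amalgam.exists_rep_of_adj h
    · simpa [vOne, vTwo] using trans x b1
    · simpa [vOne, vTwo] using trans x b2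
  faithful := by
    intro u v h X hX hu hv
    have main : ∀ (k : G), (∀ g : G, g • k • vOne M₁ M₂ = k • vOne M₁ M₂ → ∀ x ∈ X, g * x * g⁻¹ ∈ X) →
        (∀ g : G, g • k • vTwo M₁ M₂ = k • vTwo M₁ M₂ → ∀ x ∈ X, g * x * g⁻¹ ∈ X) →
        (∀ x ∈ X, x • k • vOne M₁ M₂ = k • vOne M₁ M₂ ∧ x • k • vTwo M₁ M₂ = k • vTwo M₁ M₂) →
        X = ⊥ := by
      intro k h1 h2 hX
      set N := X.comap (MulAut.conj k).toMonoidHom with hN
      have hmem : ∀ {n : G}, n ∈ N ↔ k * n * k⁻¹ ∈ X := Iff.rfl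
      have hnorm : ∀ (M : Subgroup G) (a : Cfsg.CosetVertex M₁ M₂), stabilizer G a = M →
          (∀ g : G, g • k • a = k • a → ∀ x ∈ X, g * x * g⁻¹ ∈ X) → (N.subgroupOf M).Normal := by
        intro M a hM ha
        refine ⟨fun n hn m => ?_⟩
        rw [Subgroup.mem_subgroupOf, hmem] at hn ⊢
        have hm : (m : G) • a = a := by
          rw [← mem_stabilizer_iff, hM]
          exact m.2
        have := ha (k * m * k⁻¹) (by rw [mul_smul, mul_smul, inv_smul_smul, hm]) _ hn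
        simp only [Subgroup.coe_mul, Subgroup.coe_inv]
        convert this using 1
        group
      have hNb := hc N (fun n hn => ?_) (hnorm M₁ _ stab_vOne h1) (hnorm M₂ _ stab_vTwo h2)
      · rw [Subgroup.eq_bot_iff_forall] at hNb ⊢
        intro x hx
        have := hNb (k⁻¹ * x * k) (hmem.2 (by simpa [mul_assoc] using hx))
        simpa [mul_assoc, inv_mul_eq_one] using this
      · obtain ⟨e1, e2⟩ := hX _ (hmem.1 hn)
        rw [mul_smul, mul_smul, inv_smul_smul] at e1 e2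
        refine ⟨?_, ?_⟩
        · rw [← stab_vOne (M₁ := M₁) (M₂ := M₂)]
          exact MulAction.injective k e1
        · rw [← stab_vTwo (M₁ := M₁) (M₂ := M₂)]
          exact MulAction.injective k e2
    have e1 : ∀ x : G, x • vOne M₁ M₂ = Sum.inl (x : G ⧸ M₁) := fun x => by simp [vOne]
    have e2 : ∀ x : G, x • vTwo M₁ M₂ = Sum.inr (x : G ⧸ M₂) := fun x => by simp [vTwo]
    obtain ⟨x, ⟨rfl, rfl⟩ | ⟨rfl, rfl⟩⟩ := Amalgam.exists_rep_of_adj h
    · refine main x (by rw [e1]; exact hu) (by rw [e2]; exact hv) fun y hy => ?_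
      rw [e1, e2]
      exact hX y hy
    · refine main x (by rw [e1]; exact hv) (by rw [e2]; exact hu) fun y hy => ?_
      rw [e1, e2]
      exact ⟨(hX y hy).2, (hX y hy).1⟩

/-- Goldschmidt's bound. -/
theorem card_le [Finite M₁] [Finite M₂]
    (ha₁ : ∃ P : Sylow 2 M₁, (P : Subgroup M₁) = (M₁ ⊓ M₂).subgroupOf M₁)
    (ha₂ : ∃ P : Sylow 2 M₂, (P : Subgroup M₂) = (M₁ ⊓ M₂).subgroupOf M₂)
    (hb₁ : Nonempty (M₁ ⧸ Cfsg.pCore 2 M₁ ≃* Equiv.Perm (Fin 3)))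
    (hb₂ : Nonempty (M₂ ⧸ Cfsg.pCore 2 M₂ ≃* Equiv.Perm (Fin 3)))
    (hc : ∀ N : Subgroup G, N ≤ M₁ ⊓ M₂ → (N.subgroupOf M₁).Normal → (N.subgroupOf M₂).Normal →
      N = ⊥) : Nat.card ↥(M₁ ⊓ M₂) ≤ 2 ^ 7 := by
  have := (cosetAmal ha₁ ha₂ hb₁ hb₂ hc).bounded adj_base (vOne M₁ M₂) (vTwo M₁ M₂) adj_base
  rwa [stab_vOne, stab_vTwo] at this

end Cfsg.Agent.Goldschmidt
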