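import Cfsg.Agent.Lib.Goldschmidt.Path

/-!
# Families of central involutions of edge stabilisers and their critical arcs
-/

set_option autoImplicit false

namespace Cfsg.Agent.Goldschmidt

open MulAction

variable {G V : Type*} [Group G] [MulAction G V]

/-- For each edge `(v, x)` with `v` on side `s`, a central involution of its stabiliser, with
trivial product over the three neighbours of `v`. -/
structure Fam (A : Amal G V) (s : Bool) where
  el : V → V → G
  ne_one : ∀ {v x}, A.side v = s → A.Adj v x → el v x ≠ 1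
  sq : ∀ {v x}, A.side v = s → A.Adj v x → el v x * el v x = 1
  mem_left : ∀ {v x}, A.side v = s → A.Adj v x → el v x ∈ A.Q v
  mem_right : ∀ {v x}, A.side v = s → A.Adj v x → el v x ∈ A.Q x
  comm : ∀ {v x}, A.side v = s → A.Adj v x → ∀ {g : G}, g • v = v → g • x = x →
    Commute g (el v x)
  equiv : ∀ {v x}, A.side v = s → A.Adj v x → ∀ g : G, g * el v x * g⁻¹ = el (g • v) (g • x)
  prod : ∀ {v a b c}, A.side v = s → A.Adj v a → A.Adj v b → A.Adj v c → a ≠ b → a ≠ c → b ≠ c →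
    el v a * el v b * el v c = 1

variable {A : Amal G V} {s s' : Bool}

/-- The value at an edge depends only on the end away from side `s`. -/
def Fam.IsRoot (R : Fam A s) : Prop :=
  ∀ {v v' x}, A.side v = s → A.side v' = s → A.Adj v x → A.Adj v' x → R.el v x = R.el v' x

/-- The values at edges meeting away from side `s` are distinct. -/
def Fam.Sib (R : Fam A s) : Prop :=
  ∀ {v v' x}, A.side v = s → A.side v' = s → A.Adj v x → A.Adj v' x → v ≠ v' →
    R.el v x ≠ R.el v' x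

/-- The values at `v` fix everything within distance `b` of `v`. -/
def Fam.Low (R : Fam A s) (b : ℕ) : Prop :=
  ∀ {u x z}, A.side u = s → A.Adj u x → ∀ {n}, n < b → A.Reach n u z → R.el u x ∈ A.Q z

/-- Some value at the start of the arc is outside the kernel at the end. -/
def Fam.Crit (R : Fam A s) (b : ℕ) (P : ℕ → V) : Prop :=
  A.Arc b P ∧ A.side (P 0) = s ∧ ∃ x, A.Adj (P 0) x ∧ R.el (P 0) x ∉ A.Q (P b)

/-- The root at a vertex off side `s`. -/
noncomputable def Fam.root (R : Fam A s) (x : V) : G := R.el (A.exists_adj x).choose x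

namespace Fam

variable (R : Fam A s)

theorem inv_el {v x : V} (hv : A.side v = s) (hx : A.Adj v x) : (R.el v x)⁻¹ = R.el v x :=
  inv_eq_of_mul_eq_one_right (R.sq hv hx)

theorem conj_eq {v x : V} (hv : A.side v = s) (hx : A.Adj v x) {g : G} {v' x' : V}
    (h1 : g • v = v') (h2 : g • x = x') : g * R.el v x * g⁻¹ = R.el v' x' := by
  rw [R.equiv hv hx, h1, h2]

theorem comm_mem {v x : V} (hv : A.side v = s) (hx : A.Adj v x) {g : G} (hg : g ∈ A.Q v) :
    Commute g (R.el v x) := R.comm hv hx hg.1 (hg.2 x hx)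

theorem comm_el {v x y : V} (hv : A.side v = s) (hx : A.Adj v x) (hy : A.Adj v y) :
    Commute (R.el v x) (R.el v y) := R.comm_mem hv hy (R.mem_left hv hx)

theorem el_mul_el {v a b c : V} (hv : A.side v = s) (ha : A.Adj v a) (hb : A.Adj v b)
    (hc : A.Adj v c) (hab : a ≠ b) (hac : a ≠ c) (hbc : b ≠ c) :
    R.el v a * R.el v b = R.el v c := by
  rw [eq_inv_of_mul_eq_one_left (R.prod hv ha hb hc hab hac hbc), R.inv_el hv hc]

theorem el_ne {v a b : V} (hv : A.side v = s) (ha : A.Adj v a) (hb : A.Adj v b) (hab : a ≠ b) :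
    R.el v a ≠ R.el v b := by
  intro e
  obtain ⟨c, hc, hca, hcb⟩ := Amal.exists_third ha hb hab
  have := R.el_mul_el hv ha hb hc hab hca.symm hcb.symm
  rw [e, R.sq hv hb] at this
  exact R.ne_one hv hc this.symm

theorem el_inj {v a b : V} (hv : A.side v = s) (ha : A.Adj v a) (hb : A.Adj v b)
    (e : R.el v a = R.el v b) : a = b := by_contra fun h => R.el_ne hv ha hb h e

theorem fix_of_commute {v x : V} (hv : A.side v = s) (hx : A.Adj v x) {g : G} (hg : g • v = v)
    (hc : Commute g (R.el v x)) : g • x = x := by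
  refine R.el_inj hv (Amal.adj_of_smul hg hx) hx ?_
  rw [← R.conj_eq hv hx (g := g) hg rfl, hc.eq, mul_inv_cancel_right]

theorem mem_Q_of_commute {v : V} (hv : A.side v = s) {g : G} (hg : g • v = v)
    (hc : ∀ x, A.Adj v x → Commute g (R.el v x)) : g ∈ A.Q v :=
  ⟨hg, fun x hx => R.fix_of_commute hv hx hg (hc x hx)⟩

theorem mem_Q_iff {v : V} (hv : A.side v = s) {g : G} (hg : g • v = v) :
    g ∈ A.Q v ↔ ∀ x, A.Adj v x → Commute g (R.el v x) :=
  ⟨fun h x hx => R.comm_mem hv hx h, R.mem_Q_of_commute hv hg⟩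

/-- If two values lie in a subgroup, so do all. -/
theorem mem_of_two {v a b : V} (hv : A.side v = s) (ha : A.Adj v a) (hb : A.Adj v b) (hab : a ≠ b)
    {H : Subgroup G} (hHa : R.el v a ∈ H) (hHb : R.el v b ∈ H) {x : V} (hx : A.Adj v x) :
    R.el v x ∈ H := by
  by_cases h1 : x = a
  · rwa [h1]
  by_cases h2 : x = b
  · rwa [h2]
  rw [← R.el_mul_el hv ha hb hx hab (Ne.symm h1) (Ne.symm h2)]
  exact H.mul_mem hHa hHb

theorem el_eq_root (hR : R.IsRoot) {v x : V} (hv : A.side v = s) (hx : A.Adj v x) :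
    R.el v x = R.root x := by
  have h := (A.exists_adj x).choose_spec
  refine hR hv ?_ hx (A.symm h)
  rw [A.side_adj h, A.side_adj hx, hv, Bool.not_not]

theorem side_nbr {x : V} (hx : A.side x = !s) {v : V} (h : A.Adj x v) : A.side v = s := by
  rw [A.side_adj h, hx, Bool.not_not]

theorem root_comm (hR : R.IsRoot) {x : V} (hx : A.side x = !s) {g : G} (hg : g • x = x) :
    Commute g (R.root x) := by
  obtain ⟨v, hv⟩ := A.exists_adj x
  have hvs := side_nbr hx hv
  have := R.conj_eq hvs (A.symm hv) (g := g) rfl hg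
  rw [R.el_eq_root hR hvs (A.symm hv), R.el_eq_root hR ((A.side_smul g v).trans hvs)
    (Amal.adj_left_of_smul hg (A.symm hv))] at this
  exact (mul_inv_eq_iff_eq_mul.1 this : g * R.root x = R.root x * g)

theorem root_sq (hR : R.IsRoot) {x : V} (hx : A.side x = !s) : R.root x * R.root x = 1 := by
  obtain ⟨v, hv⟩ := A.exists_adj x
  rw [← R.el_eq_root hR (side_nbr hx hv) (A.symm hv)]
  exact R.sq (side_nbr hx hv) (A.symm hv)

theorem root_ne_one (hR : R.IsRoot) {x : V} (hx : A.side x = !s) : R.root x ≠ 1 := by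
  obtain ⟨v, hv⟩ := A.exists_adj x
  rw [← R.el_eq_root hR (side_nbr hx hv) (A.symm hv)]
  exact R.ne_one (side_nbr hx hv) (A.symm hv)

theorem root_conj (hR : R.IsRoot) {x : V} (hx : A.side x = !s) {g : G} {y : V} (hg : g • x = y) :
    g * R.root x * g⁻¹ = R.root y := by
  obtain ⟨v, hv⟩ := A.exists_adj x
  have hvs := side_nbr hx hv
  rw [← R.el_eq_root hR hvs (A.symm hv), R.conj_eq hvs (A.symm hv) rfl hg,
    R.el_eq_root hR ((A.side_smul g v).trans hvs) (hg ▸ A.adj_smul g (A.symm hv))]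

/-! ### Low families -/

section Low

variable {R} {b : ℕ} (hR : R.Low b)
include hR

theorem low_mono {b' : ℕ} (h : b' ≤ b) : R.Low b' :=
  fun hu hx _ hn hr => hR hu hx (lt_of_lt_of_le hn h) hr

theorem low_fix {u x z : V} (hu : A.side u = s) (hx : A.Adj u x) (hb : 0 < b) {n : ℕ}
    (hn : n ≤ b) (hr : A.Reach n u z) : R.el u x • z = z := by
  rcases Nat.lt_or_eq_of_le hn with hlt | rfl
  · exact (hR hu hx hlt hr).1
  obtain ⟨m, rfl⟩ := Nat.exists_eq_succ_of_ne_zero hb.ne'
  rcases hr with hr | ⟨y, hy, hyz⟩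
  · exact (hR hu hx (Nat.lt_succ_self m) hr).1
  · exact (hR hu hx (Nat.lt_succ_self m) hy).2 z hyz

theorem root_mem (hr : R.IsRoot) {x z : V} (hx : A.side x = !s) {n : ℕ} (hb : 0 < b) (hn : n ≤ b)
    (h : A.Reach n x z) : R.root x ∈ A.Q z := by
  obtain ⟨v, hv⟩ := A.exists_adj x
  cases n with
  | zero =>
    obtain rfl := h
    rw [← R.el_eq_root hr (side_nbr hx hv) (A.symm hv)]
    exact R.mem_right (side_nbr hx hv) (A.symm hv)
  | succ n =>
    rcases Amal.reach_head h with rfl | ⟨v', hv', hz⟩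
    · rw [← R.el_eq_root hr (side_nbr hx hv) (A.symm hv)]
      exact R.mem_right (side_nbr hx hv) (A.symm hv)
    · rw [← R.el_eq_root hr (side_nbr hx hv') (A.symm hv')]
      exact hR (side_nbr hx hv') (A.symm hv') (by omega) hz

theorem root_fix (hr : R.IsRoot) {x z : V} (hx : A.side x = !s) {n : ℕ} (hb : 0 < b)
    (hn : n ≤ b + 1) (h : A.Reach n x z) : R.root x • z = z := by
  cases n with
  | zero =>
    exact (root_mem hR hr hx hb (Nat.zero_le _) (show A.Reach 0 x z from h)).1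
  | succ n =>
    rcases h with h | ⟨y, hy, hyz⟩
    · exact (root_mem hR hr hx hb (Nat.le_of_succ_le_succ hn) h).1
    · exact (root_mem hR hr hx hb (Nat.le_of_succ_le_succ hn) hy).2 z hyz

end Low

/-! ### Critical arcs -/

theorem crit_smul {b : ℕ} {P : ℕ → V} (h : R.Crit b P) (g : G) :
    R.Crit b fun i => g • P i := by
  obtain ⟨hP, hs, x, hx, hxQ⟩ := h
  refine ⟨Amal.arc_smul g hP, (A.side_smul g _).trans hs, g • x, A.adj_smul g hx, fun hm => ?_⟩
  rw [← R.equiv hs hx g] at hm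
  exact hxQ (Amal.conj_mem_Q_iff.1 hm)

theorem crit_congr {b : ℕ} {P P' : ℕ → V} (h : R.Crit b P) (he : ∀ i ≤ b, P' i = P i) :
    R.Crit b P' := by
  obtain ⟨hP, hs, x, hx, hxQ⟩ := h
  refine ⟨⟨fun i hi => ?_, fun i hi => ?_⟩, ?_, x, ?_, ?_⟩
  · rw [he i (by omega), he (i + 1) (by omega)]
    exact hP.1 i hi
  · rw [he i (by omega), he (i + 2) (by omega)]
    exact hP.2 i hi
  · rwa [he 0 (Nat.zero_le _)]
  · rwa [he 0 (Nat.zero_le _)]
  · rwa [he 0 (Nat.zero_le _), he b le_rfl]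

theorem crit_of_trans {b : ℕ} {P P' : ℕ → V} (h : R.Crit b P) (ht : A.Trans b s)
    (hP' : A.Arc b P') (hs : A.side (P' 0) = s) : R.Crit b P' := by
  obtain ⟨g, hg⟩ := ht P P' h.1 hP' h.2.1 hs
  exact R.crit_congr (R.crit_smul h g) fun i hi => (hg i hi).symm

theorem crit_pos {b : ℕ} {P : ℕ → V} (h : R.Crit b P) : 0 < b := by
  obtain ⟨-, hs, x, hx, hxQ⟩ := h
  rcases Nat.eq_zero_or_pos b with rfl | hb
  · exact absurd (R.mem_left hs hx) hxQ
  · exact hb

/-- A family has a critical arc of least length. -/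
theorem exists_crit {v : V} (hv : A.side v = s) : ∃ b P, R.Low b ∧ R.Crit b P := by
  classical
  by_cases hex : ∃ n, ∃ u x z, A.side u = s ∧ A.Adj u x ∧ A.Reach n u z ∧ R.el u x ∉ A.Q z
  · obtain ⟨u, x, z, hu, hx, hr, hxQ⟩ := Nat.find_spec hex
    have hlow : R.Low (Nat.find hex) := fun {u' x' z'} hu' hx' {n} hn hr' =>
      by_contra fun h => Nat.find_min hex hn ⟨u', x', z', hu', hx', hr', h⟩
    obtain ⟨P, k, hk, hP, rfl, rfl⟩ := Amal.exists_arc_of_reach hr
    rcases Nat.lt_or_eq_of_le hk with hlt | rfl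
    · exact absurd (hlow hu hx hlt (Amal.arc_reach hP (Nat.zero_le _) le_rfl)) hxQ
    · exact ⟨_, P, hlow, hP, hu, x, hx, hxQ⟩
  push Not at hex
  obtain ⟨x, hx⟩ := A.exists_adj v
  let X : Subgroup G := ⨅ (z : V) (_ : ∃ n, A.Reach n v z), A.Q z
  have hX : ∀ {g : G}, g ∈ X ↔ ∀ z n, A.Reach n v z → g ∈ A.Q z := fun {g} => by
    simp [X]
  have hnorm : ∀ g : G, (∃ n, A.Reach n v (g⁻¹ • v)) → ∀ y ∈ X, g * y * g⁻¹ ∈ X := by
    rintro g ⟨m, hm⟩ y hy
    refine hX.2 fun z n hz => ?_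
    have := Amal.conj_mem_Q (g := g) (hX.1 hy (g⁻¹ • z) _
      (Amal.reach_trans hm (Amal.reach_smul g⁻¹ hz)))
    rwa [smul_inv_smul] at this
  refine absurd (A.faithful hx X (fun y hy => ⟨(hX.1 hy v 0 rfl).1,
    (hX.1 hy v 0 rfl).2 x hx⟩) (fun g hg => hnorm g ⟨0, (inv_smul_eq_iff.2 hg.symm).symm⟩)
    (fun g hg => hnorm g ⟨2, ?_⟩)) fun e => ?_
  · refine Amal.reach_cons hx (Amal.reach_adj ?_)
    have := A.adj_smul g⁻¹ (A.symm hx)
    rwa [inv_smul_eq_iff.2 hg.symm] at this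
  · have : R.el v x ∈ X := hX.2 fun z n hz => hex n v x z hv hx hz
    rw [e, Subgroup.mem_bot] at this
    exact R.ne_one hv hx this

/-- The commutator relation at the ends of a critical arc. -/
theorem transvection {b : ℕ} {P : ℕ → V} (hR : R.Low b) (h : R.Crit b P) (S : Fam A s')
    (hS : S.Low b) (he : A.side (P b) = s') :
    R.el (P 0) (P 1) = S.el (P b) (P (b - 1)) ∧
    (∀ x, A.Adj (P 0) x → x ≠ P 1 → R.el (P 0) x ∉ A.Q (P b)) ∧
    (∀ w, A.Adj (P b) w → w ≠ P (b - 1) → S.el (P b) w ∉ A.Q (P 0)) := by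
  obtain ⟨hP, hs, x₀, hx₀, hx₀Q⟩ := id h
  have hb := R.crit_pos h
  have h01 : A.Adj (P 0) (P 1) := hP.1 0 hb
  have hlast : A.Adj (P b) (P (b - 1)) := by
    have := A.symm (hP.1 (b - 1) (by omega))
    rwa [show b - 1 + 1 = b by omega] at this
  have hRfix : ∀ x, A.Adj (P 0) x → ∀ i ≤ b, R.el (P 0) x • P i = P i := fun x hx i hi =>
    low_fix hR hs hx hb hi (Amal.reach_mono (by omega) (Amal.arc_reach hP (Nat.zero_le i) hi))
  have hSfix : ∀ w, A.Adj (P b) w → ∀ i ≤ b, S.el (P b) w • P i = P i := fun w hw i hi =>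
    low_fix hS he hw hb le_rfl (Amal.arc_reach_le hP le_rfl hi (by omega) (by omega))
  have hk : R.el (P 0) (P 1) ∈ A.Q (P b) := S.mem_Q_of_commute he (hRfix _ h01 b le_rfl)
    fun w hw => (R.comm hs h01 (hSfix w hw 0 (by omega)) (hSfix w hw 1 (by omega))).symm
  have hout : ∀ x, A.Adj (P 0) x → x ≠ P 1 → R.el (P 0) x ∉ A.Q (P b) := fun x hx hne hQ =>
    hx₀Q (R.mem_of_two hs hx h01 hne hQ hk hx₀)
  have hout' : ∀ w, A.Adj (P b) w → w ≠ P (b - 1) → S.el (P b) w ∉ A.Q (P 0) := by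
    intro w hw hne hQ
    obtain ⟨x, hx, hxne⟩ := Amal.exists_other h01
    refine hout x hx hxne (Amal.mem_Q_of_two (hRfix x hx b le_rfl) hlast hw hne.symm
      (hRfix x hx (b - 1) (by omega)) ?_)
    exact S.fix_of_commute he hw (hRfix x hx b le_rfl) (R.comm_mem hs hx hQ).symm
  refine ⟨?_, hout, hout'⟩
  obtain ⟨x, x', hx, hx', hxne, hx'ne, hxx'⟩ := Amal.exists_two_others h01
  obtain ⟨w, w', hw, hw', hwne, hw'ne, hww'⟩ := Amal.exists_two_others hlast
  have e1 : S.el (P b) w * R.el (P 0) x * (S.el (P b) w)⁻¹ = R.el (P 0) x' :=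
    R.conj_eq hs hx (hSfix w hw 0 (by omega))
      (Amal.swap_of_not_mem_Q (hSfix w hw 0 (by omega)) h01 hx hx' hxne.symm hx'ne.symm hxx'
        (hSfix w hw 1 (by omega)) (hout' w hw hwne))
  have e2 : R.el (P 0) x * S.el (P b) w * (R.el (P 0) x)⁻¹ = S.el (P b) w' :=
    S.conj_eq he hw (hRfix x hx b le_rfl)
      (Amal.swap_of_not_mem_Q (hRfix x hx b le_rfl) hlast hw hw' hwne.symm hw'ne.symm hww'
        (hRfix x hx (b - 1) (by omega)) (hout x hx hxne))
  rw [S.inv_el he hw] at e1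
  rw [R.inv_el hs hx] at e2
  rw [← R.el_mul_el hs hx hx' h01 hxx' hxne hx'ne, ← e1,
    ← S.el_mul_el he hw' hw hlast hww'.symm hw'ne hwne, ← e2]
  group

/-- The fixers of a critical arc given by its start. -/
theorem wit_of_crit {b : ℕ} {P : ℕ → V} (hR : R.Low b) (h : R.Crit b P) :
    A.Wit b (A.side (P b)) := by
  obtain ⟨hP, hs, x, hx, hxQ⟩ := id h
  exact ⟨P, hP, rfl, R.el (P 0) x, fun i hi => low_fix hR hs hx (R.crit_pos h) hi
    (Amal.reach_mono (by omega) (Amal.arc_reach hP (Nat.zero_le i) hi)), hxQ⟩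

/-- The fixers of a critical arc given by its end. -/
theorem wit_rev_of_crit {b : ℕ} {P : ℕ → V} (hR : R.Low b) (h : R.Crit b P) (S : Fam A s')
    (hS : S.Low b) (he : A.side (P b) = s') : A.Wit b s := by
  have hb := R.crit_pos h
  have hlast : A.Adj (P b) (P (b - 1)) := by
    have := A.symm (h.1.1 (b - 1) (by omega))
    rwa [show b - 1 + 1 = b by omega] at this
  obtain ⟨w, hw, hwne⟩ := Amal.exists_other hlast
  obtain ⟨-, -, hout⟩ := R.transvection hR h S hS he
  refine ⟨fun i => P (b - i), Amal.arc_rev h.1, by simpa using h.2.1, S.el (P b) w,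
    fun i hi => low_fix hS he hw hb le_rfl
      (Amal.arc_reach_le h.1 le_rfl (by omega) (by omega) (by omega)), ?_⟩
  simpa using hout w hw hwne

/-- The subgroup generated by the values at `v`. -/
def gen (v : V) : Subgroup G := Subgroup.closure {y | ∃ x, A.Adj v x ∧ y = R.el v x}

theorem mem_gen {v x : V} (hx : A.Adj v x) : R.el v x ∈ R.gen v :=
  Subgroup.subset_closure ⟨x, hx, rfl⟩

theorem conj_gen {v : V} (hv : A.side v = s) (g : G) {y : G} (hy : y ∈ R.gen v) :
    g * y * g⁻¹ ∈ R.gen (g • v) := by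
  have hle : R.gen v ≤ (R.gen (g • v)).comap (MulAut.conj g).toMonoidHom := by
    refine (Subgroup.closure_le _).2 ?_
    rintro _ ⟨x, hx, rfl⟩
    show g * R.el v x * g⁻¹ ∈ R.gen (g • v)
    rw [R.equiv hv hx g]
    exact R.mem_gen (A.adj_smul g hx)
  exact hle hy

/-- Roots at distinct second neighbours through a vertex differ. -/
theorem root_siblings (hA : A.CharTwo) (hr : R.IsRoot) {u v v' x y : V} (hu : A.side u = !s)
    (hv : A.Adj u v) (hv' : A.Adj u v') (hne : v ≠ v') (hx : A.Adj v x) (hxu : x ≠ u)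
    (hy : A.Adj v' y) (hyu : y ≠ u) : R.root x ≠ R.root y := by
  intro e
  have hvs := side_nbr hu hv
  have hv's := side_nbr hu hv'
  obtain ⟨v'', hv'', h1, h2⟩ := Amal.exists_third hv hv' hne
  have hv''s := side_nbr hu hv''
  have hule : ∀ {p p' : V}, A.Adj u p → A.Adj u p' → ∀ {a a' : V}, A.Adj p a → a ≠ u →
      A.Adj p' a' → R.root a = R.root a' → R.gen p ≤ R.gen p' := by
    intro p p' hp hp' a a' ha hau ha' ea
    refine (Subgroup.closure_le _).2 ?_
    rintro _ ⟨z, hz, rfl⟩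
    refine R.mem_of_two (side_nbr hu hp) ha (A.symm hp) hau ?_ ?_ hz
    · rw [R.el_eq_root hr (side_nbr hu hp) ha, ea, ← R.el_eq_root hr (side_nbr hu hp') ha']
      exact R.mem_gen ha'
    · rw [R.el_eq_root hr (side_nbr hu hp) (A.symm hp),
        ← R.el_eq_root hr (side_nbr hu hp') (A.symm hp')]
      exact R.mem_gen (A.symm hp')
  have e01 : R.gen v = R.gen v' :=
    le_antisymm (hule hv hv' hx hxu hy e) (hule hv' hv hy hyu hx e.symm)
  obtain ⟨q, hq, hqu⟩ := Amal.exists_mem_Q_not_mem hA (A.symm hv)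
  have hqfu : q • u = u := hq.2 u (A.symm hv)
  have hsw : q • v' = v'' := Amal.swap_of_not_mem_Q hqfu hv hv' hv'' hne h1.symm h2.symm hq.1 hqu
  have hqy : A.Adj v'' (q • y) := hsw ▸ A.adj_smul q hy
  have hqyu : q • y ≠ u := fun e' => hyu (MulAction.injective q (e'.trans hqfu.symm))
  have e' : R.root x = R.root (q • y) := by
    rw [← R.root_conj hr (x := y) (by rw [A.side_adj hy, hv's]) (g := q) rfl, ← e]
    rw [← R.el_eq_root hr hvs hx, (R.comm_mem hvs hx hq).eq, mul_inv_cancel_right]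
  have e02 : R.gen v = R.gen v'' :=
    le_antisymm (hule hv hv'' hx hxu hqy e') (hule hv'' hv hqy hqyu hx e'.symm)
  refine absurd (A.faithful hv (R.gen v) (fun y hy => ?_) (fun g hg y hy => ?_)
    (fun g hg y hy => ?_)) fun hbot => ?_
  · have hle : R.gen v ≤ stabilizer G u ⊓ stabilizer G v := by
      refine (Subgroup.closure_le _).2 ?_
      rintro _ ⟨z, hz, rfl⟩
      exact ⟨(R.mem_left hvs hz).2 u (A.symm hv), (R.mem_left hvs hz).1⟩
    exact hle hy
  · have := R.conj_gen hvs g hy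
    rcases Amal.nbr_cases hv hv' hv'' hne h1.symm h2.symm (Amal.adj_of_smul hg hv) with h | h | h
    · rwa [h] at this
    · rwa [h, ← e01] at this
    · rwa [h, ← e02] at this
  · have := R.conj_gen hvs g hy
    rwa [hg] at this
  · have := R.mem_gen (v := v) hx
    rw [hbot, Subgroup.mem_bot] at this
    exact R.ne_one hvs hx this

end Fam

end Cfsg.Agent.Goldschmidt
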