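import Cfsg.Agent.Lib.Goldschmidt.Family

/-!
# The shift, the bound for critical length one, and even critical lengths
-/

set_option autoImplicit false

namespace Cfsg.Agent.Goldschmidt

open MulAction

variable {G V : Type*} [Group G] [MulAction G V]

/-- Every edge stabiliser has order at most `2 ^ 7`. -/
def Amal.Bounded (A : Amal G V) : Prop :=
  ∀ u v, A.Adj u v → Nat.card ↥(stabilizer G u ⊓ stabilizer G v) ≤ 2 ^ 7

variable {A : Amal G V} {s : Bool}

theorem Amal.bounded_of_edge {u v : V} (h : A.Adj u v)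
    (hb : Nat.card ↥(stabilizer G u ⊓ stabilizer G v) ≤ 2 ^ 7) : A.Bounded := by
  have key : ∀ {u' v' : V}, A.Adj u' v' → A.side u = A.side u' →
      Nat.card ↥(stabilizer G u' ⊓ stabilizer G v') ≤ 2 ^ 7 := by
    intro u' v' h' hs
    obtain ⟨g, rfl, rfl⟩ := A.edge h h' hs
    refine le_of_eq_of_le ?_ hb
    have he : stabilizer G (g • u) ⊓ stabilizer G (g • v) =
        (stabilizer G u ⊓ stabilizer G v).map (MulAut.conj g).toMonoidHom := by
      rw [Subgroup.map_inf_eq _ _ _ (MulAut.conj g).injective,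
        ← stabilizer_smul_eq_stabilizer_map_conj, ← stabilizer_smul_eq_stabilizer_map_conj]
    rw [he]
    exact Nat.card_congr
      (Subgroup.equivMapOfInjective _ _ (MulAut.conj g).injective).toEquiv.symm
  intro u' v' h'
  by_cases hs : A.side u = A.side u'
  · exact key h' hs
  · rw [inf_comm]
    refine key (A.symm h') ?_
    rw [A.side_adj h']
    exact Bool.eq_not.2 hs

namespace Fam

/-- A vertex is on one of the two sides. -/
theorem pick (R : Fam A s) (S : Fam A !s) {b : ℕ} (hR : R.Low b) (hS : S.Low b) (v : V) :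
    ∃ (e : Bool) (T : Fam A e), T.Low b ∧ A.side v = e := by
  by_cases h : A.side v = s
  · exact ⟨s, R, hR, h⟩
  · exact ⟨!s, S, hS, Bool.eq_not.2 h⟩

/-- The shift: no critical arc of length at least two starts opposite a separated family. -/
theorem shift (hA : A.CharTwo) (R : Fam A s) (R' : Fam A !s) {b : ℕ} (hR : R.Low b)
    (hR' : R'.Low b) (hsib : R'.Sib) {P : ℕ → V} (h : R.Crit b P) (hb : 2 ≤ b) : False := by
  obtain ⟨k, rfl⟩ : ∃ k, b = k + 2 := ⟨b - 2, by omega⟩
  obtain ⟨hP, hs, -⟩ := id h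
  have h01 : A.Adj (P 0) (P 1) := hP.1 0 (by omega)
  obtain ⟨u, hu, hu1⟩ := Amal.exists_other h01
  have hus : A.side u = !s := by rw [A.side_adj hu, hs]
  obtain ⟨e, S, hS, he⟩ := R.pick R' hR hR' (P (k + 2))
  obtain ⟨w, w', hw, hw', hwne, hw'ne, hww'⟩ :=
    Amal.exists_two_others (A.symm (hP.1 (k + 1) (by omega)))
  have hfix : ∀ i ≤ k + 2, S.el (P (k + 2)) w • P i = P i := fun i hi =>
    low_fix hS he hw (by omega) le_rfl (Amal.arc_reach_le hP le_rfl hi (by omega) (by omega))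
  obtain ⟨hRS, -, hout⟩ := R.transvection hR h S hS he
  rw [show k + 2 - 1 = k + 1 by omega] at hout hRS
  set n := S.el (P (k + 2)) w with hn
  have hn0 : n • P 0 = P 0 := hfix 0 (by omega)
  have hn1 : n • P 1 = P 1 := hfix 1 (by omega)
  have hnu : n • u ≠ u :=
    Amal.exists_swapped hn0 h01 hn1 (hout w hw hwne) u hu hu1
  have hu' : A.Adj (P 0) (n • u) := Amal.adj_of_smul hn0 hu
  have hu's : A.side (n • u) = !s := (A.side_smul n u).trans hus
  have hQ : A.Arc (k + 2) (pre u P) :=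
    Amal.arc_le (Amal.arc_pre hP (A.symm hu) fun _ => hu1) (by omega)
  by_cases hc : R'.Crit (k + 2) (pre u P)
  · obtain ⟨e', S', hS', he'⟩ := R.pick R' hR hR' (P (k + 1))
    obtain ⟨e1, -, -⟩ := R'.transvection hR' hc S' hS' (by simpa using he')
    simp only [pre_zero, pre_succ, show k + 2 - 1 = k + 1 by omega] at e1
    refine hsib hus hu's (A.symm hu) (A.symm hu') hnu.symm ?_
    rw [← R'.conj_eq hus (A.symm hu) (g := n) rfl hn0, e1,
      (S'.comm he' (A.symm (hP.1 k (by omega))) (hfix _ (by omega)) (hfix k (by omega))).eq,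
      mul_inv_cancel_right]
  have hall : ∀ x, A.Adj u x → R'.el u x ∈ A.Q (P (k + 1)) := fun x hx =>
    by_contra fun hm => hc ⟨hQ, hus, x, hx, hm⟩
  obtain ⟨x, x', hx, hx', hx0, hx'0, hxx'⟩ := Amal.exists_two_others (A.symm hu)
  set m := R'.el u x with hm
  have hmfix : m • P (k + 2) = P (k + 2) := (hall x hx).2 _ (hP.1 (k + 1) (by omega))
  have hm' : n * m * n⁻¹ = R'.el (n • u) (n • x) := R'.equiv hus hx n
  set m' := R'.el (n • u) (n • x) with hm'def
  obtain ⟨q, hq, hqu⟩ := Amal.exists_mem_Q_not_mem hA hu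
  have hqc : q * (m * m') * q⁻¹ = m * m' := by
    have hmn : m * n * m⁻¹ = S.el (P (k + 2)) (m • w) := S.conj_eq he hw hmfix rfl
    rw [R'.inv_el hus hx, ← hm] at hmn
    rw [S.inv_el he hw] at hm'
    have hmm' : m * m' = m * n * m * n := by
      rw [← hm', ← hn]
      simp only [mul_assoc]
    rcases Amal.nbr_cases (A.symm (hP.1 (k + 1) (by omega))) hw hw' hwne.symm hw'ne.symm hww'
        (Amal.adj_of_smul hmfix hw) with h1 | h1 | h1
    · exact absurd ((MulAction.injective m (h1.trans ((hall x hx).1).symm))) hwne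
    · rw [hmm', hmn, h1, S.sq he hw, mul_one, mul_inv_cancel]
    · rw [hmm', hmn, h1, S.el_mul_el he hw' hw (A.symm (hP.1 (k + 1) (by omega))) hww'.symm hw'ne
        hwne, ← hRS, (R.comm_mem hs h01 hq).eq, mul_inv_cancel_right]
  have hqfu : q • u = u := hq.2 u hu
  have hqu' : q • (n • u) = n • u := hq.2 _ hu'
  have h1 : q * m * q⁻¹ = R'.el u x' := R'.conj_eq hus hx hqfu
    (Amal.swap_of_not_mem_Q hqfu (A.symm hu) hx hx' hx0.symm hx'0.symm hxx' hq.1 hqu)
  have h2 : q * m' * q⁻¹ = R'.el (n • u) (q • n • x) :=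
    R'.conj_eq hu's (A.adj_smul n hx) hqu' rfl
  have h3 : R'.el u x' * R'.el (n • u) (q • n • x) = m * m' := by
    rw [← h1, ← h2, ← hqc]
    group
  rw [← R'.el_mul_el hus (A.symm hu) hx hx' hx0.symm hx'0.symm hxx'] at h3
  by_cases hqx : q • n • x = n • x
  · rw [hqx, mul_assoc, mul_eq_right] at h3
    exact R'.ne_one hus (A.symm hu) h3
  have hnx0 : n • x ≠ P 0 := fun e' => hx0 (MulAction.injective n (e'.trans hn0.symm))
  rw [← R'.el_mul_el hu's (A.symm hu') (A.adj_smul n hx) (Amal.adj_of_smul hqu' (A.adj_smul n hx))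
      hnx0.symm (fun e' => hnx0 (MulAction.injective q (e'.symm.trans hq.1.symm)))
      (Ne.symm hqx)] at h3
  have hcm : Commute m (R'.el (n • u) (P 0)) :=
    R'.comm hu's (A.symm hu')
      (low_fix hR' hus hx (by omega) (by omega)
        (Amal.reach_cons (A.symm hu) (Amal.reach_adj hu')))
      (low_fix hR' hus hx (by omega) (n := 1) (by omega) (Amal.reach_adj (A.symm hu)))
  rw [mul_assoc (R'.el u (P 0)), ← mul_assoc m, hcm.eq, mul_assoc (R'.el (n • u) (P 0)),
    ← mul_assoc, mul_eq_right] at h3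
  refine hsib hus hu's (A.symm hu) (A.symm hu') hnu.symm ?_
  rw [eq_inv_of_mul_eq_one_left h3, R'.inv_el hu's (A.symm hu')]

/-- If some value is outside the kernel at the other end of its edge, the order is bounded. -/
theorem small_bound (R : Fam A s) {P : ℕ → V} (h : R.Crit 1 P) : A.Bounded := by
  have hkey : ∀ {α β : V}, A.side α = s → A.Adj α β → ∃ x, A.Adj α x ∧ R.el α x ∉ A.Q β := by
    intro α β hα hαβ
    obtain ⟨g, hg0, hg1⟩ := A.edge (h.1.1 0 one_pos) hαβ (h.2.1.trans hα.symm)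
    obtain ⟨-, -, x, hx, hxQ⟩ := R.crit_smul h g
    simp only [hg0] at hx hxQ
    exact ⟨x, hx, by simpa [hg1] using hxQ⟩
  have hpar : ∀ {α β w w' : V}, A.side α = s → A.Adj β α → A.Adj β w → A.Adj β w' → α ≠ w →
      α ≠ w' → w ≠ w' → ∀ {g : G}, g ∈ A.Q α → g ∈ A.Q w → g ∈ A.Q w' := by
    intro α β w w' hα hβα hw hw' h1 h2 h3 g hgα hgw
    obtain ⟨x, hx, hxQ⟩ := hkey hα (A.symm hβα)
    have hax : R.el α x • α = α := (R.mem_left hα hx).1
    have haβ : R.el α x • β = β := (R.mem_left hα hx).2 β (A.symm hβα)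
    have := Amal.conj_mem_Q (g := R.el α x) hgw
    rwa [Amal.swap_of_not_mem_Q haβ hβα hw hw' h1 h2 h3 hax hxQ,
      ← (R.comm_mem hα hx hgα).eq, mul_inv_cancel_right] at this
  set α := P 0 with hαdef
  have hα : A.side α = s := h.2.1
  set β := P 1 with hβdef
  have hαβ : A.Adj α β := h.1.1 0 one_pos
  refine Amal.bounded_of_edge hαβ ?_
  rw [Amal.card_edge hαβ]
  obtain ⟨w, w', hw, hw', hwα, hw'α, hww'⟩ := Amal.exists_two_others (A.symm hαβ)
  have c1 : Nat.card (A.Q α) ≤ 2 * Nat.card ↥(A.Q α ⊓ A.Q β) :=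
    Amal.card_le_two_mul_Q (A.symm hαβ) fun q hq => ⟨hq.2 β hαβ, hq.1⟩
  have c2 : Nat.card ↥(A.Q α ⊓ A.Q β) ≤ 2 * Nat.card ↥(A.Q α ⊓ A.Q β ⊓ A.Q w) :=
    Amal.card_le_two_mul_Q (A.symm hw) fun q hq => ⟨hq.2.2 w hw, hq.2.1⟩
  have c3 : A.Q α ⊓ A.Q β ⊓ A.Q w ≤ A.ball 2 β := fun q hq => Amal.mem_ball_two.2 fun x hx => by
    rcases Amal.nbr_cases (A.symm hαβ) hw hw' hwα.symm hw'α.symm hww' hx with rfl | rfl | rfl
    · exact hq.1.1
    · exact hq.2
    · exact hpar hα (A.symm hαβ) hw hw' hwα.symm hw'α.symm hww' hq.1.1 hq.2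
  have : Finite (A.ball 2 β) := A.finite_of_le (v := β) fun q hq => Amal.ball_smul_self _ hq
  have c4 := Subgroup.card_le_of_le c3
  obtain ⟨β₂, β₃, hβ₂, hβ₃, hne2, hne3, hne23⟩ := Amal.exists_two_others hαβ
  -- intersecting with the ball at another neighbour of `α` costs a factor `4`
  have hstep : ∀ {γ : V}, A.Adj α γ → ∀ (X : Subgroup G), X ≤ A.Q α →
      Nat.card X ≤ 4 * Nat.card ↥(X ⊓ A.ball 2 γ) := by
    intro γ hγ X hX
    obtain ⟨y, y', hy, hy', hyα, hy'α, hyy'⟩ := Amal.exists_two_others (A.symm hγ)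
    have d1 : Nat.card X ≤ 2 * Nat.card ↥(X ⊓ A.Q γ) :=
      Amal.card_le_two_mul_Q (A.symm hγ) fun q hq => ⟨(hX hq).2 γ hγ, (hX hq).1⟩
    have d2 : Nat.card ↥(X ⊓ A.Q γ) ≤ 2 * Nat.card ↥(X ⊓ A.Q γ ⊓ A.Q y) :=
      Amal.card_le_two_mul_Q (A.symm hy) fun q hq => ⟨hq.2.2 y hy, hq.2.1⟩
    have d3 : X ⊓ A.Q γ ⊓ A.Q y ≤ X ⊓ A.ball 2 γ := fun q hq =>
      ⟨hq.1.1, Amal.mem_ball_two.2 fun z hz => by
        rcases Amal.nbr_cases (A.symm hγ) hy hy' hyα.symm hy'α.symm hyy' hz with rfl | rfl | rfl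
        · exact hX hq.1.1
        · exact hq.2
        · exact hpar hα (A.symm hγ) hy hy' hyα.symm hy'α.symm hyy' (hX hq.1.1) hq.2⟩
    have : Finite ↥(X ⊓ A.ball 2 γ) := A.finite_of_le (v := γ) fun q hq =>
      Amal.ball_smul_self _ hq.2
    have d4 := Subgroup.card_le_of_le d3
    omega
  have hballQ : A.ball 2 β ≤ A.Q α := fun q hq => Amal.mem_ball_two.1 hq α (A.symm hαβ)
  have e1 := hstep hβ₂ (A.ball 2 β) hballQ
  have e2 := hstep hβ₃ (A.ball 2 β ⊓ A.ball 2 β₂) (inf_le_left.trans hballQ)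
  set X := A.ball 2 β ⊓ A.ball 2 β₂ ⊓ A.ball 2 β₃ with hXdef
  have hX : X = ⊥ := by
    have hXα : ∀ g : G, g • α = α → ∀ y ∈ X, g * y * g⁻¹ ∈ X := by
      intro g hg y hy
      have hmem : ∀ z, A.Adj α z → g * y * g⁻¹ ∈ A.ball 2 z := by
        intro z hz
        have hz' : A.Adj α (g⁻¹ • z) := Amal.adj_of_smul (inv_smul_eq_iff.2 hg.symm) hz
        have : y ∈ A.ball 2 (g⁻¹ • z) := by
          rcases Amal.nbr_cases hαβ hβ₂ hβ₃ hne2.symm hne3.symm hne23 hz' with e | e | e <;>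
            rw [e]
          exacts [hy.1.1, hy.1.2, hy.2]
        have := Amal.conj_mem_ball (A := A) 2 (g := g) this
        rwa [smul_inv_smul] at this
      exact ⟨⟨hmem _ hαβ, hmem _ hβ₂⟩, hmem _ hβ₃⟩
    let C : Subgroup G := stabilizer G β ⊓ Subgroup.centralizer (A.ball 2 β : Set G)
    obtain ⟨x, hx, hxQ⟩ := hkey hα hαβ
    have hxC : R.el α x ∈ C := ⟨(R.mem_left hα hx).2 β hαβ,
      fun d hd => (R.comm_mem hα hx (hballQ hd)).eq⟩
    have hCn : ∀ g : G, g • β = β → ∀ c ∈ C, g * c * g⁻¹ ∈ C := by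
      intro g hg c hc
      have hg' : g⁻¹ • β = β := inv_smul_eq_iff.2 hg.symm
      refine ⟨?_, fun d hd => ?_⟩
      · show (g * c * g⁻¹) • β = β
        rw [mul_smul, mul_smul, hg', show c • β = β from hc.1, hg]
      · have := hc.2 _ (Amal.normal_ball (n := 2) hg' hd)
        rw [inv_inv] at this
        calc d * (g * c * g⁻¹) = g * (g⁻¹ * d * g * c) * g⁻¹ := by group
          _ = g * (c * (g⁻¹ * d * g)) * g⁻¹ := by rw [this]
          _ = g * c * g⁻¹ * d := by group
    have htr := Amal.transitive_of_normal (N := C) (fun n (hn : n ∈ C) =>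
      (Subgroup.mem_inf.1 (show n ∈ stabilizer G β ⊓ _ from hn)).1) hCn hxC hxQ
    refine A.faithful hαβ X (fun y hy => ⟨(hballQ hy.1.1).1, (hballQ hy.1.1).2 β hαβ⟩) hXα
      fun g hg y hy => ?_
    obtain ⟨n, hn, t, -, htα, rfl⟩ := Amal.exists_edge_mul (A.symm hαβ) htr hg
    have hty := hXα t htα y hy
    have hn' : n ∈ stabilizer G β ⊓ Subgroup.centralizer (A.ball 2 β : Set G) := hn
    have := (Subgroup.mem_inf.1 hn').2 _ hty.1.1
    rw [show n * t * y * (n * t)⁻¹ = n * (t * y * t⁻¹) * n⁻¹ by group, ← this]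
    simpa using hty
  rw [hX, Subgroup.card_bot] at e2
  omega

/-- No root family has even critical length at least four. -/
theorem even_false (hA : A.CharTwo) (R : Fam A s) (hr : R.IsRoot) {b : ℕ} {P : ℕ → V}
    (hR : R.Low b) (h : R.Crit b P) (hev : Even b) (hb : 4 ≤ b) : False := by
  obtain ⟨k, rfl⟩ : ∃ k, b = k + 4 := ⟨b - 4, by omega⟩
  obtain ⟨hP, hs, -⟩ := id h
  have hend : A.side (P (k + 4)) = s := (Amal.side_of_even hP le_rfl hev).trans hs
  have h01 : A.Adj (P 0) (P 1) := hP.1 0 (by omega)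
  have hlast : A.Adj (P (k + 4)) (P (k + 3)) := A.symm (hP.1 (k + 3) (by omega))
  obtain ⟨hRS, -, hout⟩ := R.transvection hR h R hR hend
  rw [show k + 4 - 1 = k + 3 by omega] at hRS hout
  obtain ⟨w, w', hw, hw', hwne, hw'ne, hww'⟩ := Amal.exists_two_others hlast
  set n := R.el (P (k + 4)) w with hn
  have hfix : ∀ i ≤ k + 4, n • P i = P i := fun i hi =>
    low_fix hR hend hw (by omega) le_rfl (Amal.arc_reach_le hP le_rfl hi (by omega) (by omega))
  obtain ⟨u, hu, hu1⟩ := Amal.exists_other h01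
  have hus : A.side u = !s := by rw [A.side_adj hu, hs]
  have hnu : n • u ≠ u :=
    Amal.exists_swapped (hfix 0 (by omega)) h01 (hfix 1 (by omega)) (hout w hw hwne) u hu hu1
  have hu' : A.Adj (P 0) (n • u) := Amal.adj_of_smul (hfix 0 (by omega)) hu
  obtain ⟨δ, hδ, hδ0⟩ := Amal.exists_other (A.symm hu)
  have hδs : A.side δ = s := side_nbr hus hδ
  have hD : A.Arc (k + 6) (pre δ (pre u P)) :=
    Amal.arc_pre (Amal.arc_pre hP (A.symm hu) fun _ => hu1) (A.symm hδ) fun _ => hδ0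
  by_cases hc : R.Crit (k + 4) (pre δ (pre u P))
  · obtain ⟨e1, -, -⟩ := R.transvection hR hc R hR (by
      show A.side (P (k + 2)) = s
      rw [← hend]
      exact (Amal.side_add_two hP (i := k + 2) le_rfl).symm)
    simp only [pre_zero, pre_succ, show k + 4 - 1 = k + 3 by omega] at e1
    have hk2 : A.side (P (k + 2)) = s := by
      rw [← hend]
      exact (Amal.side_add_two hP (i := k + 2) le_rfl).symm
    refine R.el_ne hs hu hu' hnu.symm ?_
    rw [← R.conj_eq hs hu (g := n) (hfix 0 (by omega)) rfl, R.el_eq_root hr hs hu,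
      ← R.el_eq_root hr hδs (A.symm hδ), e1,
      (R.comm hk2 (A.symm (hP.1 (k + 1) (by omega))) (hfix (k + 2) (by omega))
        (hfix (k + 1) (by omega))).eq, mul_inv_cancel_right]
  have hDb : A.Arc (k + 4) (pre δ (pre u P)) := Amal.arc_le hD (by omega)
  have hm3 : ∀ x, A.Adj δ x → R.el δ x ∈ A.Q (P (k + 2)) := fun x hx => by_contra fun hm =>
    hc ⟨hDb, hδs, x, hx, hm⟩
  -- nothing at `δ` moves the end
  have hm4 : ∀ x, A.Adj δ x → R.el δ x • P (k + 4) = P (k + 4) := by
    intro x hx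
    by_contra hne
    have hQ : R.el δ x ∉ A.Q (P (k + 3)) := fun hm => hne (hm.2 _ (hP.1 (k + 3) (by omega)))
    have w1 : A.Wit (k + 5) (!s) := by
      refine ⟨pre δ (pre u P), Amal.arc_le hD (by omega), ?_, R.el δ x, fun i hi => ?_, hQ⟩
      · show A.side (P (k + 3)) = !s
        rw [← hend]
        exact A.side_adj hlast
      · rcases Nat.lt_or_eq_of_le hi with hi | rfl
        · exact low_fix hR hδs hx (by omega) le_rfl
            (Amal.arc_reach_le hDb (Nat.zero_le _) (by omega) (by omega) (by omega))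
        · exact (hm3 x hx).2 _ (hP.1 (k + 2) (by omega))
    have w2 : A.Wit (k + 4) s := hend ▸ R.wit_of_crit hR h
    have ht : A.Trans (k + 4) s := Amal.trans_of_wit (fun l _ hl e => by
      by_cases he : e = s
      · exact he ▸ Amal.wit_le w2 hl.le
      · rw [Bool.eq_not.2 he]
        exact Amal.wit_le w1 (by omega)) s
    exact hc (R.crit_of_trans h ht hDb hδs)
  -- transport the first three edges
  let Q3 : ℕ → V := pre δ (pre u (app P 0 (n • u)))
  have hQ3 : A.Arc 3 Q3 := by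
    refine Amal.arc_pre (Amal.arc_pre (Amal.arc_app (P := P) (n := 0)
      (Amal.arc_le hP (Nat.zero_le _)) hu' (fun h => absurd h (lt_irrefl 0)))
      (A.symm hu) fun _ => ?_) (A.symm hδ) fun _ => hδ0
    show u ≠ app P 0 (n • u) 1
    rw [app_gt (by omega)]
    exact hnu.symm
  obtain ⟨g, hg⟩ := Amal.trans_three hA s P Q3 (Amal.arc_le hP (by omega)) hQ3 hs hδs
  have hcr := R.crit_smul h g
  have hg0 : g • P 0 = δ := hg 0 (by omega)
  have hg1 : g • P 1 = u := hg 1 (by omega)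
  have hg2 : g • P 2 = P 0 :=
    (hg 2 (by omega)).trans (app_le (P := P) (n := 0) (w := n • u) (i := 0) le_rfl)
  have hg3 : g • P 3 = n • u :=
    (hg 3 le_rfl).trans (app_gt (P := P) (n := 0) (w := n • u) (i := 1) Nat.one_pos)
  obtain ⟨x, hx, hxu⟩ := Amal.exists_other (A.symm (A.symm (A.symm hδ)))
  have hgend : A.side (g • P (k + 4)) = s := (A.side_smul g _).trans hend
  obtain ⟨-, hout2, -⟩ := R.transvection hR hcr R hR hgend
  have hmQ : R.el δ x ∉ A.Q (g • P (k + 4)) := by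
    have := hout2 x (by rwa [hg0]) (by rwa [hg1])
    rwa [hg0] at this
  set m := R.el δ x with hm
  -- the conjugate of `m` by `n`
  have hm' : n * m * n⁻¹ = R.root (n • x) := by
    rw [hm, R.equiv hδs hx n, R.el_eq_root hr ((A.side_smul n δ).trans hδs) (A.adj_smul n hx)]
  have hmn : m * n * m⁻¹ = R.el (P (k + 4)) (m • w) := R.conj_eq hend hw (hm4 x hx) rfl
  have hprod : m = R.root (n • x) ∨ m = R.root (P 1) * R.root (n • x) := by
    rw [R.inv_el hend hw] at hm'
    rw [R.inv_el hδs hx, ← hm] at hmn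
    rw [← hn] at hm'
    have hms : m * m = 1 := R.sq hδs hx
    have hns : n * n = 1 := R.sq hend hw
    rcases Amal.nbr_cases hlast hw hw' hwne.symm hw'ne.symm hww'
        (Amal.adj_of_smul (hm4 x hx) hw) with e | e | e
    · exact absurd (MulAction.injective m (e.trans ((hm3 x hx).2 _ (hP.1 (k + 2) (by omega))).symm))
        hwne
    · left
      rw [← hm']
      rw [e] at hmn
      calc m = n * (n * m) := by rw [← mul_assoc, hns, one_mul]
        _ = n * ((m * n * m) * m) := by rw [hmn]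
        _ = n * m * n * (m * m) := by group
        _ = n * m * n := by rw [hms, mul_one]
    · right
      rw [← hm', ← R.el_eq_root hr hs h01, hRS,
        ← R.el_mul_el hend hw' hw hlast hww'.symm hw'ne hwne, ← e, ← hmn]
      calc m = m * n * (m * m) * n := by rw [hms, mul_one, mul_assoc, hns, mul_one]
        _ = m * n * m * (n * n) * m * n := by
          rw [hns, mul_one]
          group
        _ = m * n * m * n * (n * m * n) := by group
  obtain ⟨p, hp, hpm⟩ : ∃ p, A.Adj (g • P (k + 4)) p ∧ m • p ≠ p := by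
    by_contra hcon
    push Not at hcon
    refine hmQ ⟨low_fix hR hδs hx (by omega) le_rfl ?_, hcon⟩
    have := Amal.arc_reach_le hcr.1 (Nat.zero_le _) (j := k + 4) le_rfl (k := k + 4) (by omega)
      (by omega)
    simp only [hg0] at this
    exact this
  have hr3 : A.Reach (k + 1) (n • u) (g • P (k + 4)) := by
    rw [← hg3]
    exact Amal.arc_reach_le hcr.1 (i := 3) (by omega) le_rfl (by omega) (by omega)
  have hx1 : A.side (n • x) = !s := (A.side_smul n x).trans (by rw [A.side_adj hx, hδs])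
  have f1 : R.root (n • x) • p = p := root_fix hR hr hx1 (by omega) (n := k + 4) (by omega)
    (Amal.reach_snoc (Amal.reach_cons (Amal.adj_smul_iff.2 (A.symm hx))
      (Amal.reach_cons (Amal.adj_smul_iff.2 (A.symm hδ)) hr3)) hp)
  have f2 : R.root (P 1) • p = p := root_fix hR hr (by rw [A.side_adj h01, hs]) (by omega)
    (n := k + 4) (by omega)
    (Amal.reach_snoc (Amal.reach_cons (A.symm h01) (Amal.reach_cons hu' hr3)) hp)
  rcases hprod with e | e
  · exact hpm (by rw [e, f1])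
  · exact hpm (by rw [e, mul_smul, f1, f2])

end Fam

end Cfsg.Agent.Goldschmidt
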