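import Cfsg.Agent.Lib.Goldschmidt.OddCrit

/-!
# Commutators of roots at both ends of lines of length `b - 1`
-/

set_option autoImplicit false

namespace Cfsg.Agent.Goldschmidt

open MulAction

variable {G V : Type*} [Group G] [MulAction G V]

/-- No nontrivial involution of an edge stabiliser is central in the vertex stabiliser on side
`s`. -/
def Amal.NoCen (A : Amal G V) (s : Bool) : Prop :=
  ∀ {α v : V} {y : G}, A.side α = s → A.Adj α v → y • α = α → y • v = v → y * y = 1 →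
    (∀ g : G, g • α = α → Commute g y) → y = 1

/-- `o` is at distance two from `c`, not through `p`. -/
def Amal.Kid (A : Amal G V) (c p o : V) : Prop :=
  ∃ m, A.Adj c m ∧ m ≠ p ∧ A.Adj m o ∧ o ≠ c

variable {A : Amal G V} {s : Bool}

namespace Fam

variable (R : Fam A s)

/-- The standing assumptions for odd critical length `k + 3`. -/
structure Odd3 (k : ℕ) : Prop where
  isRoot : R.IsRoot
  low : R.Low (k + 3)
  all : R.AllCrit (k + 3)
  odd : Odd (k + 3)

/-- The commutator of two roots. -/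
noncomputable def comm2 (o γ : V) : G := R.root o * R.root γ * R.root o * R.root γ

open Classical in
/-- The commutator of some roots beyond two given edges. -/
noncomputable def lineAux (a b c d : V) : G :=
  if h : ∃ p : V × V, A.Kid a b p.1 ∧ A.Kid d c p.2 then R.comm2 h.choose.1 h.choose.2 else 1

/-- The common commutator of the roots beyond the two ends of a line. -/
noncomputable def line (k : ℕ) (L : ℕ → V) : G :=
  R.lineAux (L 0) (L 1) (L (k + 1)) (L (k + 2))

variable {R}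

theorem inv_root (hr : R.IsRoot) {x : V} (hx : A.side x = !s) : (R.root x)⁻¹ = R.root x :=
  inv_eq_of_mul_eq_one_right (R.root_sq hr hx)

theorem root_mul_root (hr : R.IsRoot) {v a b c : V} (hv : A.side v = s) (ha : A.Adj v a)
    (hb : A.Adj v b) (hc : A.Adj v c) (hab : a ≠ b) (hac : a ≠ c) (hbc : b ≠ c) :
    R.root a * R.root b = R.root c := by
  rw [← R.el_eq_root hr hv ha, ← R.el_eq_root hr hv hb, ← R.el_eq_root hr hv hc]
  exact R.el_mul_el hv ha hb hc hab hac hbc

theorem root_ne (hr : R.IsRoot) {v a b : V} (hv : A.side v = s) (ha : A.Adj v a) (hb : A.Adj v b)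
    (hab : a ≠ b) : R.root a ≠ R.root b := by
  rw [← R.el_eq_root hr hv ha, ← R.el_eq_root hr hv hb]
  exact R.el_ne hv ha hb hab

theorem root_inj (hr : R.IsRoot) {v a b : V} (hv : A.side v = s) (ha : A.Adj v a) (hb : A.Adj v b)
    (e : R.root a = R.root b) : a = b := by_contra fun h => root_ne hr hv ha hb h e

theorem kid_side {c p o : V} (hc : A.side c = !s) (h : A.Kid c p o) : A.side o = !s := by
  obtain ⟨m, hm, -, ho, -⟩ := h
  rw [A.side_adj ho, A.side_adj hm, hc, Bool.not_not]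

theorem kid_reach {c p o : V} (h : A.Kid c p o) : A.Reach 2 o c := by
  obtain ⟨m, hm, -, ho, -⟩ := h
  exact Amal.reach_cons (A.symm ho) (Amal.reach_adj (A.symm hm))

theorem kid_smul {c p o : V} (g : G) (h : A.Kid c p o) : A.Kid (g • c) (g • p) (g • o) := by
  obtain ⟨m, hm, hmp, ho, hoc⟩ := h
  exact ⟨g • m, A.adj_smul g hm, fun e => hmp (MulAction.injective g e), A.adj_smul g ho,
    fun e => hoc (MulAction.injective g e)⟩

theorem exists_kid {c p : V} (h : A.Adj c p) : ∃ o, A.Kid c p o := by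
  obtain ⟨m, hm, hmp⟩ := Amal.exists_other h
  obtain ⟨o, ho, hoc⟩ := Amal.exists_other (A.symm hm)
  exact ⟨o, m, hm, hmp, ho, hoc⟩

variable {k : ℕ}

theorem line_end (H : R.Odd3 k) {L : ℕ → V} (hL : A.Arc (k + 2) L) (h0 : A.side (L 0) = !s) :
    A.side (L (k + 2)) = !s := by
  rw [Amal.side_of_even hL le_rfl ?_, h0]
  obtain ⟨m, hm⟩ := H.odd
  exact ⟨m, by omega⟩

theorem line_rev_arc {L : ℕ → V} (hL : A.Arc (k + 2) L) :
    A.Arc (k + 2) fun i => L (k + 2 - i) := Amal.arc_rev hL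

/-- A root beyond one end of a line fixes the line. -/
theorem kid_fix (H : R.Odd3 k) {L : ℕ → V} (hL : A.Arc (k + 2) L) (h0 : A.side (L 0) = !s)
    {o : V} (ho : A.Kid (L 0) (L 1) o) {i : ℕ} (hi : i ≤ k + 2) : R.root o • L i = L i :=
  root_fix H.low H.isRoot (kid_side h0 ho) (by omega) (n := 2 + (k + 2)) (by omega)
    (Amal.reach_trans (kid_reach ho) (Amal.arc_reach_le hL (Nat.zero_le _) hi (by omega) (by omega)))

theorem kid_fix_end (H : R.Odd3 k) {L : ℕ → V} (hL : A.Arc (k + 2) L) (h0 : A.side (L 0) = !s)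
    {γ : V} (hγ : A.Kid (L (k + 2)) (L (k + 1)) γ) {i : ℕ} (hi : i ≤ k + 2) :
    R.root γ • L i = L i :=
  root_fix H.low H.isRoot (kid_side (line_end H hL h0) hγ) (by omega) (n := 2 + (k + 2)) (by omega)
    (Amal.reach_trans (kid_reach hγ) (Amal.arc_reach_le hL le_rfl hi (by omega) (by omega)))

/-- A root beyond the far end swaps the two further neighbours at the near end. -/
theorem kid_not_mem (H : R.Odd3 k) {L : ℕ → V} (hL : A.Arc (k + 2) L) (h0 : A.side (L 0) = !s)
    {γ : V} (hγ : A.Kid (L (k + 2)) (L (k + 1)) γ) : R.root γ ∉ A.Q (L 0) := by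
  obtain ⟨ν, hν, hνne, hγν, hγne⟩ := hγ
  have harc : A.Arc (k + 3) (pre ν fun i => L (k + 2 - i)) :=
    Amal.arc_pre (line_rev_arc hL) (by simpa using A.symm hν) fun _ => by simpa using hνne
  have := crit_out H.low (H.all _ harc (side_nbr (line_end H hL h0) hν)) H.isRoot H.odd (x := γ)
    hγν (by simpa using hγne)
  simpa using this

theorem comm2_eq (H : R.Odd3 k) {L : ℕ → V} (hL : A.Arc (k + 2) L) (h0 : A.side (L 0) = !s)
    {o : V} (ho : A.Kid (L 0) (L 1) o) (γ : V) (hγ : A.Kid (L (k + 2)) (L (k + 1)) γ) :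
    R.comm2 o γ = R.root o * R.root (R.root γ • o) := by
  rw [comm2, ← R.root_conj H.isRoot (kid_side h0 ho) (g := R.root γ) rfl,
    inv_root H.isRoot (kid_side (line_end H hL h0) hγ)]
  simp only [mul_assoc]

theorem comm2_sq (H : R.Odd3 k) {L : ℕ → V} (hL : A.Arc (k + 2) L) (h0 : A.side (L 0) = !s)
    {o : V} (ho : A.Kid (L 0) (L 1) o) {γ : V} (hγ : A.Kid (L (k + 2)) (L (k + 1)) γ) :
    R.comm2 o γ * R.comm2 o γ = 1 := by
  rw [comm2_eq H hL h0 ho γ hγ]
  have hos := kid_side h0 ho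
  have h1 : A.side (R.root γ • o) = !s := (A.side_smul _ _).trans hos
  have hk : A.Kid (L 0) (L 1) (R.root γ • o) := by
    have := kid_smul (R.root γ) ho
    rwa [kid_fix_end H hL h0 hγ (Nat.zero_le _), kid_fix_end H hL h0 hγ (by omega)] at this
  have hc : Commute (R.root o) (R.root (R.root γ • o)) :=
    R.root_comm H.isRoot h1 (root_fix H.low H.isRoot hos (by omega) (n := 2 + 2) (by omega)
      (Amal.reach_trans (kid_reach ho) (Amal.reach_symm (kid_reach hk))))
  rw [mul_assoc, ← mul_assoc (R.root (R.root γ • o)), ← hc.eq, mul_assoc (R.root o),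
    R.root_sq H.isRoot h1, mul_one, R.root_sq H.isRoot hos]

theorem comm2_symm (H : R.Odd3 k) {L : ℕ → V} (hL : A.Arc (k + 2) L) (h0 : A.side (L 0) = !s)
    {o : V} (ho : A.Kid (L 0) (L 1) o) {γ : V} (hγ : A.Kid (L (k + 2)) (L (k + 1)) γ) :
    R.comm2 γ o = R.comm2 o γ := by
  have hinv : (R.comm2 o γ)⁻¹ = R.comm2 o γ := inv_eq_of_mul_eq_one_right (comm2_sq H hL h0 ho hγ)
  rw [← hinv, comm2, comm2, mul_inv_rev, mul_inv_rev, mul_inv_rev,
    inv_root H.isRoot (kid_side h0 ho), inv_root H.isRoot (kid_side (line_end H hL h0) hγ)]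
  simp only [mul_assoc]

theorem comm2_indep (H : R.Odd3 k) {L : ℕ → V} (hL : A.Arc (k + 2) L) (h0 : A.side (L 0) = !s)
    {o o' : V} (ho : A.Kid (L 0) (L 1) o) (ho' : A.Kid (L 0) (L 1) o') {γ : V}
    (hγ : A.Kid (L (k + 2)) (L (k + 1)) γ) : R.comm2 o γ = R.comm2 o' γ := by
  have hγ0 : R.root γ • L 0 = L 0 := kid_fix_end H hL h0 hγ (Nat.zero_le _)
  have hγs := kid_side (line_end H hL h0) hγ
  have hsame : ∀ {m a a' : V}, A.Adj (L 0) m → m ≠ L 1 → A.Adj m a → a ≠ L 0 → A.Adj m a' →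
      a' ≠ L 0 → R.comm2 a γ = R.comm2 a' γ := by
    intro m a a' hm hm1 ha ha0 ha' ha'0
    by_cases e : a = a'
    · rw [e]
    have hms : A.side m = s := side_nbr h0 hm
    have has : A.side a = !s := by rw [A.side_adj ha, hms]
    rw [comm2, comm2, ← root_mul_root H.isRoot hms ha (A.symm hm) ha' ha0 e ha'0.symm]
    have hzg : Commute (R.root γ) (R.root (L 0)) := R.root_comm H.isRoot h0 hγ0
    have hza : Commute (R.root a) (R.root (L 0)) :=
      R.root_comm H.isRoot h0 (kid_fix H hL h0 ⟨m, hm, hm1, ha, ha0⟩ (Nat.zero_le _))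
    have hz2 := R.root_sq H.isRoot h0
    symm
    calc R.root a * R.root (L 0) * R.root γ * (R.root a * R.root (L 0)) * R.root γ
        = R.root a * (R.root (L 0) * (R.root γ * R.root a * R.root (L 0))) * R.root γ := by group
      _ = R.root a * (R.root (L 0) * (R.root (L 0) * (R.root γ * R.root a))) * R.root γ := by
          rw [(hzg.mul_left hza).eq]
      _ = R.root a * R.root γ * R.root a * R.root γ := by
          rw [← mul_assoc (R.root (L 0)), hz2, one_mul]
          group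
  obtain ⟨m, hm, hm1, hmo, hoc⟩ := id ho
  obtain ⟨m', hm', hm'1, hm'o, ho'c⟩ := id ho'
  by_cases e : m' = m
  · exact hsame hm hm1 hmo hoc (e ▸ hm'o) ho'c
  have hmm : R.root γ • m = m' := Amal.swap_of_not_mem_Q hγ0 (hL.1 0 (by omega)) hm hm'
    hm1.symm hm'1.symm (Ne.symm e) (kid_fix_end H hL h0 hγ (by omega)) (kid_not_mem H hL h0 hγ)
  rw [← hsame hm' hm'1 (hmm ▸ A.adj_smul _ hmo)
    (fun e' => hoc (MulAction.injective _ (e'.trans hγ0.symm))) hm'o ho'c]
  have h1 : R.comm2 (R.root γ • o) γ = (R.comm2 o γ)⁻¹ := by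
    rw [comm2, comm2, ← R.root_conj H.isRoot (kid_side h0 ho) (g := R.root γ) rfl,
      inv_root H.isRoot hγs, mul_inv_rev, mul_inv_rev, mul_inv_rev,
      inv_root H.isRoot hγs, inv_root H.isRoot (kid_side h0 ho)]
    simp only [mul_assoc, R.root_sq H.isRoot hγs, mul_one]
  rw [h1, inv_eq_of_mul_eq_one_right (comm2_sq H hL h0 ho hγ)]

theorem line_eq (H : R.Odd3 k) {L : ℕ → V} (hL : A.Arc (k + 2) L) (h0 : A.side (L 0) = !s)
    {o γ : V} (ho : A.Kid (L 0) (L 1) o) (hγ : A.Kid (L (k + 2)) (L (k + 1)) γ) :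
    R.line k L = R.comm2 o γ := by
  have hex : ∃ p : V × V, A.Kid (L 0) (L 1) p.1 ∧ A.Kid (L (k + 2)) (L (k + 1)) p.2 :=
    ⟨(o, γ), ho, hγ⟩
  rw [line, lineAux, dif_pos hex]
  obtain ⟨h1, h2⟩ := hex.choose_spec
  rw [comm2_indep H hL h0 h1 ho h2, ← comm2_symm H hL h0 ho h2, ← comm2_symm H hL h0 ho hγ]
  have hrev : ∀ {x : V}, A.Kid (L 0) (L 1) x →
      A.Kid (L (k + 2 - (k + 2))) (L (k + 2 - (k + 1))) x := fun hx => by
    rwa [Nat.sub_self, show k + 2 - (k + 1) = 1 by omega]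
  exact comm2_indep H (line_rev_arc hL) (line_end H hL h0)
    (by simpa using h2) (by simpa using hγ) (hrev ho)

theorem line_exists (H : R.Odd3 k) {L : ℕ → V} (hL : A.Arc (k + 2) L) (h0 : A.side (L 0) = !s) :
    ∃ o γ, A.Kid (L 0) (L 1) o ∧ A.Kid (L (k + 2)) (L (k + 1)) γ ∧
      R.line k L = R.comm2 o γ := by
  obtain ⟨o, ho⟩ := exists_kid (hL.1 0 (by omega))
  obtain ⟨γ, hγ⟩ := exists_kid (A.symm (hL.1 (k + 1) (by omega)))
  exact ⟨o, γ, ho, hγ, line_eq H hL h0 ho hγ⟩

theorem line_sq (H : R.Odd3 k) {L : ℕ → V} (hL : A.Arc (k + 2) L) (h0 : A.side (L 0) = !s) :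
    R.line k L * R.line k L = 1 := by
  obtain ⟨o, γ, ho, hγ, e⟩ := line_exists H hL h0
  rw [e]
  exact comm2_sq H hL h0 ho hγ

theorem inv_line (H : R.Odd3 k) {L : ℕ → V} (hL : A.Arc (k + 2) L) (h0 : A.side (L 0) = !s) :
    (R.line k L)⁻¹ = R.line k L := inv_eq_of_mul_eq_one_right (line_sq H hL h0)

theorem line_congr {L L' : ℕ → V} (h : ∀ i ≤ k + 2, L' i = L i) : R.line k L' = R.line k L := by
  simp only [line, h 0 (by omega), h 1 (by omega), h (k + 1) (by omega), h (k + 2) le_rfl]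

theorem line_rev (H : R.Odd3 k) {L : ℕ → V} (hL : A.Arc (k + 2) L) (h0 : A.side (L 0) = !s) :
    R.line k (fun i => L (k + 2 - i)) = R.line k L := by
  obtain ⟨o, γ, ho, hγ, e⟩ := line_exists H hL h0
  rw [e, ← comm2_symm H hL h0 ho hγ]
  refine line_eq H (line_rev_arc hL) (line_end H hL h0) (by simpa using hγ) ?_
  rwa [Nat.sub_self, show k + 2 - (k + 1) = 1 by omega]

theorem line_smul (H : R.Odd3 k) {L : ℕ → V} (hL : A.Arc (k + 2) L) (h0 : A.side (L 0) = !s)
    (g : G) : g * R.line k L * g⁻¹ = R.line k fun i => g • L i := by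
  obtain ⟨o, γ, ho, hγ, e⟩ := line_exists H hL h0
  rw [e, line_eq H (Amal.arc_smul g hL) ((A.side_smul g _).trans h0) (kid_smul g ho)
    (kid_smul g hγ), comm2, comm2, ← R.root_conj H.isRoot (kid_side h0 ho) (g := g) rfl,
    ← R.root_conj H.isRoot (kid_side (line_end H hL h0) hγ) (g := g) rfl]
  group

theorem line_ne_one (hA : A.CharTwo) (H : R.Odd3 k) {L : ℕ → V} (hL : A.Arc (k + 2) L)
    (h0 : A.side (L 0) = !s) : R.line k L ≠ 1 := by
  obtain ⟨o, γ, ho, hγ, e⟩ := line_exists H hL h0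
  intro h1
  rw [e, comm2_eq H hL h0 ho γ hγ] at h1
  obtain ⟨m, hm, hm1, hmo, hoc⟩ := id ho
  have hγ0 : R.root γ • L 0 = L 0 := kid_fix_end H hL h0 hγ (Nat.zero_le _)
  refine R.root_siblings hA H.isRoot h0 hm (Amal.adj_of_smul hγ0 hm)
    (Amal.exists_swapped hγ0 (hL.1 0 (by omega)) (kid_fix_end H hL h0 hγ (by omega))
      (kid_not_mem H hL h0 hγ) m hm hm1).symm hmo hoc (A.adj_smul _ hmo)
    (fun e' => hoc (MulAction.injective _ (e'.trans hγ0.symm))) ?_
  rw [← inv_root H.isRoot (x := R.root γ • o) ((A.side_smul _ _).trans (kid_side h0 ho))]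
  exact eq_inv_of_mul_eq_one_left h1

theorem line_mem (H : R.Odd3 k) {L : ℕ → V} (hL : A.Arc (k + 2) L) (h0 : A.side (L 0) = !s)
    {z : V} {n : ℕ} (hn : n ≤ k + 1) (hz : A.Reach n (L 0) z) : R.line k L ∈ A.Q z := by
  obtain ⟨o, γ, ho, hγ, e⟩ := line_exists H hL h0
  have hk : A.Kid (L 0) (L 1) (R.root γ • o) := by
    have := kid_smul (R.root γ) ho
    rwa [kid_fix_end H hL h0 hγ (Nat.zero_le _), kid_fix_end H hL h0 hγ (by omega)] at this
  rw [e, comm2_eq H hL h0 ho γ hγ]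
  exact mul_mem
    (root_mem H.low H.isRoot (kid_side h0 ho) (by omega) (n := 2 + n) (by omega)
      (Amal.reach_trans (kid_reach ho) hz))
    (root_mem H.low H.isRoot (kid_side h0 hk) (by omega) (n := 2 + n) (by omega)
      (Amal.reach_trans (kid_reach hk) hz))

theorem line_fix (H : R.Odd3 k) {L : ℕ → V} (hL : A.Arc (k + 2) L) (h0 : A.side (L 0) = !s)
    {z : V} {n : ℕ} (hn : n ≤ k + 2) (hz : A.Reach n (L 0) z) : R.line k L • z = z := by
  cases n with
  | zero => exact (line_mem H hL h0 (Nat.zero_le _) hz).1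
  | succ n =>
    rcases hz with hz | ⟨y, hy, hyz⟩
    · exact (line_mem H hL h0 (Nat.le_of_succ_le_succ hn) hz).1
    · exact (line_mem H hL h0 (Nat.le_of_succ_le_succ hn) hy).2 z hyz

theorem line_fix_end (H : R.Odd3 k) {L : ℕ → V} (hL : A.Arc (k + 2) L) (h0 : A.side (L 0) = !s)
    {z : V} {n : ℕ} (hn : n ≤ k + 2) (hz : A.Reach n (L (k + 2)) z) : R.line k L • z = z := by
  rw [← line_rev H hL h0]
  exact line_fix H (line_rev_arc hL) (line_end H hL h0) hn hz

/-- Lines with the same first edge. -/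
theorem line_share (H : R.Odd3 k) {L L' : ℕ → V} (hL : A.Arc (k + 2) L)
    (hL' : A.Arc (k + 2) L') (h0 : A.side (L 0) = !s) (e0 : L' 0 = L 0) (e1 : L' 1 = L 1) :
    R.line k L' = R.line k L ∨ R.line k L' = R.line k L * R.root (L 0) := by
  obtain ⟨o, γ, ho, hγ, e⟩ := line_exists H hL h0
  obtain ⟨γ', hγ'⟩ := exists_kid (A.symm (hL'.1 (k + 1) (by omega)))
  have h0' : A.side (L' 0) = !s := e0 ▸ h0
  have ho' : A.Kid (L' 0) (L' 1) o := by rwa [e0, e1]
  rw [e, line_eq H hL' h0' ho' hγ', comm2_eq H hL h0 ho γ hγ, comm2_eq H hL' h0' ho' γ' hγ']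
  obtain ⟨m, hm, hm1, hmo, hoc⟩ := id ho
  have f0 : R.root γ • L 0 = L 0 := kid_fix_end H hL h0 hγ (Nat.zero_le _)
  have f0' : R.root γ' • L 0 = L 0 := e0 ▸ kid_fix_end H hL' h0' hγ' (Nat.zero_le _)
  obtain ⟨m', hm', hm'm, hm'1⟩ := Amal.exists_third hm (hL.1 0 (by omega)) hm1
  have s1 : R.root γ • m = m' := Amal.swap_of_not_mem_Q f0 (hL.1 0 (by omega)) hm hm'
    hm1.symm hm'1.symm hm'm.symm (kid_fix_end H hL h0 hγ (by omega)) (kid_not_mem H hL h0 hγ)
  have s2 : R.root γ' • m = m' := Amal.swap_of_not_mem_Q f0' (hL.1 0 (by omega)) hm hm'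
    hm1.symm hm'1.symm hm'm.symm (e1 ▸ kid_fix_end H hL' h0' hγ' (by omega))
    (e0 ▸ kid_not_mem H hL' h0' hγ')
  by_cases he : R.root γ' • o = R.root γ • o
  · left
    rw [he]
  right
  rw [mul_assoc, root_mul_root H.isRoot (side_nbr h0 hm') (s1 ▸ A.adj_smul _ hmo) (A.symm hm')
    (s2 ▸ A.adj_smul _ hmo) (fun e' => hoc (MulAction.injective _ (e'.trans f0.symm)))
    (Ne.symm he) (fun e' => hoc (MulAction.injective _ (e'.symm.trans f0'.symm)))]

/-- An equivariant choice of involutions at the three neighbours of a vertex of side `s` with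
products in the groups generated by roots consists of the roots. -/
theorem triangle (hNC : A.NoCen s) (hr : R.IsRoot) {t : V} (ht : A.side t = s) (f : V → G)
    (hQ : ∀ v, A.Adj t v → f v ∈ A.Q t) (hsq : ∀ v, A.Adj t v → f v * f v = 1)
    (hne : ∀ v, A.Adj t v → f v ≠ 1)
    (heq : ∀ g : G, g • t = t → ∀ v, A.Adj t v → g * f v * g⁻¹ = f (g • v))
    (hprod : ∀ u v w, A.Adj t u → A.Adj t v → A.Adj t w → u ≠ v → u ≠ w → v ≠ w →
      f u * f w = 1 ∨ f u * f w = R.root v) {v : V} (hv : A.Adj t v) : f v = R.root v := by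
  obtain ⟨u, w, hu, hw, huv, hwv, huw⟩ := Amal.exists_two_others hv
  have hone : ∀ h : V → G, (∀ x, A.Adj t x → h x ∈ A.Q t) → (∀ x, A.Adj t x → h x * h x = 1) →
      (∀ g : G, g • t = t → ∀ x, A.Adj t x → g * h x * g⁻¹ = h (g • x)) → h u * h w = 1 →
      ∀ x, A.Adj t x → h x = 1 := by
    intro h hQh hsqh heqh hp
    have huw' : h w = h u := by
      rw [← inv_eq_of_mul_eq_one_right hp, inv_eq_of_mul_eq_one_right (hsqh u hu)]
    obtain ⟨g, hgt, hgu, x, hx, hgx⟩ := A.swap hu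
    have hgQ : g ∉ A.Q t := fun hm => hgx (hm.2 x hx)
    have e1 := heqh g hgt u hu
    rw [hgu] at e1
    have e2 := heqh g hgt w hw
    rw [Amal.swap_of_not_mem_Q hgt hu hw hv huw huv hwv hgu hgQ, huw', e1] at e2
    have hall : ∀ x, A.Adj t x → h x = h u := fun x hx => by
      rcases Amal.nbr_cases hu hw hv huw huv hwv hx with rfl | rfl | rfl
      exacts [rfl, huw', e2.symm]
    intro x hx
    rw [hall x hx]
    refine hNC ht hu (hQh u hu).1 ((hQh u hu).2 u hu) (hsqh u hu) fun g hg => ?_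
    have := heqh g hg u hu
    rw [hall _ (Amal.adj_of_smul hg hu)] at this
    exact (mul_inv_eq_iff_eq_mul.1 this : g * h u = h u * g)
  rcases hprod u v w hu hv hw huv huw hwv.symm with hp | hp
  · exact absurd (hone f hQ hsq heq hp u hu) (hne u hu)
  have hc : ∀ {x y : V}, A.Adj t x → A.Adj t y → Commute (f x) (R.root y) := fun {x y} hx hy => by
    rw [← R.el_eq_root hr ht hy]
    exact R.comm_mem ht hy (hQ x hx)
  have hxs : ∀ {x}, A.Adj t x → A.side x = !s := fun {x} hx => by rw [A.side_adj hx, ht]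
  have h1 := hone (fun x => f x * R.root x) (fun x hx => mul_mem (hQ x hx)
      (by rw [← R.el_eq_root hr ht hx]; exact R.mem_left ht hx))
    (fun x hx => by
      show f x * R.root x * (f x * R.root x) = 1
      rw [mul_assoc, ← mul_assoc (R.root x), ← (hc hx hx).eq, mul_assoc (f x),
        R.root_sq hr (hxs hx), mul_one, hsq x hx])
    (fun g hg x hx => by
      rw [← R.root_conj hr (hxs hx) (g := g) rfl, ← heq g hg x hx]
      group) ?_ v hv
  · rw [← inv_root hr (hxs hv)]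
    exact eq_inv_of_mul_eq_one_left h1
  show f u * R.root u * (f w * R.root w) = 1
  rw [mul_assoc, ← mul_assoc (R.root u), ← (hc hw hu).eq, mul_assoc (f w),
    root_mul_root hr ht hu hw hv huw huv hwv, ← mul_assoc, hp]
  exact R.root_sq hr (hxs hv)

end Fam

end Cfsg.Agent.Goldschmidt
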