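import Cfsg.Agent.Lib.Goldschmidt.ThreeBasic
import Cfsg.Agent.Lib.Goldschmidt.Central

/-!
# The bound for critical length three
-/

set_option autoImplicit false

namespace Cfsg.Agent.Goldschmidt

open MulAction

variable {G V : Type*} [Group G] [MulAction G V] {A : Amal G V} {s : Bool}

theorem Amal.mem_ball_succ_arc : ∀ {n : ℕ} {v : V} {g : G},
    (∀ k ≤ n, ∀ P, A.Arc k P → P 0 = v → g • P k = P k) → g ∈ A.ball n v
  | 0, v, g, h => by
    exact h 0 le_rfl (fun _ => v) ⟨fun i hi => absurd hi (Nat.not_lt_zero i),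
      fun i hi => absurd hi (Nat.not_lt_zero _)⟩ rfl
  | n + 1, v, g, h => by
    refine mem_ball_succ.2 ⟨h 0 (Nat.zero_le _) (fun _ => v) ⟨fun i hi => absurd hi (Nat.not_lt_zero i),
      fun i hi => absurd hi (Nat.not_lt_zero _)⟩ rfl, fun x hx => mem_ball_succ_arc fun k hk P hP h0 => ?_⟩
    obtain ⟨Q, j, hj, hQ, hQ0, hQj⟩ := exists_arc_of_reach (A := A) (n := k + 1) (u := v) (z := P k)
      (reach_cons hx (h0 ▸ arc_reach hP (Nat.zero_le k) le_rfl))
    rw [← hQj]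
    exact h j (by omega) Q hQ hQ0

theorem Amal.ball_reach : ∀ {n : ℕ} {v : V} {g : G}, g ∈ A.ball n v → ∀ {z}, A.Reach n v z →
    g • z = z
  | 0, _, _, h, _, hz => by obtain rfl := hz; exact h
  | n + 1, v, g, h, z, hz => by
    rcases reach_head hz with rfl | ⟨x, hx, hxz⟩
    · exact ball_smul_self _ h
    · exact ball_reach ((mem_ball_succ.1 h).2 x hx) hxz

theorem Amal.ball_mem_Q {n : ℕ} {v : V} {g : G} (h : g ∈ A.ball (n + 1) v) {z : V}
    (hz : A.Reach n v z) : g ∈ A.Q z :=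
  ⟨ball_reach h (reach_mono (Nat.le_succ n) hz), fun x hx => ball_reach h (reach_snoc hz hx)⟩

namespace Fam

variable {R : Fam A s} {c : V}

/-- A member of the kernel at `c` fixing the children of two neighbours fixes the third ones. -/
theorem three_parity (hA : A.CharTwo) (H : R.ThreeOnly) (hc : A.side c = !s) {m₁ m₂ m₃ : V}
    (h1 : A.Adj c m₁) (h2 : A.Adj c m₂) (h3 : A.Adj c m₃) (h12 : m₁ ≠ m₂) (h13 : m₁ ≠ m₃)
    (h23 : m₂ ≠ m₃) {q : G} (hq : q ∈ A.Q c) (hq1 : q ∈ A.Q m₁) (hq2 : q ∈ A.Q m₂) :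
    q ∈ A.Q m₃ := by
  have hm3 : A.side m₃ = s := side_nbr hc h3
  obtain ⟨v, w, hv, hw, hvc, hwc, hvw⟩ := Amal.exists_two_others (A.symm h3)
  obtain ⟨o, ho, hoc⟩ := Amal.exists_other (A.symm h1)
  have hvs : A.side v = !s := by rw [A.side_adj hv, hm3]
  have hws : A.side w = !s := by rw [A.side_adj hw, hm3]
  obtain ⟨γ, hγ⟩ := exists_kid (A.symm hv)
  have hko : A.Kid c m₃ o := ⟨m₁, h1, h13, ho, hoc⟩
  obtain ⟨-, e⟩ := three_comm hA H.odd3 H.noCen hc h3 hv hvc hw hwc hvw.symm hko hγ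
  obtain ⟨L, hL, e0, e1, e2⟩ := Amal.exists_arc_two h3 hv hvc
  have hf0 : R.root γ • c = c := by
    have := kid_fix_end H.odd3 hL (e0 ▸ hc) (γ := γ) (by show A.Kid (L 2) (L 1) γ; rwa [e2, e1])
      (Nat.zero_le _)
    rwa [e0] at this
  have hf1 : R.root γ • m₃ = m₃ := by
    have := kid_fix_end H.odd3 hL (e0 ▸ hc) (γ := γ) (by show A.Kid (L 2) (L 1) γ; rwa [e2, e1])
      (i := 1) (by omega)
    rwa [e1] at this
  have hnQ : R.root γ ∉ A.Q c := by
    have := kid_not_mem H.odd3 hL (e0 ▸ hc) (γ := γ) (by show A.Kid (L 2) (L 1) γ; rwa [e2, e1])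
    rwa [e0] at this
  have hsw : R.root γ • m₁ = m₂ :=
    Amal.swap_of_not_mem_Q hf0 h3 h1 h2 h13.symm h23.symm h12 hf1 hnQ
  have hoa : A.side o = !s := kid_side hc hko
  have hc1 : Commute q (R.root o) := R.root_comm H.odd3.isRoot hoa (hq1.2 o ho)
  have hc2 : Commute q (R.root (R.root γ • o)) :=
    R.root_comm H.odd3.isRoot ((A.side_smul _ o).trans hoa) (hq2.2 _ (hsw ▸ A.adj_smul _ ho))
  have hcw : Commute q (R.root w) := e ▸ hc1.mul_right hc2
  have hqm : q • m₃ = m₃ := hq.2 m₃ h3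
  refine Amal.mem_Q_of_two hqm (A.symm h3) hw hwc.symm hq.1 (root_inj H.odd3.isRoot hm3
    (Amal.adj_of_smul hqm hw) hw ?_)
  rw [← R.root_conj H.odd3.isRoot hws (g := q) rfl, hcw.eq, mul_inv_cancel_right]

theorem card_Q_le (hA : A.CharTwo) (H : R.ThreeOnly) (hc : A.side c = !s) :
    Nat.card (A.Q c) ≤ 4 * Nat.card (A.ball 2 c) := by
  obtain ⟨m₁, m₂, m₃, h12, h13, h23, hm⟩ := A.nbrs c
  have h1 : A.Adj c m₁ := (hm _).2 (Or.inl rfl)
  have h2 : A.Adj c m₂ := (hm _).2 (Or.inr (Or.inl rfl))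
  have h3 : A.Adj c m₃ := (hm _).2 (Or.inr (Or.inr rfl))
  have c1 : Nat.card (A.Q c) ≤ 2 * Nat.card ↥(A.Q c ⊓ A.Q m₁) :=
    Amal.card_le_two_mul_Q (A.symm h1) fun q hq => ⟨hq.2 m₁ h1, hq.1⟩
  have c2 : Nat.card ↥(A.Q c ⊓ A.Q m₁) ≤ 2 * Nat.card ↥(A.Q c ⊓ A.Q m₁ ⊓ A.Q m₂) :=
    Amal.card_le_two_mul_Q (A.symm h2) fun q hq => ⟨hq.1.2 m₂ h2, hq.1.1⟩
  have c3 : A.Q c ⊓ A.Q m₁ ⊓ A.Q m₂ ≤ A.ball 2 c := fun q hq => Amal.mem_ball_two.2 fun x hx => by
    rcases (hm x).1 hx with rfl | rfl | rfl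
    exacts [hq.1.2, hq.2, three_parity hA H hc h1 h2 h3 h12 h13 h23 hq.1.1 hq.1.2 hq.2]
  have : Finite (A.ball 2 c) := A.finite_of_le (v := c) fun q hq => Amal.ball_smul_self _ hq
  have := Subgroup.card_le_of_le c3
  omega

/-- Members of the third kernel fix everything at distance four. -/
theorem ball_three_fix (H : R.ThreeOnly) (hc : A.side c = !s) {y : G} (hy : y ∈ A.ball 3 c)
    {P : ℕ → V} (hP : A.Arc 4 P) (h0 : P 0 = c) : y • P 4 = P 4 := by
  by_contra hne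
  have hO := H.odd3
  have hs : ∀ {i}, i ≤ 4 → Even i → A.side (P i) = !s := fun {i} hi he =>
    (Amal.side_of_even hP hi he).trans (h0 ▸ hc)
  have hs3 : A.side (P 3) = s := by
    rw [Amal.side_of_odd hP (by omega) (show Odd 3 from ⟨1, rfl⟩), h0, hc, Bool.not_not]
  have hs1 : A.side (P 1) = s := by
    rw [Amal.side_of_odd hP (by omega) (show Odd 1 from ⟨0, rfl⟩), h0, hc, Bool.not_not]
  have hf : ∀ {i}, i ≤ 3 → y • P i = P i := fun {i} hi => Amal.ball_reach hy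
    (h0 ▸ Amal.arc_reach_le hP (i := 0) (by omega) (j := i) (by omega) (by omega) (by omega))
  have h4s : A.side (P 4) = !s := hs le_rfl ⟨2, rfl⟩
  have e : R.root (P 4) * (y * R.root (P 4) * y⁻¹) = R.root (P 2) := by
    rw [R.root_conj hO.isRoot h4s (g := y) rfl]
    exact root_mul_root hO.isRoot hs3 (hP.1 3 (by omega))
      (Amal.adj_of_smul (hf le_rfl) (hP.1 3 (by omega))) (A.symm (hP.1 2 (by omega))) (Ne.symm hne)
      (hP.2 2 (by omega)) fun e => hP.2 2 (by omega)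
        (MulAction.injective y (e.trans (hf (i := 2) (by omega)).symm))
  have hσc : R.root (P 4) • c = c :=
    three_fix hO h4s le_rfl (h0 ▸ Amal.arc_reach_le hP le_rfl (Nat.zero_le _) (by omega) (by omega))
  have hmem : R.root (P 2) ∈ A.ball 3 c := by
    rw [← e, ← mul_assoc, ← mul_assoc]
    refine mul_mem ?_ (inv_mem hy)
    have := Amal.normal_ball hσc hy
    rwa [inv_root hO.isRoot h4s] at this
  obtain ⟨m, hm, hm1⟩ := Amal.exists_other (h0 ▸ hP.1 0 (by omega))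
  obtain ⟨o, ho, hoc⟩ := Amal.exists_other (A.symm hm)
  have h10 : A.Adj (P 1) c := h0 ▸ A.symm (hP.1 0 (by omega))
  refine three_out hO hs1 (hP.1 1 (by omega)) h10 hm ho (h0 ▸ hP.2 0 (by omega)) hm1 hoc ?_
  exact Amal.ball_mem_Q hmem (Amal.reach_cons hm (Amal.reach_adj ho))

/-- The subgroup of `G_c` centralising the third kernel. -/
def deepCent (A : Amal G V) (c : V) : Subgroup G :=
  stabilizer G c ⊓ Subgroup.centralizer (A.ball 3 c : Set G)

theorem root_mem_deepCent (H : R.ThreeOnly) (hc : A.side c = !s) {x : V} (hx : A.side x = !s)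
    (hr : A.Reach 4 c x) : R.root x ∈ deepCent A c := by
  refine ⟨three_fix H.odd3 hx le_rfl (Amal.reach_symm hr), fun y hy => ?_⟩
  refine (R.root_comm H.odd3.isRoot hx ?_).eq
  obtain ⟨P, k, hk, hP, h0, hkx⟩ := Amal.exists_arc_of_reach hr
  rw [← hkx]
  rcases Nat.lt_or_eq_of_le hk with hk | rfl
  · exact Amal.ball_reach hy (Amal.reach_mono (by omega) (h0 ▸ Amal.arc_reach hP (Nat.zero_le _) le_rfl))
  · exact ball_three_fix H hc hy hP h0

theorem deepCent_swap (hA : A.CharTwo) (H : R.ThreeOnly) (hc : A.side c = !s) {n : ℕ} (hn : n ≤ 2)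
    {P : ℕ → V} (hP : A.Arc (n + 2) P) (h0 : P 0 = c) :
    ∃ g ∈ deepCent A c, (∀ i ≤ n + 1, g • P i = P i) ∧ g • P (n + 2) ≠ P (n + 2) := by
  have hO := H.odd3
  have h01 : A.Adj c (P 1) := h0 ▸ hP.1 0 (by omega)
  have h12 : A.Adj (P 1) (P 2) := hP.1 1 (by omega)
  have h20 : P 2 ≠ c := h0 ▸ hP.2 0 (by omega)
  have hs1 : A.side (P 1) = s := side_nbr hc h01
  have hs2 : A.side (P 2) = !s := by rw [A.side_adj h12, hs1]
  obtain ⟨v, hv, hv1⟩ := Amal.exists_other h01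
  have hvs : A.side v = s := side_nbr hc hv
  obtain ⟨o₁, o₂, ho₁, ho₂, ho₁c, ho₂c, ho12⟩ := Amal.exists_two_others (A.symm hv)
  have hos : ∀ {o}, A.Adj v o → A.side o = !s := fun {o} ho => by rw [A.side_adj ho, hvs]
  rcases (by omega : n = 0 ∨ n = 1 ∨ n = 2) with rfl | rfl | rfl
  · -- level two
    obtain ⟨n₁, hn₁, hn₁v⟩ := Amal.exists_other (A.symm ho₁)
    obtain ⟨n₂, hn₂, hn₂v⟩ := Amal.exists_other (A.symm ho₂)
    obtain ⟨x₁, hx₁, hx₁o⟩ := Amal.exists_other (A.symm hn₁)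
    obtain ⟨x₂, hx₂, hx₂o⟩ := Amal.exists_other (A.symm hn₂)
    obtain ⟨g1, g2⟩ := flip (R := R) hA hO H.noCen hc hv ho₁ ho₂ ho₁c ho₂c ho12 hn₁ hn₁v hx₁ hx₁o hn₂
      hn₂v hx₂ hx₂o h01 hv1.symm h12 h20
    have hr : ∀ {o n x}, A.Adj v o → A.Adj o n → A.Adj n x →
        R.root x ∈ deepCent A c := fun {o n x} ho hn hx =>
      root_mem_deepCent H hc (by rw [A.side_adj hx, A.side_adj hn, hos ho, Bool.not_not])
        (Amal.reach_cons hv (Amal.reach_cons ho (Amal.reach_cons hn (Amal.reach_adj hx))))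
    have hg := mul_mem (hr ho₂ hn₂ hx₂) (hr ho₁ hn₁ hx₁)
    refine ⟨_, hg, fun i hi => ?_, g2⟩
    rcases (by omega : i = 0 ∨ i = 1) with rfl | rfl
    · rw [h0]
      exact hg.1
    · exact g1
  · -- level three
    have hd := root_mem_deepCent H hc (hos ho₁)
      (Amal.reach_mono (by omega) (Amal.reach_cons hv (Amal.reach_adj ho₁)))
    have hreach : A.Reach 4 o₁ (P 2) := Amal.reach_cons (A.symm ho₁) (Amal.reach_cons (A.symm hv)
      (Amal.reach_cons h01 (Amal.reach_adj h12)))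
    have hfix : ∀ i ≤ 2, R.root o₁ • P i = P i := fun i hi => by
      rcases (by omega : i = 0 ∨ i = 1 ∨ i = 2) with rfl | rfl | rfl
      · rw [h0]
        exact hd.1
      · exact three_fix hO (hos ho₁) (n := 3) (by omega) (Amal.reach_cons (A.symm ho₁)
          (Amal.reach_cons (A.symm hv) (Amal.reach_adj h01)))
      · exact three_fix hO (hos ho₁) le_rfl hreach
    refine ⟨_, hd, hfix, ?_⟩
    exact Amal.exists_swapped (hfix 2 le_rfl) (A.symm h12) (hfix 1 (by omega))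
      (three_out hO hvs ho₁ (A.symm hv) h01 h12 ho₁c hv1.symm h20) _ (hP.1 2 (by omega))
      (hP.2 1 (by omega))
  · -- level four
    obtain ⟨q, hq, hqc, hq2⟩ := Amal.exists_third (A.symm h01) h12 h20.symm
    have hqs : A.side q = !s := by rw [A.side_adj hq, hs1]
    obtain ⟨n₂, hn₂, hn₂v⟩ := Amal.exists_other (A.symm hq)
    obtain ⟨x₂, hx₂, hx₂o⟩ := Amal.exists_other (A.symm hn₂)
    obtain ⟨g1, g2⟩ := flip (R := R) hA hO H.noCen hs2 (A.symm h12) (A.symm h01) hq h20.symm hq2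
      hqc.symm hv hv1 ho₁ ho₁c hn₂ hn₂v hx₂ hx₂o (hP.1 2 (by omega)) (hP.2 1 (by omega))
      (hP.1 3 (by omega)) (hP.2 2 (by omega))
    have hn₂s : A.side n₂ = s := side_nbr hqs hn₂
    have hx₂s : A.side x₂ = !s := by rw [A.side_adj hx₂, hn₂s]
    have hd1 := root_mem_deepCent H hc (hos ho₁)
      (Amal.reach_mono (by omega) (Amal.reach_cons hv (Amal.reach_adj ho₁)))
    have hd2 := root_mem_deepCent H hc hx₂s
      (Amal.reach_cons h01 (Amal.reach_cons hq (Amal.reach_cons hn₂ (Amal.reach_adj hx₂))))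
    have hg := mul_mem hd2 hd1
    refine ⟨_, hg, fun i hi => ?_, g2⟩
    rcases (by omega : i = 0 ∨ i = 1 ∨ i = 2 ∨ i = 3) with rfl | rfl | rfl | rfl
    · rw [h0]
      exact hg.1
    · rw [mul_smul, three_fix hO (hos ho₁) (n := 3) (by omega) (Amal.reach_cons (A.symm ho₁)
          (Amal.reach_cons (A.symm hv) (Amal.reach_adj h01))),
        three_fix hO hx₂s (n := 3) (by omega) (Amal.reach_cons (A.symm hx₂)
          (Amal.reach_cons (A.symm hn₂) (Amal.reach_adj (A.symm hq))))]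
    · rw [mul_smul, three_fix hO (hos ho₁) le_rfl (Amal.reach_cons (A.symm ho₁)
          (Amal.reach_cons (A.symm hv) (Amal.reach_cons h01 (Amal.reach_adj h12)))),
        three_fix hO hx₂s le_rfl (Amal.reach_cons (A.symm hx₂) (Amal.reach_cons (A.symm hn₂)
          (Amal.reach_cons (A.symm hq) (Amal.reach_adj h12))))]
    · exact g1

theorem deepCent_trans (hA : A.CharTwo) (H : R.ThreeOnly) (hc : A.side c = !s) :
    ∀ {n : ℕ}, 1 ≤ n → n ≤ 4 → ∀ {P P' : ℕ → V}, A.Arc n P → A.Arc n P' → P 0 = c → P' 0 = c →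
      ∃ g ∈ deepCent A c, ∀ i ≤ n, g • P i = P' i
  | 1, _, _, P, P', hP, hP', h0, h0' => by
    have h1 : A.Adj c (P 1) := h0 ▸ hP.1 0 (by omega)
    have h1' : A.Adj c (P' 1) := h0' ▸ hP'.1 0 (by omega)
    by_cases e : P 1 = P' 1
    · refine ⟨1, one_mem _, fun i hi => ?_⟩
      rcases (by omega : i = 0 ∨ i = 1) with rfl | rfl <;> rw [one_smul]
      exacts [h0.trans h0'.symm, e]
    obtain ⟨m, hm, hmP, hmP'⟩ := Amal.exists_third h1 h1' e
    obtain ⟨o, ho, hoc⟩ := Amal.exists_other (A.symm hm)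
    obtain ⟨n, hn, hnm⟩ := Amal.exists_other (A.symm ho)
    obtain ⟨x, hx, hxo⟩ := Amal.exists_other (A.symm hn)
    have hms : A.side m = s := side_nbr hc hm
    have hos : A.side o = !s := by rw [A.side_adj ho, hms]
    have hns : A.side n = s := side_nbr hos hn
    have hxs : A.side x = !s := by rw [A.side_adj hx, hns]
    have hd := root_mem_deepCent H hc hxs
      (Amal.reach_cons hm (Amal.reach_cons ho (Amal.reach_cons hn (Amal.reach_adj hx))))
    have hfm : R.root x • m = m := three_fix H.odd3 hxs (n := 3) (by omega)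
      (Amal.reach_cons (A.symm hx) (Amal.reach_cons (A.symm hn) (Amal.reach_adj (A.symm ho))))
    have hout := three_out H.odd3 hns hx (A.symm hn) (A.symm ho) (A.symm hm) hxo hnm.symm hoc.symm
    refine ⟨_, hd, fun i hi => ?_⟩
    rcases (by omega : i = 0 ∨ i = 1) with rfl | rfl
    · rw [h0, h0']
      exact hd.1
    · exact Amal.swap_of_not_mem_Q hd.1 hm h1 h1' hmP hmP' e hfm hout
  | n + 2, _, hn, P, P', hP, hP', h0, h0' => by
    obtain ⟨g, hg, hgi⟩ := deepCent_trans hA H hc (n := n + 1) (by omega) (by omega)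
      (Amal.arc_le hP (by omega)) (Amal.arc_le hP' (by omega)) h0 h0'
    by_cases e : g • P (n + 2) = P' (n + 2)
    · refine ⟨g, hg, fun i hi => ?_⟩
      rcases Nat.lt_or_eq_of_le hi with hi | rfl
      · exact hgi i (by omega)
      · exact e
    obtain ⟨k, hk, hki, hkne⟩ := deepCent_swap hA H hc (n := n) (by omega) hP' h0'
    have hadj : A.Adj (P' (n + 1)) (g • P (n + 2)) := by
      rw [← hgi (n + 1) le_rfl]
      exact A.adj_smul g (hP.1 (n + 1) (by omega))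
    have hback : A.Adj (P' (n + 1)) (P' n) := A.symm (hP'.1 n (by omega))
    have hne : g • P (n + 2) ≠ P' n := by
      rw [← hgi n (by omega)]
      exact Amal.smul_adj_ne (hP.2 n (by omega))
    have hkQ : k ∉ A.Q (P' (n + 1)) := fun h => hkne (h.2 _ (hP'.1 (n + 1) (by omega)))
    have hsw : k • g • P (n + 2) = P' (n + 2) := Amal.swap_of_not_mem_Q (hki _ le_rfl) hback hadj
      (hP'.1 (n + 1) (by omega)) hne.symm (hP'.2 n (by omega)).symm e (hki n (by omega)) hkQ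
    refine ⟨k * g, mul_mem hk hg, fun i hi => ?_⟩
    rcases Nat.lt_or_eq_of_le hi with hi | rfl
    · rw [mul_smul, hgi i (by omega), hki i (by omega)]
    · rw [mul_smul, hsw]

theorem card_ball_three (hA : A.CharTwo) (H : R.ThreeOnly) (hc : A.side c = !s) :
    Nat.card (A.ball 3 c) ≤ 2 := by
  have hO := H.odd3
  obtain ⟨Z, hZ, hZe⟩ := Amal.exists_arc_ext (A := A) (n := 0) (P := fun _ => c)
    ⟨fun i hi => absurd hi (Nat.not_lt_zero i), fun i hi => absurd hi (Nat.not_lt_zero _)⟩ 4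
  have hZ4 : A.Arc 4 Z := hZ
  have hZ0 : Z 0 = c := hZe 0 le_rfl
  let X : Subgroup G := A.ball 3 c ⊓ ⨅ (P : ℕ → V) (_ : A.Arc 4 P ∧ P 0 = c), A.Q (P 4)
  have hX : ∀ {g : G}, g ∈ X ↔ g ∈ A.ball 3 c ∧ ∀ P, A.Arc 4 P → P 0 = c → g ∈ A.Q (P 4) := by
    intro g
    simp [X]
  have hXbot : X = ⊥ := by
    by_contra hne
    have h01 : A.Adj c (Z 1) := hZ0 ▸ hZ4.1 0 (by omega)
    obtain ⟨y, hy, hy1, hy2, hyu, hyv, hyc⟩ := Amal.exists_central_invol (X := X) (A.symm h01)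
      (fun g hg => ⟨Amal.ball_reach (hX.1 hg).1 (Amal.reach_mono (by omega) (Amal.reach_adj h01)),
        Amal.ball_smul_self _ (hX.1 hg).1⟩) hne fun g _ hgc q hq => by
        refine hX.2 ⟨Amal.normal_ball hgc (hX.1 hq).1, fun P hP hP0 => ?_⟩
        have := (hX.1 hq).2 _ (Amal.arc_smul g⁻¹ hP) (by
          show g⁻¹ • P 0 = c
          rw [hP0, inv_smul_eq_iff, hgc])
        have := Amal.conj_mem_Q (g := g) this
        rwa [smul_inv_smul] at this
    have := H.uniq (side_nbr hc h01) (A.symm h01) hy1 hy2 hyu hyv hyc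
    rw [this] at hy
    have hq := (hX.1 hy).2 Z hZ4 hZ0
    exact three_out hO (side_nbr hc h01) (A.symm h01) (hZ4.1 1 (by omega)) (hZ4.1 2 (by omega))
      (hZ4.1 3 (by omega)) (hZ0 ▸ (hZ4.2 0 (by omega)).symm) (hZ4.2 1 (by omega))
      (hZ4.2 2 (by omega)) hq
  have hle : A.ball 3 c ⊓ A.Q (Z 4) ≤ X := fun y hy => hX.2 ⟨hy.1, fun P hP hP0 => by
    obtain ⟨g, hg, hgi⟩ := deepCent_trans hA H hc (by omega) le_rfl hZ4 hP hZ0 hP0
    have := Amal.conj_mem_Q (g := g) hy.2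
    rwa [hgi 4 le_rfl, ← hg.2 y hy.1, mul_inv_cancel_right] at this⟩
  have h1 : Nat.card (A.ball 3 c) ≤ 2 * Nat.card ↥(A.ball 3 c ⊓ A.Q (Z 4)) :=
    Amal.card_le_two_mul_Q (A.symm (hZ4.1 3 (by omega))) fun y hy => ⟨ball_three_fix H hc hy hZ4 hZ0,
      Amal.ball_reach hy (hZ0 ▸ Amal.arc_reach hZ4 (Nat.zero_le 3) (by omega))⟩
  rw [hXbot] at hle
  rw [le_bot_iff.1 hle, Subgroup.card_bot] at h1
  exact h1

/-! ### The kernels at distance two -/

/-- `d` fixes the children of two vertices two steps from `c` through `m` alike. -/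
def Same (A : Amal G V) (c : V) (d : G) (m : V) : Prop :=
  ∀ o o', A.Adj m o → o ≠ c → A.Adj m o' → o' ≠ c → (d ∈ A.Q o ↔ d ∈ A.Q o')

theorem mul_iff {m o : V} (hm : A.Adj c m) (ho : A.Adj m o) {d e : G} (hd : d ∈ A.ball 2 c)
    (he : e ∈ A.ball 2 c) : d * e ∈ A.Q o ↔ (d ∈ A.Q o ↔ e ∈ A.Q o) := by
  have h1 := Amal.mem_ball_two.1 hd m hm
  have h2 := Amal.mem_ball_two.1 he m hm
  exact Amal.mul_mem_Q_iff (A.symm ho) (h1.2 o ho) (h2.2 o ho) h1.1 h2.1

theorem same_of_pair {m o o' : V} (hm : A.Adj c m) (ho : A.Adj m o) (hoc : o ≠ c) (ho' : A.Adj m o')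
    (ho'c : o' ≠ c) (hne : o ≠ o') {d : G} (h : d ∈ A.Q o ↔ d ∈ A.Q o') : Same A c d m := by
  intro a a' ha hac ha' ha'c
  rcases Amal.nbr_cases (A.symm hm) ho ho' hoc.symm ho'c.symm hne ha with rfl | rfl | rfl
  · exact absurd rfl hac
  all_goals
    rcases Amal.nbr_cases (A.symm hm) ho ho' hoc.symm ho'c.symm hne ha' with e | e | e
    · exact absurd e ha'c
    all_goals subst e; tauto

theorem root_bit (H : R.ThreeOnly) (hc : A.side c = !s) {m m' o o' : V} (hm : A.Adj c m)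
    (ho : A.Adj m o) (hoc : o ≠ c) (hm' : A.Adj c m') (ho' : A.Adj m' o') (ho'c : o' ≠ c) :
    R.root o ∈ A.Q o' ↔ m = m' := by
  have hms : A.side m = s := side_nbr hc hm
  have hos : A.side o = !s := by rw [A.side_adj ho, hms]
  refine ⟨fun h => by_contra fun hne => ?_, fun e => ?_⟩
  · exact three_out H.odd3 hms ho (A.symm hm) hm' ho' hoc (Ne.symm hne) ho'c h
  · subst e
    exact three_mem H.odd3 hos (n := 2) (by omega)
      (Amal.reach_cons (A.symm ho) (Amal.reach_adj ho'))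

theorem root_mem_ball (H : R.ThreeOnly) (hc : A.side c = !s) {m o : V} (hm : A.Adj c m)
    (ho : A.Adj m o) : R.root o ∈ A.ball 2 c := by
  have hos : A.side o = !s := by rw [A.side_adj ho, side_nbr hc hm]
  exact Amal.mem_ball_two.2 fun x hx => three_mem H.odd3 hos le_rfl
    (Amal.reach_cons (A.symm ho) (Amal.reach_cons (A.symm hm) (Amal.reach_adj hx)))

/-- The two ways a member of the second kernel meets a root four steps from `c`. -/
theorem four_cases (H : R.ThreeOnly) (hc : A.side c = !s) {m x ν γ : V}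
    (hm : A.Adj c m) (hx : A.Adj m x) (hxc : x ≠ c) (hν : A.Adj x ν) (hνm : ν ≠ m) (hγ : A.Adj ν γ)
    (hγx : γ ≠ x) {d : G} (hd : d ∈ A.ball 2 c) (hdx : d ∈ A.Q x) :
    R.root γ • c = c ∧ R.root γ ∉ A.Q c ∧ R.root γ • m = m ∧
    ((Commute d (R.root γ) ∧ ∀ u, d ∈ A.Q u ↔ d ∈ A.Q (R.root γ • u)) ∨
      ∀ m' u, A.Adj c m' → m' ≠ m → A.Adj m' u → u ≠ c →
        (d ∈ A.Q u ↔ ¬ d ∈ A.Q (R.root γ • u))) := by
  have hO := H.odd3
  have hms : A.side m = s := side_nbr hc hm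
  have hxs : A.side x = !s := by rw [A.side_adj hx, hms]
  have hνs : A.side ν = s := side_nbr hxs hν
  have hγs : A.side γ = !s := by rw [A.side_adj hγ, hνs]
  have f0 : R.root γ • c = c := three_fix hO hγs le_rfl (Amal.reach_cons (A.symm hγ)
    (Amal.reach_cons (A.symm hν) (Amal.reach_cons (A.symm hx) (Amal.reach_adj (A.symm hm)))))
  have fm : R.root γ • m = m := three_fix hO hγs (n := 3) (by omega) (Amal.reach_cons (A.symm hγ)
    (Amal.reach_cons (A.symm hν) (Amal.reach_adj (A.symm hx))))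
  have fQ : R.root γ ∉ A.Q c :=
    three_out hO hνs hγ (A.symm hν) (A.symm hx) (A.symm hm) hγx hνm.symm hxc.symm
  have hσ : R.root γ * R.root γ = 1 := R.root_sq hO.isRoot hγs
  have hσi : (R.root γ)⁻¹ = R.root γ := inv_root hO.isRoot hγs
  refine ⟨f0, fQ, fm, ?_⟩
  have hdν : d • ν = ν := hdx.2 ν hν
  by_cases hdγ : d • γ = γ
  · left
    have hcm : Commute d (R.root γ) := R.root_comm hO.isRoot hγs hdγ
    refine ⟨hcm, fun u => ?_⟩
    rw [← Amal.conj_mem_Q_iff (g := R.root γ) (v := u) (q := d), ← hcm.eq, mul_inv_cancel_right]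
  right
  intro m' u hm' hne hu huc
  have e : R.root γ * d * R.root γ = R.root x * d := by
    have h1 : R.root γ * R.root x = R.root (d • γ) := by
      refine root_mul_root hO.isRoot hνs hγ (A.symm hν) (Amal.adj_of_smul hdν hγ) hγx
        (Ne.symm hdγ) ?_
      exact fun e => hγx (MulAction.injective d (e.symm.trans hdx.1.symm))
    rw [← R.root_conj hO.isRoot hγs (g := d) rfl] at h1
    calc R.root γ * d * R.root γ = R.root γ * (d * R.root γ * d⁻¹) * d := by group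
      _ = R.root γ * (R.root γ * R.root x) * d := by rw [h1]
      _ = R.root x * d := by rw [← mul_assoc (R.root γ), hσ, one_mul]
  have fm' : A.Adj c (R.root γ • m') := Amal.adj_of_smul f0 hm'
  have hu' : A.Adj (R.root γ • m') (R.root γ • u) := A.adj_smul _ hu
  have hxu : R.root x ∉ A.Q (R.root γ • u) := fun h =>
    hne (MulAction.injective (R.root γ) (((root_bit H hc hm hx hxc fm' hu'
      (fun e' => huc (MulAction.injective _ (e'.trans f0.symm)))).1 h).symm.trans fm.symm))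
  rw [← Amal.conj_mem_Q_iff (g := R.root γ) (v := u) (q := d), hσi, e,
    mul_iff fm' hu' (root_mem_ball H hc hm hx) hd]
  simp [hxu]

theorem same_iff (H : R.ThreeOnly) (hc : A.side c = !s) {d : G} (hd : d ∈ A.ball 2 c) {m₁ m₂ : V}
    (h1 : A.Adj c m₁) (h2 : A.Adj c m₂) (hne : m₁ ≠ m₂) (h : Same A c d m₁) : Same A c d m₂ := by
  obtain ⟨m, hm, hm1, hm2⟩ := Amal.exists_third h1 h2 hne
  obtain ⟨x, hx, hxc⟩ := Amal.exists_other (A.symm hm)
  obtain ⟨ν, hν, hνm⟩ := Amal.exists_other (A.symm hx)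
  obtain ⟨γ, hγ, hγx⟩ := Amal.exists_other (A.symm hν)
  obtain ⟨o₁, ho₁, ho₁c⟩ := Amal.exists_other (A.symm h1)
  have main : ∀ {d : G}, d ∈ A.ball 2 c → d ∈ A.Q x → Same A c d m₁ → Same A c d m₂ := by
    intro d hd hdx h o o' ho hoc ho' ho'c
    obtain ⟨f0, fQ, fm, hor⟩ := four_cases H hc hm hx hxc hν hνm hγ hγx hd hdx
    have hsw : R.root γ • m₂ = m₁ :=
      Amal.swap_of_not_mem_Q f0 hm h2 h1 hm2 hm1 hne.symm fm fQ
    have key := h _ _ (hsw ▸ A.adj_smul (R.root γ) ho)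
      (fun e => hoc (MulAction.injective _ (e.trans f0.symm))) (hsw ▸ A.adj_smul (R.root γ) ho')
      (fun e => ho'c (MulAction.injective _ (e.trans f0.symm)))
    rcases hor with ⟨-, hb⟩ | hb
    · rw [hb o, hb o', key]
    · rw [hb m₂ o h2 hm2.symm ho hoc, hb m₂ o' h2 hm2.symm ho' ho'c, key]
  by_cases hdx : d ∈ A.Q x
  · exact main hd hdx h
  have hr := root_mem_ball H hc h1 ho₁
  have hrs : ∀ {m' o o' : V}, A.Adj c m' → A.Adj m' o → o ≠ c → A.Adj m' o' → o' ≠ c →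
      ((R.root o₁ * d ∈ A.Q o ↔ R.root o₁ * d ∈ A.Q o') ↔ (d ∈ A.Q o ↔ d ∈ A.Q o')) := by
    intro m' o o' hm' ho hoc ho' ho'c
    rw [mul_iff hm' ho hr hd, mul_iff hm' ho' hr hd, root_bit H hc h1 ho₁ ho₁c hm' ho hoc,
      root_bit H hc h1 ho₁ ho₁c hm' ho' ho'c]
    tauto
  have hx' : R.root o₁ * d ∈ A.Q x := by
    rw [mul_iff hm hx hr hd, root_bit H hc h1 ho₁ ho₁c hm hx hxc]
    simp [hdx, hm1.symm]
  intro o o' ho hoc ho' ho'c
  exact (hrs h2 ho hoc ho' ho'c).1 (main (mul_mem hr hd) hx'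
    (fun a a' ha hac ha' ha'c => (hrs h1 ha hac ha' ha'c).2 (h a a' ha hac ha' ha'c)) o o' ho hoc
      ho' ho'c)

theorem mem_ball_three {d : G} (hd : d ∈ A.ball 2 c) (h : ∀ m o, A.Adj c m → A.Adj m o → o ≠ c →
    d ∈ A.Q o) : d ∈ A.ball 3 c := by
  refine Amal.mem_ball_succ.2 ⟨Amal.ball_smul_self _ hd, fun m hm => Amal.mem_ball_two.2 fun o ho => ?_⟩
  by_cases e : o = c
  · subst e
    exact ⟨Amal.ball_smul_self _ hd, fun x hx => (Amal.mem_ball_two.1 hd x hx).1⟩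
  · exact h m o hm ho e

/-- No member of the second kernel centralises a deep root and moves the children on one side
only. -/
theorem lam (hA : A.CharTwo) (H : R.ThreeOnly) (hc : A.side c = !s) {m x x' ν γ : V}
    (hm : A.Adj c m) (hx : A.Adj m x) (hxc : x ≠ c) (hx' : A.Adj m x') (hx'c : x' ≠ c)
    (hxx' : x ≠ x') (hν : A.Adj x ν) (hνm : ν ≠ m) (hγ : A.Adj ν γ) (hγx : γ ≠ x) {d : G}
    (hd : d ∈ A.ball 2 c) (hdx : d ∈ A.Q x) (hdx' : d ∉ A.Q x') (hcm : Commute d (R.root γ)) :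
    False := by
  have hO := H.odd3
  have hr : R.IsRoot := hO.isRoot
  have hms : A.side m = s := side_nbr hc hm
  have hxs : A.side x = !s := by rw [A.side_adj hx, hms]
  have hx's : A.side x' = !s := by rw [A.side_adj hx', hms]
  have hνs : A.side ν = s := side_nbr hxs hν
  have hγs : A.side γ = !s := by rw [A.side_adj hγ, hνs]
  obtain ⟨f0, fQ, fm, -⟩ := four_cases (R := R) H hc hm hx hxc hν hνm hγ hγx hd hdx
  obtain ⟨m₁, m₂, hm₁, hm₂, hm₁m, hm₂m, hm12⟩ := Amal.exists_two_others hm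
  obtain ⟨o, ho, hoc⟩ := Amal.exists_other (A.symm hm₁)
  have hm₁s : A.side m₁ = s := side_nbr hc hm₁
  have hos : A.side o = !s := by rw [A.side_adj ho, hm₁s]
  -- `d` lies in the second kernel at `x`
  have hdν : d ∈ A.Q ν := by
    refine Amal.mem_Q_of_two (hdx.2 ν hν) (A.symm hν) hγ hγx.symm hdx.1
      (root_inj hr hνs (Amal.adj_of_smul (hdx.2 ν hν) hγ) hγ ?_)
    rw [← R.root_conj hr hγs (g := d) rfl, hcm.eq, mul_inv_cancel_right]
  have hox : R.root o • x = x := three_fix hO hos le_rfl (Amal.reach_cons (A.symm ho)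
    (Amal.reach_cons (A.symm hm₁) (Amal.reach_cons hm (Amal.reach_adj hx))))
  have hom : R.root o • m = m := three_fix hO hos (n := 3) (by omega) (Amal.reach_cons (A.symm ho)
    (Amal.reach_cons (A.symm hm₁) (Amal.reach_adj hm)))
  have hoQ : R.root o ∉ A.Q x := three_out hO hm₁s ho (A.symm hm₁) hm hx hoc hm₁m.symm hxc
  have hd2 : d ∈ A.ball 2 x := by
    obtain ⟨ν', hν', hν'm, hν'ν⟩ := Amal.exists_third (A.symm hx) hν hνm.symm
    have hsw : R.root o • ν = ν' :=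
      Amal.swap_of_not_mem_Q hox (A.symm hx) hν hν' hνm.symm hν'm.symm hν'ν.symm hom hoQ
    have hco : Commute (R.root o) d :=
      (R.root_comm hr hos ((Amal.mem_ball_two.1 hd m₁ hm₁).2 o ho)).symm
    refine Amal.mem_ball_two.2 fun z hz => ?_
    rcases Amal.nbr_cases (A.symm hx) hν hν' hνm.symm hν'm.symm hν'ν.symm hz with rfl | rfl | rfl
    · exact Amal.mem_ball_two.1 hd _ hm
    · exact hdν
    · have := Amal.conj_mem_Q (g := R.root o) hdν
      rwa [hsw, hco.eq, mul_inv_cancel_right] at this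
  set S := A.ball 2 c ⊓ A.ball 2 x with hS
  -- roots beyond `x'` are centralised by `S ⊓ Q x'`
  have hcent : ∀ {k : G}, k ∈ S → k ∈ A.Q x' → ∀ {ν₁ γ₁}, A.Adj x' ν₁ → ν₁ ≠ m → A.Adj ν₁ γ₁ →
      γ₁ ≠ x' → Commute k (R.root γ₁) := by
    intro k hk hkx' ν₁ γ₁ hν₁ hν₁m hγ₁ hγ₁x
    have hkν : k ∈ A.Q ν := Amal.mem_ball_two.1 hk.2 ν hν
    have hkx : k ∈ A.Q x := ⟨hkν.2 x (A.symm hν), fun z hz => (Amal.mem_ball_two.1 hk.2 z hz).1⟩
    have hsame : Same A c k m := same_of_pair hm hx hxc hx' hx'c hxx' (iff_of_true hkx hkx')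
    have hkγ : Commute k (R.root γ) := R.root_comm hr hγs (hkν.2 γ hγ)
    have hsw : R.root γ • m₁ = m₂ :=
      Amal.swap_of_not_mem_Q f0 hm hm₁ hm₂ hm₁m.symm hm₂m.symm hm12 fm fQ
    have hb : ∀ u, k ∈ A.Q u ↔ k ∈ A.Q (R.root γ • u) := fun u => by
      rw [← Amal.conj_mem_Q_iff (g := R.root γ) (v := u) (q := k), ← hkγ.eq, mul_inv_cancel_right]
    have hone : ∀ {k : G}, k ∈ A.ball 2 c → k ∈ A.Q x → k ∈ A.Q o → k ∈ A.Q (R.root γ • o) →
        Same A c k m → k ∈ A.ball 3 c := by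
      intro k hkc hkx hko hko' hs
      refine mem_ball_three hkc fun z u hz hu huc => ?_
      rcases Amal.nbr_cases hm hm₁ hm₂ hm₁m.symm hm₂m.symm hm12 hz with rfl | rfl | rfl
      · exact (hs u x hu huc hx hxc).2 hkx
      · exact (same_iff H hc hkc hm hm₁ hm₁m.symm hs u o hu huc ho hoc).2 hko
      · exact (same_iff H hc hkc hm hm₂ hm₂m.symm hs u _ hu huc (hsw ▸ A.adj_smul _ ho)
          (fun e => hoc (MulAction.injective _ (e.trans f0.symm)))).2 hko'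
    obtain ⟨P, hP, p0, p1, p2⟩ := exists_two_arc_ext hm hx' hx'c 0
    have hPa : A.Arc 4 (app (app P 2 ν₁) 3 γ₁) := by
      refine Amal.arc_app (Amal.arc_app (Amal.arc_le hP le_rfl) (p2 ▸ hν₁) fun _ => ?_) ?_
        fun _ => ?_
      · rw [show P (2 - 1) = m from p1]
        exact hν₁m
      · rw [app_gt (by omega)]
        exact hγ₁
      · rw [show 3 - 1 = 2 from rfl, app_le le_rfl, p2]
        exact hγ₁x
    have hyfix : ∀ {y}, y ∈ A.ball 3 c → y • γ₁ = γ₁ := fun {y} hy => by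
      have := ball_three_fix H hc hy hPa (by rw [app_le (by omega), app_le (by omega), p0])
      rwa [app_gt (by omega)] at this
    have hγ₁s : A.side γ₁ = !s := by rw [A.side_adj hγ₁, side_nbr hx's hν₁]
    refine R.root_comm hr hγ₁s ?_
    by_cases hko : k ∈ A.Q o
    · exact hyfix (hone hk.1 hkx hko ((hb o).1 hko) hsame)
    have hrx := root_mem_ball H hc hm hx
    have hk' : R.root x * k ∈ A.ball 3 c := by
      refine hone (mul_mem hrx hk.1) ?_ ?_ ?_ fun a a' ha hac ha' ha'c => ?_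
      · rw [mul_iff hm hx hrx hk.1, root_bit H hc hm hx hxc hm hx hxc]
        simp [hkx]
      · rw [mul_iff hm₁ ho hrx hk.1, root_bit H hc hm hx hxc hm₁ ho hoc]
        simp [hko, hm₁m.symm]
      · rw [mul_iff hm₂ (hsw ▸ A.adj_smul _ ho) hrx hk.1, root_bit H hc hm hx hxc hm₂
          (hsw ▸ A.adj_smul _ ho) (fun e => hoc (MulAction.injective _ (e.trans f0.symm))), ← hb o]
        simp [hko, hm₂m.symm]
      · rw [mul_iff hm ha hrx hk.1, mul_iff hm ha' hrx hk.1, root_bit H hc hm hx hxc hm ha hac,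
          root_bit H hc hm hx hxc hm ha' ha'c, hsame a a' ha hac ha' ha'c]
    have h1 := hyfix hk'
    rw [mul_smul] at h1
    have h2 : R.root x • γ₁ = γ₁ := three_fix hO hxs le_rfl (Amal.reach_cons (A.symm hx)
      (Amal.reach_cons hx' (Amal.reach_cons hν₁ (Amal.reach_adj hγ₁))))
    exact MulAction.injective (R.root x) (h1.trans h2.symm)
  -- the commutator of `d` with a root beyond `x'`
  have hdS : d ∈ S := ⟨hd, hd2⟩
  have hdm : d • m = m := (Amal.mem_ball_two.1 hd m hm).1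
  have hdx'f : d • x' = x' := (Amal.mem_ball_two.1 hd m hm).2 x' hx'
  obtain ⟨ν₁, ν₁', hν₁, hν₁', hν₁m, hν₁'m, hν11⟩ := Amal.exists_two_others (A.symm hx')
  have hdsw : d • ν₁ = ν₁' := Amal.swap_of_not_mem_Q hdx'f (A.symm hx') hν₁ hν₁' hν₁m.symm
    hν₁'m.symm hν11 hdm hdx'
  obtain ⟨γ₁, hγ₁, hγ₁x⟩ := Amal.exists_other (A.symm hν₁)
  have hν₁s : A.side ν₁ = s := side_nbr hx's hν₁
  have hν₁'s : A.side ν₁' = s := side_nbr hx's hν₁'
  have hγ₁s : A.side γ₁ = !s := by rw [A.side_adj hγ₁, hν₁s]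
  have hd1a : A.Adj ν₁' (d • γ₁) := hdsw ▸ A.adj_smul d hγ₁
  have hd1x : d • γ₁ ≠ x' := fun e => hγ₁x (MulAction.injective d (e.trans hdx'f.symm))
  set g := R.root γ₁ * R.root (d • γ₁) with hg
  have hg2 : g = R.root x ∨ g = R.root c := by
    have hk : A.Kid x' m γ₁ := ⟨ν₁, hν₁, hν₁m, hγ₁, hγ₁x⟩
    obtain ⟨η, hη⟩ := exists_kid hm
    obtain ⟨L, hL, e0, e1, e2⟩ := Amal.exists_arc_two (A.symm hx') (A.symm hm) hx'c.symm
    obtain ⟨-, e⟩ := three_comm hA hO H.noCen hx's (A.symm hx') (A.symm hm) hx'c.symm hx hxx' hxc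
      hk hη
    have hη' : A.Kid (L 2) (L 1) η := by rwa [e2, e1]
    have k0 := kid_fix_end hO hL (e0 ▸ hx's) hη' (i := 0) (by omega)
    have k1 := kid_fix_end hO hL (e0 ▸ hx's) hη' (i := 1) (by omega)
    have kQ := kid_not_mem hO hL (e0 ▸ hx's) hη'
    rw [e0] at k0 kQ
    rw [e1] at k1
    have hsw : R.root η • ν₁ = ν₁' := Amal.swap_of_not_mem_Q k0 (A.symm hx') hν₁ hν₁' hν₁m.symm
      hν₁'m.symm hν11 k1 kQ
    have hnx : R.root η • γ₁ ≠ x' := fun e' => hγ₁x (MulAction.injective _ (e'.trans k0.symm))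
    by_cases e' : d • γ₁ = R.root η • γ₁
    · left
      rw [hg, e', e]
    right
    rw [hg, ← root_mul_root hr hν₁'s (hsw ▸ A.adj_smul _ hγ₁) (A.symm hν₁') hd1a hnx
      (Ne.symm e') hd1x.symm, ← mul_assoc, e,
      root_mul_root hr hms hx hx' (A.symm hm) hxx' hxc hx'c]
  have hgsq : g * g = 1 := by
    rcases hg2 with e | e <;> rw [e]
    exacts [R.root_sq hr hxs, R.root_sq hr hc]
  have hgcomm : R.root γ₁ * R.root (d • γ₁) = R.root (d • γ₁) * R.root γ₁ := by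
    have := inv_eq_of_mul_eq_one_right hgsq
    rw [hg, mul_inv_rev, inv_root hr hγ₁s, inv_root hr ((A.side_smul d γ₁).trans hγ₁s)] at this
    exact this.symm
  -- the value does not depend on the root beyond `x'`
  have hindep : ∀ {μ γ₂}, A.Adj x' μ → μ ≠ m → A.Adj μ γ₂ → γ₂ ≠ x' →
      R.root γ₂ * (d * R.root γ₂ * d⁻¹) = g := by
    intro μ γ₂ hμ hμm hγ₂ hγ₂x
    have hdd : Commute (d * d) (R.root γ₁) :=
      hcent (mul_mem hdS hdS) ((Amal.mul_mem_Q_iff (A.symm hx') hdx'f hdx'f hdm hdm).2 Iff.rfl)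
        hν₁ hν₁m hγ₁ hγ₁x
    have hx'c' : ∀ {a : V}, A.side a = (!s) → A.Reach 2 a x' →
        R.root a * R.root x' * (d * (R.root a * R.root x') * d⁻¹) =
          R.root a * (d * R.root a * d⁻¹) := by
      intro a ha hra
      have hz : Commute (R.root a) (R.root x') := R.root_comm hr hx's (three_fix hO ha (by omega) hra)
      have hzd : Commute d (R.root x') := R.root_comm hr hx's hdx'f
      have hz2 : R.root x' * R.root x' = 1 := R.root_sq hr hx's
      calc R.root a * R.root x' * (d * (R.root a * R.root x') * d⁻¹)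
          = R.root a * R.root x' * (d * R.root x' * R.root a * d⁻¹) := by rw [hz.eq]; group
        _ = R.root a * R.root x' * (R.root x' * d * R.root a * d⁻¹) := by rw [hzd.eq]
        _ = R.root a * (R.root x' * R.root x') * (d * R.root a * d⁻¹) := by group
        _ = R.root a * (d * R.root a * d⁻¹) := by rw [hz2, mul_one]
    have h1 : R.root γ₁ * (d * R.root γ₁ * d⁻¹) = g := by rw [R.root_conj hr hγ₁s rfl]
    have h2 : R.root (d • γ₁) * (d * R.root (d • γ₁) * d⁻¹) = g := by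
      rw [hg, hgcomm, ← R.root_conj hr hγ₁s (g := d) rfl]
      calc d * R.root γ₁ * d⁻¹ * (d * (d * R.root γ₁ * d⁻¹) * d⁻¹)
          = d * R.root γ₁ * d⁻¹ * (d * d * R.root γ₁ * (d * d)⁻¹) := by group
        _ = d * R.root γ₁ * d⁻¹ * R.root γ₁ := by rw [hdd.eq, mul_inv_cancel_right]
    have hμ' : μ = ν₁ ∨ μ = ν₁' :=
      (Amal.nbr_cases (A.symm hx') hν₁ hν₁' hν₁m.symm hν₁'m.symm hν11 hμ).resolve_left hμm
    have hd1r : A.side (d • γ₁) = !s := (A.side_smul d γ₁).trans hγ₁s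
    rcases hμ' with rfl | rfl
    · by_cases e : γ₂ = γ₁
      · rw [e, h1]
      · rw [← root_mul_root hr hν₁s hγ₁ (A.symm hν₁) hγ₂ hγ₁x (Ne.symm e) hγ₂x.symm,
          hx'c' hγ₁s (Amal.reach_cons (A.symm hγ₁) (Amal.reach_adj (A.symm hν₁))), h1]
    · by_cases e : γ₂ = d • γ₁
      · rw [e, h2]
      · rw [← root_mul_root hr hν₁'s hd1a (A.symm hν₁') hγ₂ hd1x (Ne.symm e) hγ₂x.symm,
          hx'c' hd1r (Amal.reach_cons (A.symm hd1a) (Amal.reach_adj (A.symm hν₁'))), h2]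
  -- an element fixing `x'` and exchanging `c` and `x`
  obtain ⟨τ, hτm, hτx', y, hy, hτy⟩ := A.swap hx'
  have hτQ : τ ∉ A.Q m := fun h => hτy (h.2 y hy)
  have hτc : τ • c = x := Amal.swap_of_not_mem_Q hτm hx' (A.symm hm) hx hx'c hxx'.symm hxc.symm hτx' hτQ
  have hτx : τ • x = c := Amal.swap_of_not_mem_Q hτm hx' hx (A.symm hm) hxx'.symm hx'c hxc hτx' hτQ
  have hdt : τ * d * τ⁻¹ ∈ S := by
    have h1 := Amal.conj_mem_ball 2 (g := τ) hd
    have h2 := Amal.conj_mem_ball 2 (g := τ) hd2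
    rw [hτc] at h1
    rw [hτx] at h2
    exact ⟨h2, h1⟩
  set k := d⁻¹ * (τ * d * τ⁻¹) with hkdef
  have hkS : k ∈ S := mul_mem (inv_mem hdS) hdt
  have hkx' : k ∈ A.Q x' := by
    have h1 : (τ * d * τ⁻¹) • m = m := (Amal.mem_ball_two.1 hdt.1 m hm).1
    have h2 : (τ * d * τ⁻¹) • x' = x' := (Amal.mem_ball_two.1 hdt.1 m hm).2 x' hx'
    rw [hkdef, Amal.mul_mem_Q_iff (A.symm hx') (inv_smul_eq_iff.2 hdx'f.symm) h2
      (inv_smul_eq_iff.2 hdm.symm) h1, inv_mem_iff]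
    have h3 := Amal.conj_mem_Q_iff (A := A) (g := τ) (v := x') (q := d)
    rw [hτx'] at h3
    simp [h3, hdx']
  have hν2 : A.Adj x' (τ • ν₁) := Amal.adj_of_smul hτx' hν₁
  have hν2m : τ • ν₁ ≠ m := fun e => hν₁m (MulAction.injective τ (e.trans hτm.symm))
  have hγ2x : τ • γ₁ ≠ x' := fun e => hγ₁x (MulAction.injective τ (e.trans hτx'.symm))
  have hfix : τ * g * τ⁻¹ = g := by
    have hc2 := hcent hkS hkx' hν2 hν2m (A.adj_smul τ hγ₁) hγ2x
    have hdk : τ * d * τ⁻¹ = d * k := by rw [hkdef, mul_inv_cancel_left]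
    nth_rewrite 2 [← hindep hν2 hν2m (A.adj_smul τ hγ₁) hγ2x]
    rw [hg, ← R.root_conj hr hγ₁s (g := d) rfl]
    calc τ * (R.root γ₁ * (d * R.root γ₁ * d⁻¹)) * τ⁻¹
        = τ * R.root γ₁ * τ⁻¹ * (τ * d * τ⁻¹ * (τ * R.root γ₁ * τ⁻¹) * (τ * d * τ⁻¹)⁻¹) := by group
      _ = R.root (τ • γ₁) * (d * k * R.root (τ • γ₁) * (d * k)⁻¹) := by
          rw [R.root_conj hr hγ₁s (g := τ) rfl, hdk]
      _ = R.root (τ • γ₁) * (d * (k * R.root (τ • γ₁) * k⁻¹) * d⁻¹) := by group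
      _ = R.root (τ • γ₁) * (d * R.root (τ • γ₁) * d⁻¹) := by rw [hc2.eq, mul_inv_cancel_right]
  rcases hg2 with e | e <;> rw [e] at hfix
  · rw [R.root_conj hr hxs hτx] at hfix
    exact root_ne hr hms (A.symm hm) hx hxc.symm hfix
  · rw [R.root_conj hr hc hτc] at hfix
    exact root_ne hr hms hx (A.symm hm) hxc hfix

set_option maxHeartbeats 400000 in
theorem card_ball_two (hA : A.CharTwo) (H : R.ThreeOnly) (hc : A.side c = !s) :
    Nat.card (A.ball 2 c) ≤ 8 * Nat.card (A.ball 3 c) := by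
  have hO := H.odd3
  obtain ⟨m, hm⟩ := A.exists_adj c
  obtain ⟨m₁, m₂, hm₁, hm₂, hm₁m, hm₂m, hm12⟩ := Amal.exists_two_others hm
  obtain ⟨x, x', hx, hx', hxc, hx'c, hxx'⟩ := Amal.exists_two_others (A.symm hm)
  obtain ⟨o, ho, hoc⟩ := Amal.exists_other (A.symm hm₁)
  obtain ⟨p, hp, hpc⟩ := Amal.exists_other (A.symm hm₂)
  have hfix : ∀ {z u}, A.Adj c z → A.Adj z u → ∀ {d}, d ∈ A.ball 2 c → d • u = u ∧ d • z = z :=
    fun {z u} hz hu {d} hd => ⟨(Amal.mem_ball_two.1 hd _ hz).2 _ hu, (Amal.mem_ball_two.1 hd _ hz).1⟩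
  have htwo : ∀ {z u}, A.Adj c z → A.Adj z u → ∀ (X : Subgroup G), X ≤ A.ball 2 c →
      Nat.card X ≤ 2 * Nat.card ↥(X ⊓ A.Q u) := fun hz hu X hX =>
    Amal.card_le_two_mul_Q (A.symm hu) fun d hd => hfix hz hu (hX hd)
  have : Finite (A.ball 3 c) := A.finite_of_le (v := c) fun q hq => Amal.ball_smul_self _ hq
  have hball : ∀ {d : G}, d ∈ A.ball 2 c → d ∈ A.Q x → d ∈ A.Q x' → d ∈ A.Q o → d ∈ A.Q p →
      d ∈ A.ball 3 c := by
    intro d hd h1 h2 h3 h4
    have hs : Same A c d m := same_of_pair hm hx hxc hx' hx'c hxx' (iff_of_true h1 h2)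
    refine mem_ball_three hd fun z u hz hu huc => ?_
    rcases Amal.nbr_cases hm hm₁ hm₂ hm₁m.symm hm₂m.symm hm12 hz with rfl | rfl | rfl
    · exact (hs u x hu huc hx hxc).2 h1
    · exact (same_iff H hc hd hm hm₁ hm₁m.symm hs u o hu huc ho hoc).2 h3
    · exact (same_iff H hc hd hm hm₂ hm₂m.symm hs u p hu huc hp hpc).2 h4
  -- one of two bits is redundant
  have hdich : (∀ d ∈ A.ball 2 c, d ∈ A.Q x ↔ d ∈ A.Q x') ∨
      ∀ d ∈ A.ball 2 c, d ∈ A.Q x → d ∈ A.Q x' → d ∈ A.Q o → d ∈ A.Q p := by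
    by_contra hcon
    rw [not_or] at hcon
    obtain ⟨h1, h2⟩ := hcon
    push Not at h1 h2
    obtain ⟨d₀, hd₀, hd₀x⟩ := h1
    obtain ⟨p₀, hp₀, hp1, hp2, hp3, hp4⟩ := h2
    have hrb := fun {a b z u : V} (h₁ : A.Adj c a) (h₂ : A.Adj a b) (h₃ : b ≠ c) (h₄ : A.Adj c z)
      (h₅ : A.Adj z u) (h₆ : u ≠ c) => root_bit (R := R) H hc h₁ h₂ h₃ h₄ h₅ h₆
    have hro := root_mem_ball (R := R) H hc hm₁ ho
    have hrp := root_mem_ball (R := R) H hc hm₂ hp
    obtain ⟨d, hd, hdx, hdx'⟩ : ∃ d ∈ A.ball 2 c, d ∈ A.Q x ∧ d ∉ A.Q x' := by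
      by_cases h : d₀ ∈ A.Q x
      · exact ⟨d₀, hd₀, h, by tauto⟩
      · refine ⟨R.root o * d₀, mul_mem hro hd₀, ?_, ?_⟩
        · rw [mul_iff hm hx hro hd₀, hrb hm₁ ho hoc hm hx hxc]
          simp [h, hm₁m]
        · rw [mul_iff hm hx' hro hd₀, hrb hm₁ ho hoc hm hx' hx'c]
          simp only [hm₁m, false_iff]
          tauto
    set pp := R.root p * p₀ with hpp
    have hppd : pp ∈ A.ball 2 c := mul_mem hrp hp₀
    have hx1 : pp ∉ A.Q x := by
      rw [mul_iff hm hx hrp hp₀, hrb hm₂ hp hpc hm hx hxc]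
      simp [hp1, hm₂m]
    have hx2 : pp ∉ A.Q x' := by
      rw [mul_iff hm hx' hrp hp₀, hrb hm₂ hp hpc hm hx' hx'c]
      simp [hp2, hm₂m]
    have ho1 : pp ∉ A.Q o := by
      rw [mul_iff hm₁ ho hrp hp₀, hrb hm₂ hp hpc hm₁ ho hoc]
      simp [hp3, hm12.symm]
    have hp5 : pp ∉ A.Q p := by
      rw [mul_iff hm₂ hp hrp hp₀, hrb hm₂ hp hpc hm₂ hp hpc]
      simp [hp4]
    have hsame : Same A c pp m := same_of_pair hm hx hxc hx' hx'c hxx' (iff_of_false hx1 hx2)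
    have hout : ∀ {u}, A.Adj m₂ u → u ≠ c → pp ∉ A.Q u := fun {u} hu huc h =>
      hp5 ((same_iff H hc hppd hm hm₂ hm₂m.symm hsame u p hu huc hp hpc).1 h)
    -- children of `x` and of `x'`
    obtain ⟨ν, hν, hνm⟩ := Amal.exists_other (A.symm hx)
    obtain ⟨γ, hγ, hγx⟩ := Amal.exists_other (A.symm hν)
    obtain ⟨ν', hν', hν'm⟩ := Amal.exists_other (A.symm hx')
    obtain ⟨γ', hγ', hγ'x⟩ := Amal.exists_other (A.symm hν')
    obtain ⟨f0, fQ, fm, hor⟩ := four_cases (R := R) H hc hm hx hxc hν hνm hγ hγx hd hdx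
    rcases hor with ⟨hcm, -⟩ | hbit
    · exact lam (R := R) hA H hc hm hx hxc hx' hx'c hxx' hν hνm hγ hγx hd hdx hdx' hcm
    have hd' : d * pp ∈ A.ball 2 c := mul_mem hd hppd
    have hd'x : d * pp ∉ A.Q x := by
      rw [mul_iff hm hx hd hppd]
      simp [hdx, hx1]
    have hd'x' : d * pp ∈ A.Q x' := by
      rw [mul_iff hm hx' hd hppd]
      simp [hdx', hx2]
    obtain ⟨g0, gQ, gm, hor'⟩ := four_cases (R := R) H hc hm hx' hx'c hν' hν'm hγ' hγ'x hd' hd'x'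
    rcases hor' with ⟨hcm, -⟩ | hbit'
    · exact lam (R := R) hA H hc hm hx' hx'c hx hxc hxx'.symm hν' hν'm hγ' hγ'x hd' hd'x' hd'x hcm
    have hsw : R.root γ • m₁ = m₂ :=
      Amal.swap_of_not_mem_Q f0 hm hm₁ hm₂ hm₁m.symm hm₂m.symm hm12 fm fQ
    have hsw' : R.root γ' • m₁ = m₂ :=
      Amal.swap_of_not_mem_Q g0 hm hm₁ hm₂ hm₁m.symm hm₂m.symm hm12 gm gQ
    have hu1 : A.Adj m₂ (R.root γ • o) := hsw ▸ A.adj_smul _ ho
    have hu2 : A.Adj m₂ (R.root γ' • o) := hsw' ▸ A.adj_smul _ ho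
    have hu1c : R.root γ • o ≠ c := fun e => hoc (MulAction.injective _ (e.trans f0.symm))
    have hu2c : R.root γ' • o ≠ c := fun e => hoc (MulAction.injective _ (e.trans g0.symm))
    have hune : R.root γ • o ≠ R.root γ' • o := by
      intro e
      have hko : A.Kid c m o := ⟨m₁, hm₁, hm₁m, ho, hoc⟩
      have k1 := (three_comm hA hO H.noCen hc hm hx hxc hx' hx'c hxx'.symm hko
        ⟨ν, hν, hνm, hγ, hγx⟩).2
      have k2 := (three_comm hA hO H.noCen hc hm hx' hx'c hx hxc hxx' hko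
        ⟨ν', hν', hν'm, hγ', hγ'x⟩).2
      rw [e, k2] at k1
      exact root_ne hO.isRoot (side_nbr hc hm) hx hx' hxx' k1
    have hns : ¬ (d ∈ A.Q (R.root γ • o) ↔ d ∈ A.Q (R.root γ' • o)) := fun h => by
      have := same_iff H hc hd hm₂ hm hm₂m (same_of_pair hm₂ hu1 hu1c hu2 hu2c hune h) x x' hx hxc
        hx' hx'c
      exact hdx' (this.1 hdx)
    have k1 := hbit m₁ o hm₁ hm₁m ho hoc
    have k2 := hbit' m₁ o hm₁ hm₁m ho hoc
    rw [mul_iff hm₁ ho hd hppd, mul_iff hm₂ hu2 hd hppd] at k2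
    rw [iff_false_intro ho1, iff_false_intro (hout hu2 hu2c), iff_false, iff_false, not_not] at k2
    exact hns ⟨fun a => k2.1 fun b => k1.1 b a, fun a => by_contra fun b => k2.2 a (k1.2 b)⟩
  rcases hdich with h | h
  · have c1 := htwo hm hx (A.ball 2 c) le_rfl
    have c2 := htwo hm₁ ho (A.ball 2 c ⊓ A.Q x) inf_le_left
    have c3 := htwo hm₂ hp (A.ball 2 c ⊓ A.Q x ⊓ A.Q o) (inf_le_left.trans inf_le_left)
    have hle : A.ball 2 c ⊓ A.Q x ⊓ A.Q o ⊓ A.Q p ≤ A.ball 3 c := fun d hd =>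
      hball hd.1.1.1 hd.1.1.2 ((h d hd.1.1.1).1 hd.1.1.2) hd.1.2 hd.2
    have := Subgroup.card_le_of_le hle
    omega
  · have c1 := htwo hm hx (A.ball 2 c) le_rfl
    have c2 := htwo hm hx' (A.ball 2 c ⊓ A.Q x) inf_le_left
    have c3 := htwo hm₁ ho (A.ball 2 c ⊓ A.Q x ⊓ A.Q x') (inf_le_left.trans inf_le_left)
    have hle : A.ball 2 c ⊓ A.Q x ⊓ A.Q x' ⊓ A.Q o ≤ A.ball 3 c := fun d hd =>
      hball hd.1.1.1 hd.1.1.2 hd.1.2 hd.2 (h d hd.1.1.1 hd.1.1.2 hd.1.2 hd.2)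
    have := Subgroup.card_le_of_le hle
    omega

/-- The bound for critical length three. -/
theorem three_bound (hA : A.CharTwo) (H : R.ThreeOnly) (v : V) : A.Bounded := by
  obtain ⟨c, hc⟩ := A.exists_side v (!s)
  obtain ⟨m, hm⟩ := A.exists_adj c
  refine Amal.bounded_of_edge hm ?_
  rw [Amal.card_edge hm]
  have h1 := card_Q_le hA H hc
  have h2 := card_ball_two hA H hc
  have h3 := card_ball_three hA H hc
  omega

end Fam

end Cfsg.Agent.Goldschmidt
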