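import Cfsg.Agent.Lib.Goldschmidt.OddLarge
import Cfsg.Agent.Lib.Goldschmidt.ThreeBound

/-!
# All central involutions of edge stabilisers are roots at the same side
-/

set_option autoImplicit false

namespace Cfsg.Agent.Goldschmidt

open MulAction

variable {G V : Type*} [Group G] [MulAction G V] {A : Amal G V} {s : Bool}

/-- A root family with critical length two bounds the edge stabilisers. -/
theorem Fam.two_bound (hNC : A.NoCen s) (R : Fam A s) {P : ℕ → V}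
    (hR : R.Low 2) (h : R.Crit 2 P) : A.Bounded := by
  obtain ⟨hP, hs, x, hx, hxQ⟩ := id h
  have hab : A.Adj (P 0) (P 1) := hP.1 0 (by omega)
  have hbc : A.Adj (P 1) (P 2) := hP.1 1 (by omega)
  have hcs : A.side (P 2) = s := (Amal.side_add_two hP (i := 0) le_rfl).trans hs
  have hbs : A.side (P 1) = !s := by rw [A.side_adj hab, hs]
  obtain ⟨ν, ν', hν, hν', hνb, hν'b, hνν'⟩ := Amal.exists_two_others (A.symm hbc)
  set a := R.el (P 0) x with ha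
  have fb : a • P 1 = P 1 :=
    Fam.low_fix hR hs hx (by omega) (n := 1) (by omega) (Amal.reach_adj hab)
  have fc : a • P 2 = P 2 :=
    Fam.low_fix hR hs hx (by omega) le_rfl (Amal.reach_cons hab (Amal.reach_adj hbc))
  have hsw : a • ν = ν' := Amal.swap_of_not_mem_Q fc (A.symm hbc) hν hν' hνb.symm hν'b.symm hνν' fb hxQ
  have hac : ∀ {d}, d ∈ A.ball 2 (P 1) → Commute d a := fun {d} hd =>
    R.comm_mem hs hx (Amal.mem_ball_two.1 hd _ (A.symm hab))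
  set D := A.ball 2 (P 1) with hD
  let Y : Subgroup G := D ⊓ A.ball 2 ν ⊓ A.ball 2 ν'
  have hYn : ∀ g : G, g • P 2 = P 2 → ∀ y ∈ Y, g * y * g⁻¹ ∈ Y := by
    intro g hg y hy
    have hmem : ∀ z, A.Adj (P 2) z → g * y * g⁻¹ ∈ A.ball 2 z := by
      intro z hz
      have hz' : A.Adj (P 2) (g⁻¹ • z) := Amal.adj_of_smul (inv_smul_eq_iff.2 hg.symm) hz
      have : y ∈ A.ball 2 (g⁻¹ • z) := by
        rcases Amal.nbr_cases (A.symm hbc) hν hν' hνb.symm hν'b.symm hνν' hz' with e | e | e <;>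
          rw [e]
        exacts [hy.1.1, hy.1.2, hy.2]
      have := Amal.conj_mem_ball (A := A) 2 (g := g) this
      rwa [smul_inv_smul] at this
    exact ⟨⟨hmem _ (A.symm hbc), hmem _ hν⟩, hmem _ hν'⟩
  have hYle : Y ≤ stabilizer G (P 2) ⊓ stabilizer G (P 1) := fun y hy =>
    ⟨(Amal.mem_ball_two.1 hy.1.1 _ hbc).1, Amal.ball_smul_self _ hy.1.1⟩
  have hY : Y = ⊥ := by
    by_contra hne
    obtain ⟨y, hy, hy1, hy2, hy2', hy1', hyc⟩ := Amal.exists_central_invol (A.symm hbc) hYle hne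
      fun g hg _ => hYn g hg
    refine hy1 (hNC hcs (A.symm hbc) hy2' hy1' hy2 fun g hg => ?_)
    let C : Subgroup G := stabilizer G (P 2) ⊓ Subgroup.centralizer (Y : Set G)
    have haC : a ∈ C := ⟨fc, fun d hd => (hac (Subgroup.mem_inf.1 (Subgroup.mem_inf.1 hd).1).1).eq⟩
    have hCn : ∀ g : G, g • P 2 = P 2 → ∀ c ∈ C, g * c * g⁻¹ ∈ C := by
      intro g hg c hc
      have hg' : g⁻¹ • P 2 = P 2 := inv_smul_eq_iff.2 hg.symm
      refine ⟨?_, fun d hd => ?_⟩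
      · show (g * c * g⁻¹) • P 2 = P 2
        rw [mul_smul, mul_smul, hg', show c • P 2 = P 2 from hc.1, hg]
      · have := hc.2 _ (hYn g⁻¹ hg' d hd)
        rw [inv_inv] at this
        calc d * (g * c * g⁻¹) = g * (g⁻¹ * d * g * c) * g⁻¹ := by group
          _ = g * (c * (g⁻¹ * d * g)) * g⁻¹ := by rw [this]
          _ = g * c * g⁻¹ * d := by group
    have htr := Amal.transitive_of_normal (N := C) (fun n hn => (Subgroup.mem_inf.1 hn).1) hCn haC hxQ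
    obtain ⟨n, hn, t, htc, htb, rfl⟩ := Amal.exists_edge_mul (A.symm hbc) htr hg
    exact Commute.mul_left ((Subgroup.mem_inf.1 hn).2 y hy).symm (hyc t htc htb)
  have hle : D ⊓ A.ball 2 ν ≤ ⊥ := fun d hd => by
    rw [← hY]
    refine ⟨hd, ?_⟩
    have := Amal.conj_mem_ball (A := A) 2 (g := a) hd.2
    rwa [hsw, ← (hac hd.1).eq, mul_inv_cancel_right] at this
  obtain ⟨w, w', hw, hw', hwc, hw'c, hww'⟩ := Amal.exists_two_others (A.symm hν)
  have hDc : ∀ {d}, d ∈ D → d ∈ A.Q (P 2) := fun {d} hd => Amal.mem_ball_two.1 hd _ hbc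
  have c1 : Nat.card D ≤ 2 * Nat.card ↥(D ⊓ A.Q ν) :=
    Amal.card_le_two_mul_Q (A.symm hν) fun d hd => ⟨(hDc hd).2 ν hν, (hDc hd).1⟩
  have c2 : Nat.card ↥(D ⊓ A.Q ν) ≤ 2 * Nat.card ↥(D ⊓ A.Q ν ⊓ A.Q w) :=
    Amal.card_le_two_mul_Q (A.symm hw) fun d hd => ⟨hd.2.2 w hw, hd.2.1⟩
  have c3 : Nat.card ↥(D ⊓ A.Q ν ⊓ A.Q w) ≤ 2 * Nat.card ↥(D ⊓ A.Q ν ⊓ A.Q w ⊓ A.Q w') :=
    Amal.card_le_two_mul_Q (A.symm hw') fun d hd => ⟨hd.1.2.2 w' hw', hd.1.2.1⟩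
  have c4 : D ⊓ A.Q ν ⊓ A.Q w ⊓ A.Q w' ≤ ⊥ := fun d hd => hle ⟨hd.1.1.1,
    Amal.mem_ball_two.2 fun z hz => by
      rcases Amal.nbr_cases (A.symm hν) hw hw' hwc.symm hw'c.symm hww' hz with rfl | rfl | rfl
      exacts [hDc hd.1.1.1, hd.1.2, hd.2]⟩
  rw [le_bot_iff.1 c4, Subgroup.card_bot] at c3
  obtain ⟨α₀, hα₀, hα₀a, hα₀c⟩ := Amal.exists_third (A.symm hab) hbc (hP.2 0 (by omega)).symm
  have q1 : Nat.card (A.Q (P 1)) ≤ 2 * Nat.card ↥(A.Q (P 1) ⊓ A.Q (P 0)) :=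
    Amal.card_le_two_mul_Q hab fun q hq => ⟨hq.2 _ (A.symm hab), hq.1⟩
  have q2 : Nat.card ↥(A.Q (P 1) ⊓ A.Q (P 0)) ≤
      2 * Nat.card ↥(A.Q (P 1) ⊓ A.Q (P 0) ⊓ A.Q α₀) :=
    Amal.card_le_two_mul_Q (A.symm hα₀) fun q hq => ⟨hq.1.2 _ hα₀, hq.1.1⟩
  have q3 : Nat.card ↥(A.Q (P 1) ⊓ A.Q (P 0) ⊓ A.Q α₀) ≤
      2 * Nat.card ↥(A.Q (P 1) ⊓ A.Q (P 0) ⊓ A.Q α₀ ⊓ A.Q (P 2)) :=
    Amal.card_le_two_mul_Q (A.symm hbc) fun q hq => ⟨hq.1.1.2 _ hbc, hq.1.1.1⟩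
  have q4 : A.Q (P 1) ⊓ A.Q (P 0) ⊓ A.Q α₀ ⊓ A.Q (P 2) ≤ D := fun q hq =>
    Amal.mem_ball_two.2 fun z hz => by
      rcases Amal.nbr_cases (A.symm hab) hα₀ hbc hα₀a.symm (hP.2 0 (by omega)).symm hα₀c hz with
        rfl | rfl | rfl
      exacts [hq.1.1.2, hq.1.2, hq.2]
  have : Finite D := A.finite_of_le (v := P 1) fun q hq => Amal.ball_smul_self _ hq
  have := Subgroup.card_le_of_le q4
  refine Amal.bounded_of_edge hbc ?_
  rw [Amal.card_edge hbc]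
  omega

/-- A root family bounds the edge stabilisers or has all arcs of length three critical. -/
theorem Fam.residual_step (hA : A.CharTwo) (hNC : A.NoCen s) (R : Fam A s) (hr : R.IsRoot) (v : V) :
    A.Bounded ∨ R.Odd3 0 := by
  obtain ⟨x, hx⟩ := A.exists_side v s
  obtain ⟨b, P, hR, h⟩ := R.exists_crit hx
  have hb := R.crit_pos h
  rcases (by omega : b = 1 ∨ b = 2 ∨ 3 ≤ b) with rfl | rfl | h3
  · exact Or.inl (R.small_bound h)
  · exact Or.inl (Fam.two_bound hNC R hR h)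
  rcases Nat.even_or_odd b with hev | hodd
  · refine (R.even_false hA hr hR h hev ?_).elim
    obtain ⟨m, hm⟩ := hev
    omega
  obtain ⟨k, rfl⟩ : ∃ k, b = k + 3 := ⟨b - 3, by omega⟩
  have H : R.Odd3 k := ⟨hr, hR, Fam.allCrit hA hr hR h hodd h3, hodd⟩
  rcases (by omega : k = 0 ∨ k = 1 ∨ k = 2 ∨ k = 3 ∨ 4 ≤ k) with rfl | rfl | rfl | rfl | h4
  · exact Or.inr H
  · obtain ⟨m, hm⟩ := hodd
    omega
  · exact (Fam.five_false H v).elim
  · obtain ⟨m, hm⟩ := hodd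
    omega
  · exact (Fam.seven_false hA hNC H h4 v).elim

/-- If every central involution is a root on one side, the edge stabilisers are bounded. -/
theorem Amal.bounded_of_residual (hA : A.CharTwo) (hNC : A.NoCen s)
    (hΩ : ∀ {u v : V} {y : G}, A.side u = s → A.Adj u v → y ≠ 1 → y * y = 1 → y • u = u → y • v = v →
      (∀ g : G, g • u = u → g • v = v → Commute g y) → ∃ S : Fam A s, S.IsRoot ∧ S.root v = y)
    (v₀ : V) : A.Bounded := by
  by_contra hnb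
  obtain ⟨u, hu⟩ := A.exists_side v₀ s
  obtain ⟨v, huv⟩ := A.exists_adj u
  obtain ⟨g, hgu, hgv, x, hx, hgx⟩ := A.swap huv
  obtain ⟨y, -, hy1, hy2, hyu, hyv, hyc⟩ := Amal.exists_central_invol huv (le_refl _)
    (fun e => hgx (by
      have : g ∈ (⊥ : Subgroup G) := e ▸ (⟨hgu, hgv⟩ : g ∈ stabilizer G u ⊓ stabilizer G v)
      rw [Subgroup.mem_bot] at this
      rw [this, one_smul]))
    (fun k hk hk' z hz => ⟨by
      show (k * z * k⁻¹) • u = u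
      rw [mul_smul, mul_smul, inv_smul_eq_iff.2 hk.symm, show z • u = u from hz.1, hk], by
      show (k * z * k⁻¹) • v = v
      rw [mul_smul, mul_smul, inv_smul_eq_iff.2 hk'.symm, show z • v = v from hz.2, hk']⟩)
  obtain ⟨R, hr, -⟩ := hΩ hu huv hy1 hy2 hyu hyv hyc
  have hR : R.Odd3 0 := (R.residual_step hA hNC hr v₀).resolve_left hnb
  have H : R.ThreeOnly := ⟨hR, hNC, fun {u v y} hu huv h1 h2 h3 h4 h5 => by
    obtain ⟨S, hS, e⟩ := hΩ hu huv h1 h2 h3 h4 h5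
    rw [← e, Fam.roots_eq hA hR ((S.residual_step hA hNC hS v₀).resolve_left hnb) hNC
      (by rw [A.side_adj huv, hu])]⟩
  exact hnb (Fam.three_bound hA H v₀)

end Cfsg.Agent.Goldschmidt
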