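import Cfsg.Agent.Lib.Goldschmidt.TwoSided
import Cfsg.Agent.Lib.Goldschmidt.Residual

/-!
# The bound for amalgams of index `(3, 3)`

Central involutions of edge stabilisers give families, and the position of these involutions
relative to the centres of the vertex stabilisers decides which argument applies.
-/

set_option autoImplicit false

namespace Cfsg.Agent.Goldschmidt

open MulAction

variable {G V : Type*} [Group G] [MulAction G V]

/-- An involution (or `1`) of the edge stabiliser of `(u, v)` centralised by it. -/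
structure Amal.IsOm (A : Amal G V) (u v : V) (y : G) : Prop where
  left : y • u = u
  right : y • v = v
  sq : y * y = 1
  comm : ∀ g : G, g • u = u → g • v = v → Commute g y

/-- `y` is centralised by the stabiliser of `u`. -/
def Amal.IsCen (_A : Amal G V) (u : V) (y : G) : Prop := ∀ g : G, g • u = u → Commute g y

open Classical in
/-- The element at the edge `(u', x)` corresponding to `y` at `(u, v)`. -/
noncomputable def Amal.val (_A : Amal G V) (u v : V) (y : G) (u' x : V) : G :=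
  if h : ∃ g : G, g • u = u' ∧ g • v = x then h.choose * y * h.choose⁻¹ else 1

/-- The product of the three conjugates of `y` around `u`. -/
noncomputable def Amal.tot (A : Amal G V) (u v : V) (y : G) : G :=
  A.val u v y u (A.nbrs u).choose * A.val u v y u (A.nbrs u).choose_spec.choose *
    A.val u v y u (A.nbrs u).choose_spec.choose_spec.choose

namespace Amal

variable {A : Amal G V}

theorem IsOm.swap {u v : V} {y : G} (h : A.IsOm u v y) : A.IsOm v u y :=
  ⟨h.right, h.left, h.sq, fun g hv hu => h.comm g hu hv⟩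

theorem IsOm.conj {u v : V} {y : G} (h : A.IsOm u v y) (g : G) :
    A.IsOm (g • u) (g • v) (g * y * g⁻¹) := by
  refine ⟨by rw [mul_smul, mul_smul, inv_smul_smul, h.left],
    by rw [mul_smul, mul_smul, inv_smul_smul, h.right], ?_, fun k hku hkv => ?_⟩
  · calc g * y * g⁻¹ * (g * y * g⁻¹) = g * (y * y) * g⁻¹ := by group
      _ = 1 := by rw [h.sq, mul_one, mul_inv_cancel]
  · have := h.comm (g⁻¹ * k * g) (by rw [mul_smul, mul_smul, hku, inv_smul_smul])
      (by rw [mul_smul, mul_smul, hkv, inv_smul_smul])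
    calc k * (g * y * g⁻¹) = g * ((g⁻¹ * k * g) * y) * g⁻¹ := by group
      _ = g * (y * (g⁻¹ * k * g)) * g⁻¹ := by rw [this.eq]
      _ = g * y * g⁻¹ * k := by group

theorem IsCen.conj {u : V} {y : G} (h : A.IsCen u y) (g : G) :
    A.IsCen (g • u) (g * y * g⁻¹) := fun k hk => by
  have := h (g⁻¹ * k * g) (by rw [mul_smul, mul_smul, hk, inv_smul_smul])
  calc k * (g * y * g⁻¹) = g * ((g⁻¹ * k * g) * y) * g⁻¹ := by group
    _ = g * (y * (g⁻¹ * k * g)) * g⁻¹ := by rw [this.eq]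
    _ = g * y * g⁻¹ * k := by group

theorem IsOm.mem_Q (hA : A.CharTwo) {u v : V} (h : A.Adj u v) {y : G} (hy : A.IsOm u v y) :
    y ∈ A.Q u := hA u y hy.left fun q hq => ((hy.comm q hq.1 (hq.2 v h)).eq).symm

theorem IsOm.commute_left (hA : A.CharTwo) {u v x : V} (hv : A.Adj u v) (hx : A.Adj u x) {y z : G}
    (hy : A.IsOm u v y) (hz : A.IsOm u x z) : Commute y z :=
  hz.comm y hy.left ((hy.mem_Q hA hv).2 x hx)

theorem IsOm.mul (hA : A.CharTwo) {u v : V} (h : A.Adj u v) {y z : G} (hy : A.IsOm u v y)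
    (hz : A.IsOm u v z) : A.IsOm u v (y * z) := by
  refine ⟨by rw [mul_smul, hz.left, hy.left], by rw [mul_smul, hz.right, hy.right], ?_,
    fun g hu hv => (hy.comm g hu hv).mul_right (hz.comm g hu hv)⟩
  rw [mul_assoc, ← mul_assoc z, ← (hy.commute_left hA h h hz).eq, mul_assoc y, hz.sq, mul_one, hy.sq]

theorem val_eq {u v u' x : V} {y : G} (hy : A.IsOm u v y) {g : G} (h1 : g • u = u')
    (h2 : g • v = x) : A.val u v y u' x = g * y * g⁻¹ := by
  have hex : ∃ k : G, k • u = u' ∧ k • v = x := ⟨g, h1, h2⟩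
  rw [Amal.val, dif_pos hex]
  obtain ⟨k1, k2⟩ := hex.choose_spec
  have := hy.comm (g⁻¹ * hex.choose) (by rw [mul_smul, k1, ← h1, inv_smul_smul])
    (by rw [mul_smul, k2, ← h2, inv_smul_smul])
  calc hex.choose * y * hex.choose⁻¹ = g * ((g⁻¹ * hex.choose) * y) * hex.choose⁻¹ := by group
    _ = g * (y * (g⁻¹ * hex.choose)) * hex.choose⁻¹ := by rw [this.eq]
    _ = g * y * g⁻¹ := by group

theorem exists_conj {u v u' x : V} (h : A.Adj u v) (h' : A.Adj u' x) (hs : A.side u = A.side u')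
    {y : G} (hy : A.IsOm u v y) :
    ∃ g : G, g • u = u' ∧ g • v = x ∧ A.val u v y u' x = g * y * g⁻¹ ∧
      A.IsOm u' x (A.val u v y u' x) := by
  obtain ⟨g, h1, h2⟩ := A.edge h h' hs
  refine ⟨g, h1, h2, val_eq hy h1 h2, ?_⟩
  rw [val_eq hy h1 h2]
  subst h1 h2
  exact hy.conj g

theorem val_om {u v u' x : V} (h : A.Adj u v) (h' : A.Adj u' x) (hs : A.side u = A.side u')
    {y : G} (hy : A.IsOm u v y) : A.IsOm u' x (A.val u v y u' x) := by
  obtain ⟨g, -, -, -, h⟩ := exists_conj h h' hs hy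
  exact h

theorem val_self {u v : V} {y : G} (hy : A.IsOm u v y) : A.val u v y u v = y := by
  rw [val_eq hy (g := 1) (one_smul _ _) (one_smul _ _), one_mul, inv_one, mul_one]

theorem val_conj {u v u' x : V} (h : A.Adj u v) (h' : A.Adj u' x) (hs : A.side u = A.side u')
    {y : G} (hy : A.IsOm u v y) (g : G) :
    g * A.val u v y u' x * g⁻¹ = A.val u v y (g • u') (g • x) := by
  obtain ⟨k, k1, k2, e, -⟩ := exists_conj h h' hs hy
  rw [e, val_eq hy (g := g * k) (by rw [mul_smul, k1]) (by rw [mul_smul, k2])]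
  group

theorem prod_three {v : V} {f : V → G}
    (hc : ∀ {x y}, A.Adj v x → A.Adj v y → Commute (f x) (f y)) {a b c a' b' c' : V}
    (ha : A.Adj v a) (hb : A.Adj v b) (hcc : A.Adj v c) (hab : a ≠ b) (hac : a ≠ c) (hbc : b ≠ c)
    (ha' : A.Adj v a') (hb' : A.Adj v b') (hc' : A.Adj v c') (hab' : a' ≠ b') (hac' : a' ≠ c')
    (hbc' : b' ≠ c') : f a' * f b' * f c' = f a * f b * f c := by
  have e12 := (hc ha hb).eq
  have e13 := (hc ha hcc).eq
  have e23 := (hc hb hcc).eq
  have p1 : f b * f a * f c = f a * f b * f c := by rw [e12]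
  have p2 : f a * f c * f b = f a * f b * f c := by rw [mul_assoc, ← e23, ← mul_assoc]
  have p4 : f b * f c * f a = f a * f b * f c := by
    rw [mul_assoc, ← e13, ← mul_assoc, ← e12]
  have p3 : f c * f b * f a = f a * f b * f c := by rw [← e23, p4]
  have p5 : f c * f a * f b = f a * f b * f c := by rw [← e13, p2]
  rcases nbr_cases ha hb hcc hab hac hbc ha' with e1 | e1 | e1 <;>
    rcases nbr_cases ha hb hcc hab hac hbc hb' with e2 | e2 | e2 <;>
    rcases nbr_cases ha hb hcc hab hac hbc hc' with e3 | e3 | e3 <;>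
    subst e1 e2 e3 <;>
    first
      | exact absurd rfl hab'
      | exact absurd rfl hac'
      | exact absurd rfl hbc'
      | rfl
      | assumption

theorem tot_eq (hA : A.CharTwo) {u v : V} (h : A.Adj u v) {y : G} (hy : A.IsOm u v y) {a b c : V}
    (ha : A.Adj u a) (hb : A.Adj u b) (hc : A.Adj u c) (hab : a ≠ b) (hac : a ≠ c) (hbc : b ≠ c) :
    A.tot u v y = A.val u v y u a * A.val u v y u b * A.val u v y u c := by
  obtain ⟨h1, h2, h3, h4⟩ := (A.nbrs u).choose_spec.choose_spec.choose_spec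
  exact prod_three (f := A.val u v y u) (fun hx hz =>
    (val_om h hx rfl hy).commute_left hA hx hz (val_om h hz rfl hy)) ha hb hc hab hac hbc
    ((h4 _).2 (Or.inl rfl)) ((h4 _).2 (Or.inr (Or.inl rfl))) ((h4 _).2 (Or.inr (Or.inr rfl)))
    h1 h2 h3

theorem tot_cen (hA : A.CharTwo) {u v : V} (h : A.Adj u v) {y : G} (hy : A.IsOm u v y) :
    A.IsCen u (A.tot u v y) := by
  intro g hg
  obtain ⟨b, c, hb, hc, hbv, hcv, hbc⟩ := exists_two_others h
  have := tot_eq hA h hy (adj_of_smul hg h) (adj_of_smul hg hb) (adj_of_smul hg hc)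
    (smul_adj_ne hbv.symm) (smul_adj_ne hcv.symm) (smul_adj_ne hbc)
  have e : g * A.tot u v y * g⁻¹ = A.tot u v y := by
    conv_rhs => rw [this]
    rw [tot_eq hA h hy h hb hc hbv.symm hcv.symm hbc]
    calc g * (A.val u v y u v * A.val u v y u b * A.val u v y u c) * g⁻¹
        = (g * A.val u v y u v * g⁻¹) * (g * A.val u v y u b * g⁻¹) *
          (g * A.val u v y u c * g⁻¹) := by group
      _ = _ := by rw [val_conj h h rfl hy, val_conj h hb rfl hy, val_conj h hc rfl hy, hg]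
  exact (mul_inv_eq_iff_eq_mul.1 e : g * A.tot u v y = A.tot u v y * g)

theorem tot_om (hA : A.CharTwo) {u v : V} (h : A.Adj u v) {y : G} (hy : A.IsOm u v y) :
    A.IsOm u v (A.tot u v y) := by
  obtain ⟨b, c, hb, hc, hbv, hcv, hbc⟩ := exists_two_others h
  have hv := val_om h h rfl hy
  have hb' := val_om h hb rfl hy
  have hc' := val_om h hc rfl hy
  have c1 := hv.commute_left hA h hb hb'
  have c2 := hv.commute_left hA h hc hc'
  have c3 := hb'.commute_left hA hb hc hc'
  refine ⟨?_, ?_, ?_, fun g hg _ => tot_cen hA h hy g hg⟩ <;>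
    rw [tot_eq hA h hy h hb hc hbv.symm hcv.symm hbc]
  · rw [mul_smul, mul_smul, hc'.left, hb'.left, hv.left]
  · rw [mul_smul, mul_smul, (hc'.mem_Q hA hc).2 v h, (hb'.mem_Q hA hb).2 v h, hv.right]
  · generalize A.val u v y u v = p at *
    generalize A.val u v y u b = q at *
    generalize A.val u v y u c = r at *
    calc p * q * r * (p * q * r) = p * q * (r * (p * q)) * r := by group
      _ = p * q * ((p * q) * r) * r := by rw [((c2.mul_left c3).symm).eq]
      _ = p * (q * p) * q * (r * r) := by group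
      _ = p * (p * q) * q * (r * r) := by rw [c1.eq]
      _ = (p * p) * (q * q) * (r * r) := by group
      _ = 1 := by rw [hv.sq, hb'.sq, hc'.sq, one_mul, one_mul]

theorem tot_mul (hA : A.CharTwo) {u v : V} (h : A.Adj u v) {y z : G} (hy : A.IsOm u v y)
    (hz : A.IsOm u v z) : A.tot u v (y * z) = A.tot u v y * A.tot u v z := by
  obtain ⟨b, c, hb, hc, hbv, hcv, hbc⟩ := exists_two_others h
  have e : ∀ {x}, A.Adj u x → A.val u v (y * z) u x = A.val u v y u x * A.val u v z u x := by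
    intro x hx
    obtain ⟨g, g1, g2⟩ := A.edge h hx rfl
    rw [val_eq hy g1 g2, val_eq hz g1 g2, val_eq (hy.mul hA h hz) g1 g2]
    group
  rw [tot_eq hA h (hy.mul hA h hz) h hb hc hbv.symm hcv.symm hbc,
    tot_eq hA h hy h hb hc hbv.symm hcv.symm hbc, tot_eq hA h hz h hb hc hbv.symm hcv.symm hbc,
    e h, e hb, e hc]
  have c1 : Commute (A.val u v z u v) (A.val u v y u b) :=
    (val_om h h rfl hz).commute_left hA h hb (val_om h hb rfl hy)
  have c2 : Commute (A.val u v z u v) (A.val u v y u c) :=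
    (val_om h h rfl hz).commute_left hA h hc (val_om h hc rfl hy)
  have c3 : Commute (A.val u v z u b) (A.val u v y u c) :=
    (val_om h hb rfl hz).commute_left hA hb hc (val_om h hc rfl hy)
  generalize A.val u v y u v = p at *
  generalize A.val u v z u v = p' at *
  generalize A.val u v y u b = q at *
  generalize A.val u v z u b = q' at *
  generalize A.val u v y u c = r at *
  generalize A.val u v z u c = r' at *
  calc p * p' * (q * q') * (r * r') = p * (p' * q) * (q' * r) * r' := by group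
    _ = p * (q * p') * (r * q') * r' := by rw [c1.eq, c3.eq]
    _ = p * q * (p' * r) * (q' * r') := by group
    _ = p * q * (r * p') * (q' * r') := by rw [c2.eq]
    _ = p * q * r * (p' * q' * r') := by group

theorem tot_of_cen (hA : A.CharTwo) {u v : V} (h : A.Adj u v) {y : G} (hy : A.IsOm u v y)
    (hc : A.IsCen u y) : A.tot u v y = y := by
  obtain ⟨b, c, hb, hc', hbv, hcv, hbc⟩ := exists_two_others h
  have e : ∀ {x}, A.Adj u x → A.val u v y u x = y := by
    intro x hx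
    obtain ⟨g, g1, g2⟩ := A.edge h hx rfl
    rw [val_eq hy g1 g2, (hc g g1).eq, mul_inv_cancel_right]
  rw [tot_eq hA h hy h hb hc' hbv.symm hcv.symm hbc, e h, e hb, e hc', hy.sq, one_mul]

/-- The family of an involution with trivial product around `u`. -/
noncomputable def famOf (hA : A.CharTwo) {u v : V} (h : A.Adj u v) {s : Bool} (hs : A.side u = s)
    {y : G} (hy : A.IsOm u v y) (hy1 : y ≠ 1) (ht : A.tot u v y = 1) : Fam A s where
  el := A.val u v y
  ne_one hv hx e := by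
    obtain ⟨g, -, -, e', -⟩ := exists_conj h hx (hs.trans hv.symm) hy
    rw [e, eq_comm, mul_inv_eq_one, mul_eq_left] at e'
    exact hy1 e'
  sq hv hx := (val_om h hx (hs.trans hv.symm) hy).sq
  mem_left hv hx := (val_om h hx (hs.trans hv.symm) hy).mem_Q hA hx
  mem_right hv hx := (val_om h hx (hs.trans hv.symm) hy).swap.mem_Q hA (A.symm hx)
  comm hv hx _ h1 h2 := (val_om h hx (hs.trans hv.symm) hy).comm _ h1 h2
  equiv hv hx g := val_conj h hx (hs.trans hv.symm) hy g
  prod := by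
    intro w a b c hw ha hb hc hab hac hbc
    obtain ⟨g, g1, g2⟩ := A.edge h ha (hs.trans hw.symm)
    have hp : ∀ {x}, A.Adj w x → A.Adj u (g⁻¹ • x) := fun hx => by
      have := A.adj_smul g⁻¹ hx
      rwa [← g1, inv_smul_smul] at this
    have := tot_eq hA h hy (hp ha) (hp hb) (hp hc) (smul_adj_ne hab) (smul_adj_ne hac)
      (smul_adj_ne hbc)
    rw [ht] at this
    have k : ∀ {x}, A.Adj w x → A.val u v y w x = g * A.val u v y u (g⁻¹ • x) * g⁻¹ := fun hx => by
      rw [val_conj h (hp hx) rfl hy g, g1, smul_inv_smul]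
    rw [k ha, k hb, k hc]
    calc g * A.val u v y u (g⁻¹ • a) * g⁻¹ * (g * A.val u v y u (g⁻¹ • b) * g⁻¹) *
          (g * A.val u v y u (g⁻¹ • c) * g⁻¹)
        = g * (A.val u v y u (g⁻¹ • a) * A.val u v y u (g⁻¹ • b) * A.val u v y u (g⁻¹ • c)) *
          g⁻¹ := by group
      _ = 1 := by rw [← this, mul_one, mul_inv_cancel]

variable {s : Bool}

theorem famOf_isRoot (hA : A.CharTwo) {u v : V} (h : A.Adj u v) (hs : A.side u = s) {y : G}
    (hy : A.IsOm u v y) (hy1 : y ≠ 1) (ht : A.tot u v y = 1) (hc : A.IsCen v y) :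
    (famOf hA h hs hy hy1 ht).IsRoot := by
  intro w w' x hw hw' hx hx'
  show A.val u v y w x = A.val u v y w' x
  obtain ⟨g, g1, g2, e, -⟩ := exists_conj h hx (hs.trans hw.symm) hy
  obtain ⟨g', g1', g2', e', -⟩ := exists_conj h hx' (hs.trans hw'.symm) hy
  have := hc (g'⁻¹ * g) (by rw [mul_smul, g2, ← g2', inv_smul_smul])
  rw [e, e']
  calc g * y * g⁻¹ = g' * ((g'⁻¹ * g) * y) * g⁻¹ := by group
    _ = g' * (y * (g'⁻¹ * g)) * g⁻¹ := by rw [this.eq]
    _ = g' * y * g'⁻¹ := by group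

theorem famOf_root (hA : A.CharTwo) {u v : V} (h : A.Adj u v) (hs : A.side u = s) {y : G}
    (hy : A.IsOm u v y) (hy1 : y ≠ 1) (ht : A.tot u v y = 1) (hc : A.IsCen v y) :
    (famOf hA h hs hy hy1 ht).root v = y := by
  rw [← Fam.el_eq_root _ (famOf_isRoot hA h hs hy hy1 ht hc) hs h]
  exact val_self hy

theorem famOf_sib (hA : A.CharTwo) {u v : V} (h : A.Adj u v) (hs : A.side u = s) {y : G}
    (hy : A.IsOm u v y) (hy1 : y ≠ 1) (ht : A.tot u v y = 1) (hc : ¬ A.IsCen v y) :
    (famOf hA h hs hy hy1 ht).Sib := by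
  intro w w' x hw hw' hx hx' hne e
  change A.val u v y w x = A.val u v y w' x at e
  obtain ⟨w'', hw'', hn1, hn2⟩ := exists_third (A.symm hx) (A.symm hx') hne
  obtain ⟨t, htx, htw, p, hp, htp⟩ := A.swap (A.symm hx)
  have hsw : t • w' = w'' := swap_of_not_mem_Q htx (A.symm hx) (A.symm hx') hw'' hne hn1.symm
    hn2.symm htw fun hm => htp (hm.2 p hp)
  have e1 := val_conj h hx (hs.trans hw.symm) hy t
  have e2 := val_conj h hx' (hs.trans hw'.symm) hy t
  rw [htw, htx] at e1
  rw [hsw, htx, ← e, e1] at e2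
  have hall : ∀ z, A.Adj x z → A.val u v y z x = A.val u v y w x := fun z hz => by
    rcases nbr_cases (A.symm hx) (A.symm hx') hw'' hne hn1.symm hn2.symm hz with rfl | rfl | rfl
    exacts [rfl, e.symm, e2.symm]
  obtain ⟨g, g1, g2, eg, -⟩ := exists_conj h hx (hs.trans hw.symm) hy
  refine hc fun k hk => ?_
  have hkx : (g * k * g⁻¹) • x = x := by rw [mul_smul, mul_smul, ← g2, inv_smul_smul, hk]
  have e3 := val_conj h hx (hs.trans hw.symm) hy (g * k * g⁻¹)
  rw [hkx, hall _ (adj_of_smul hkx (A.symm hx)), eg] at e3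
  have : g * (k * y * k⁻¹) * g⁻¹ = g * y * g⁻¹ := by rw [← e3]; group
  exact (mul_inv_eq_iff_eq_mul.1 (mul_left_cancel (mul_right_cancel this)) : k * y = y * k)

theorem eq_one_of_cen_both {u v : V} (h : A.Adj u v) {y : G} (hu : y • u = u) (hv : y • v = v)
    (h1 : A.IsCen u y) (h2 : A.IsCen v y) : y = 1 := by
  refine Subgroup.zpowers_eq_bot.1 (A.faithful h _ (fun x hx => ?_) (fun g hg x hx => ?_)
    (fun g hg x hx => ?_))
  · obtain ⟨m, rfl⟩ := Subgroup.mem_zpowers_iff.1 hx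
    exact (Subgroup.zpow_mem (stabilizer G u ⊓ stabilizer G v) ⟨hu, hv⟩ m)
  · obtain ⟨m, rfl⟩ := Subgroup.mem_zpowers_iff.1 hx
    rw [((h1 g hg).zpow_right m).eq, mul_inv_cancel_right]
    exact ⟨m, rfl⟩
  · obtain ⟨m, rfl⟩ := Subgroup.mem_zpowers_iff.1 hx
    rw [((h2 g hg).zpow_right m).eq, mul_inv_cancel_right]
    exact ⟨m, rfl⟩

/-- The case in which every involution with trivial product around `u` is central at `v`. -/
theorem bounded_of_cen (hA : A.CharTwo) {u v : V} (h : A.Adj u v)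
    (hG : ∀ y, A.IsOm u v y → A.tot u v y = 1 → A.IsCen v y)
    (hC : ∃ y, A.IsOm u v y ∧ y ≠ 1 ∧ A.IsCen v y) : A.Bounded := by
  obtain ⟨r, hr, hr1, hrv⟩ := hC
  set s := A.side u with hs
  have hvs : A.side v = !s := by rw [hs, A.side_adj h]
  -- central elements at `v` have trivial product around `u`
  have htot : ∀ {r}, A.IsOm u v r → A.IsCen v r → A.tot u v r = 1 := by
    intro r hr hrv
    have hS := tot_om hA h hr
    have h1 : A.tot u v (r * A.tot u v r) = 1 := by
      rw [tot_mul hA h hr hS, tot_of_cen hA h hS (tot_cen hA h hr), hS.sq]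
    have h2 := hG _ (hr.mul hA h hS) h1
    refine eq_one_of_cen_both h hS.left hS.right (tot_cen hA h hr) fun g hg => ?_
    have := (hrv g hg).inv_right.mul_right (h2 g hg)
    rwa [inv_mul_cancel_left] at this
  have hrr : (famOf hA h hs.symm hr hr1 (htot hr hrv)).IsRoot :=
    famOf_isRoot hA h hs.symm hr hr1 (htot hr hrv) hrv
  by_cases hz : ∃ z, A.IsOm u v z ∧ z ≠ 1 ∧ A.IsCen u z
  · obtain ⟨z, hz, hz1, hzu⟩ := hz
    have hW := tot_om hA (A.symm h) hz.swap
    set w := A.tot v u z with hw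
    by_cases hw1 : w = 1
    · exact bounded_of_roots hA _ hrr (famOf hA (A.symm h) hvs hz.swap hz1 hw1)
        (famOf_isRoot hA (A.symm h) hvs hz.swap hz1 hw1 hzu) u
    have hwc : A.IsCen v w := tot_cen hA (A.symm h) hz.swap
    have hwr : (famOf hA h hs.symm hW.swap hw1 (htot hW.swap hwc)).IsRoot :=
      famOf_isRoot hA h hs.symm hW.swap hw1 (htot hW.swap hwc) hwc
    have hy : A.IsOm v u (z * w) := hz.swap.mul hA (A.symm h) hW
    have hyt : A.tot v u (z * w) = 1 := by
      rw [tot_mul hA (A.symm h) hz.swap hW, tot_of_cen hA (A.symm h) hW hwc, ← hw, hW.sq]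
    have hyc : ¬ A.IsCen u (z * w) := fun hc => hw1 (eq_one_of_cen_both h hW.right hW.left (by
      intro g hg
      have := (hzu g hg).inv_right.mul_right (hc g hg)
      rwa [inv_mul_cancel_left] at this) hwc)
    have hy1 : z * w ≠ 1 := fun e => hyc fun g _ => by rw [e]; exact Commute.one_right g
    exact bounded_of_root_sib hA _ hwr (famOf hA (A.symm h) hvs hy hy1 hyt)
      (famOf_sib hA (A.symm h) hvs hy hy1 hyt hyc) u
  push Not at hz
  have hcu : ∀ {z}, A.IsOm u v z → A.IsCen u z → z = 1 := fun {z} h1 h2 =>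
    by_contra fun h3 => hz z h1 h3 h2
  refine bounded_of_residual hA (s := s) ?_ ?_ u
  · intro α x y hα hx hyα hyx hy2 hyc
    obtain ⟨g, g1, g2⟩ := A.edge hx h (hα.trans hs)
    have := hcu (z := g * y * g⁻¹)
      (by rw [← g1, ← g2]; exact IsOm.conj ⟨hyα, hyx, hy2, fun k hk _ => hyc k hk⟩ g)
      (by rw [← g1]; exact IsCen.conj hyc g)
    rwa [mul_inv_eq_one, mul_eq_left] at this
  · intro u' v' y hu' h' hy1 hy2 hyu hyv hyc
    obtain ⟨g, g1, g2⟩ := A.edge h' h (hu'.trans hs)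
    have hy₀ : A.IsOm u v (g * y * g⁻¹) := by
      rw [← g1, ← g2]
      exact IsOm.conj ⟨hyu, hyv, hy2, hyc⟩ g
    have ht₀ : A.tot u v (g * y * g⁻¹) = 1 := hcu (tot_om hA h hy₀) (tot_cen hA h hy₀)
    have hc₀ := hG _ hy₀ ht₀
    have hne : g * y * g⁻¹ ≠ 1 := by rwa [Ne, mul_inv_eq_one, mul_eq_left]
    refine ⟨famOf hA h hs.symm hy₀ hne ht₀, famOf_isRoot hA h hs.symm hy₀ hne ht₀ hc₀, ?_⟩
    rw [← Fam.root_conj _ (famOf_isRoot hA h hs.symm hy₀ hne ht₀ hc₀) (x := v) hvs (g := g⁻¹)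
      (y := v') (inv_smul_eq_iff.2 g2.symm), famOf_root hA h hs.symm hy₀ hne ht₀ hc₀]
    group

theorem bounded_charTwo (hA : A.CharTwo) {u v : V} (h : A.Adj u v) : A.Bounded := by
  have hone : ∀ {u v : V}, A.Adj u v → (∀ y, A.IsOm u v y → A.tot u v y = 1 → A.IsCen v y) →
      A.Bounded := by
    intro u v h hG
    by_cases hC : ∃ y, A.IsOm u v y ∧ y ≠ 1 ∧ A.IsCen v y
    · exact bounded_of_cen hA h hG hC
    push Not at hC
    have hcen : ∀ {y}, A.IsOm u v y → A.IsCen u y := by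
      intro y hy
      have hS := tot_om hA h hy
      have h1 : A.tot u v (y * A.tot u v y) = 1 := by
        rw [tot_mul hA h hy hS, tot_of_cen hA h hS (tot_cen hA h hy), hS.sq]
      have h2 : y * A.tot u v y = 1 := by_contra fun h3 =>
        hC _ (hy.mul hA h hS) h3 (hG _ (hy.mul hA h hS) h1)
      rw [eq_inv_of_mul_eq_one_left h2, inv_eq_of_mul_eq_one_right hS.sq]
      exact tot_cen hA h hy
    obtain ⟨g, hgu, hgv, x, hx, hgx⟩ := A.swap h
    obtain ⟨y, -, hy1, hy2, hyu, hyv, hyc⟩ := Amal.exists_central_invol h (le_refl _)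
      (fun e => hgx (by
        have : g ∈ (⊥ : Subgroup G) := e ▸ (⟨hgu, hgv⟩ : g ∈ stabilizer G u ⊓ stabilizer G v)
        rw [Subgroup.mem_bot] at this
        rw [this, one_smul]))
      (fun k hk hk' z hz => ⟨by
        show (k * z * k⁻¹) • u = u
        rw [mul_smul, mul_smul, inv_smul_eq_iff.2 hk.symm, show z • u = u from hz.1, hk], by
        show (k * z * k⁻¹) • v = v
        rw [mul_smul, mul_smul, inv_smul_eq_iff.2 hk'.symm, show z • v = v from hz.2, hk']⟩)
    exact bounded_of_cen hA (A.symm h) (fun z hz _ => hcen hz.swap)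
      ⟨y, IsOm.swap ⟨hyu, hyv, hy2, hyc⟩, hy1, hcen ⟨hyu, hyv, hy2, hyc⟩⟩
  by_cases h1 : ∀ y, A.IsOm u v y → A.tot u v y = 1 → A.IsCen v y
  · exact hone h h1
  by_cases h2 : ∀ y, A.IsOm v u y → A.tot v u y = 1 → A.IsCen u y
  · exact hone (A.symm h) h2
  push Not at h1 h2
  obtain ⟨y, hy, hyt, hyc⟩ := h1
  obtain ⟨z, hz, hzt, hzc⟩ := h2
  have hy1 : y ≠ 1 := fun e => hyc fun g _ => by rw [e]; exact Commute.one_right g
  have hz1 : z ≠ 1 := fun e => hzc fun g _ => by rw [e]; exact Commute.one_right g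
  exact bounded_of_sib hA (famOf hA h rfl hy hy1 hyt) (famOf hA (A.symm h) (A.side_adj h) hz hz1 hzt)
    (famOf_sib hA h rfl hy hy1 hyt hyc) (famOf_sib hA (A.symm h) (A.side_adj h) hz hz1 hzt hzc) u

/-- The edge stabilisers of an amalgam of index `(3, 3)` have order at most `2 ^ 7`. -/
theorem bounded (A : Amal G V) {u₀ v₀ : V} (h : A.Adj u₀ v₀) : A.Bounded := by
  by_cases hA : A.CharTwo
  · exact bounded_charTwo hA h
  simp only [Amal.CharTwo, not_forall] at hA
  obtain ⟨v, g, hgv, hgc, hgQ⟩ := hA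
  let C : Subgroup G := stabilizer G v ⊓ Subgroup.centralizer (A.Q v : Set G)
  have hgC : g ∈ C := ⟨hgv, fun q hq => (hgc q hq).symm⟩
  have hCn : ∀ k : G, k • v = v → ∀ c ∈ C, k * c * k⁻¹ ∈ C := by
    intro k hk c hc
    have hk' : k⁻¹ • v = v := inv_smul_eq_iff.2 hk.symm
    refine ⟨?_, fun d hd => ?_⟩
    · show (k * c * k⁻¹) • v = v
      rw [mul_smul, mul_smul, hk', show c • v = v from hc.1, hk]
    · have := hc.2 _ (normal_Q hk' hd)
      rw [inv_inv] at this
      calc d * (k * c * k⁻¹) = k * (k⁻¹ * d * k * c) * k⁻¹ := by group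
        _ = k * (c * (k⁻¹ * d * k)) * k⁻¹ := by rw [this]
        _ = k * c * k⁻¹ * d := by group
  have htr := transitive_of_normal (N := C) (fun n hn => (Subgroup.mem_inf.1 hn).1) hCn hgC hgQ
  obtain ⟨u, hu⟩ := A.exists_adj v
  have hK : A.ball 2 u = ⊥ := by
    have hle : ∀ {y}, y ∈ A.ball 2 u → y ∈ A.Q v := fun {y} hy => mem_ball_two.1 hy v (A.symm hu)
    refine A.faithful hu _ (fun y hy => ⟨(hle hy).1, ball_smul_self _ hy⟩) (fun k hk y hy => ?_)
      fun k hk y hy => normal_ball hk hy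
    obtain ⟨n, hn, t, -, htu, rfl⟩ := exists_edge_mul hu htr hk
    have hty := normal_ball htu hy
    have := (Subgroup.mem_inf.1 hn).2 _ (hle hty)
    rwa [show n * t * y * (n * t)⁻¹ = n * (t * y * t⁻¹) * n⁻¹ by group, ← this,
      mul_inv_cancel_right]
  obtain ⟨a, b, c, hab, hac, hbc, hn⟩ := A.nbrs u
  have ha : A.Adj u a := (hn _).2 (Or.inl rfl)
  have hb : A.Adj u b := (hn _).2 (Or.inr (Or.inl rfl))
  have hc : A.Adj u c := (hn _).2 (Or.inr (Or.inr rfl))
  have c1 : Nat.card (A.Q u) ≤ 2 * Nat.card ↥(A.Q u ⊓ A.Q a) :=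
    card_le_two_mul_Q (A.symm ha) fun q hq => ⟨hq.2 a ha, hq.1⟩
  have c2 : Nat.card ↥(A.Q u ⊓ A.Q a) ≤ 2 * Nat.card ↥(A.Q u ⊓ A.Q a ⊓ A.Q b) :=
    card_le_two_mul_Q (A.symm hb) fun q hq => ⟨hq.1.2 b hb, hq.1.1⟩
  have c3 : Nat.card ↥(A.Q u ⊓ A.Q a ⊓ A.Q b) ≤ 2 * Nat.card ↥(A.Q u ⊓ A.Q a ⊓ A.Q b ⊓ A.Q c) :=
    card_le_two_mul_Q (A.symm hc) fun q hq => ⟨hq.1.1.2 c hc, hq.1.1.1⟩
  have c4 : A.Q u ⊓ A.Q a ⊓ A.Q b ⊓ A.Q c ≤ ⊥ := fun q hq => by
    rw [← hK]
    refine mem_ball_two.2 fun z hz => ?_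
    rcases (hn z).1 hz with rfl | rfl | rfl
    exacts [hq.1.1.2, hq.1.2, hq.2]
  rw [le_bot_iff.1 c4, Subgroup.card_bot] at c3
  refine bounded_of_edge (A.symm hu) ?_
  rw [card_edge (A.symm hu)]
  omega

end Amal

end Cfsg.Agent.Goldschmidt
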