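import Cfsg.Agent.Lib.Goldschmidt.General

/-!
# Odd critical lengths of root families: all arcs are critical
-/

set_option autoImplicit false

namespace Cfsg.Agent.Goldschmidt

open MulAction

variable {G V : Type*} [Group G] [MulAction G V] {A : Amal G V} {s : Bool}

/-- Every arc of length `b` starting on side `s` is critical. -/
def Fam.AllCrit (R : Fam A s) (b : ℕ) : Prop :=
  ∀ P, A.Arc b P → A.side (P 0) = s → R.Crit b P

namespace Fam

variable {R : Fam A s} {b : ℕ}

theorem crit_out (hR : R.Low b) {P : ℕ → V} (h : R.Crit b P) (hr : R.IsRoot) (hodd : Odd b)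
    {x : V} (hx : A.Adj (P 0) x) (hne : x ≠ P 1) : R.root x ∉ A.Q (P b) := by
  obtain ⟨-, hs, x₀, hx₀, hx₀Q⟩ := id h
  intro hQ
  have h01 : A.Adj (P 0) (P 1) := h.1.1 0 (R.crit_pos h)
  have hk : R.el (P 0) (P 1) ∈ A.Q (P b) := by
    rw [R.el_eq_root hr hs h01]
    obtain ⟨k, rfl⟩ := hodd
    exact root_mem hR hr (by rw [A.side_adj h01, hs]) (by omega) (n := 2 * k) (by omega)
      (Amal.arc_reach_le h.1 (i := 1) (by omega) le_rfl (by omega) (by omega))
  exact hx₀Q (R.mem_of_two hs hx h01 hne (by rwa [R.el_eq_root hr hs hx]) hk hx₀)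

/-- For odd critical length every arc from side `s` is critical. -/
theorem allCrit (hA : A.CharTwo) (hr : R.IsRoot) (hR : R.Low b) {P : ℕ → V} (h : R.Crit b P)
    (hodd : Odd b) (hb : 3 ≤ b) : R.AllCrit b := by
  obtain ⟨k, rfl⟩ : ∃ k, b = k + 3 := ⟨b - 3, by omega⟩
  intro P' hP' hs'
  rcases Nat.eq_zero_or_pos k with rfl | hk
  · exact R.crit_of_trans h (Amal.trans_three hA s) hP' hs'
  have hk2 : 2 ≤ k := by
    obtain ⟨m, hm⟩ := hodd
    omega
  have w1 : A.Wit (k + 3) (!s) := by
    have := R.wit_of_crit hR h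
    rwa [Amal.side_of_odd h.1 le_rfl hodd, h.2.1] at this
  by_cases w2 : A.Wit (k + 2) s
  · refine R.crit_of_trans h (Amal.trans_of_wit (fun l _ hl e => ?_) s) hP' hs'
    by_cases he : e = s
    · exact he ▸ Amal.wit_le w2 (by omega)
    · rw [Bool.eq_not.2 he]
      exact Amal.wit_le w1 hl.le
  -- fixers of arcs of length `b - 1` ending on side `s` are in the kernel at the end
  have hrig : ∀ {C : ℕ → V}, A.Arc (k + 2) C → A.side (C (k + 2)) = s → ∀ {g : G},
      (∀ i ≤ k + 2, g • C i = C i) → g ∈ A.Q (C (k + 2)) := fun {C} hC hs {g} hg =>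
    by_contra fun hm => w2 ⟨C, hC, hs, g, hg, hm⟩
  -- reversing a critical arc
  have hE1 : ∀ {C : ℕ → V}, R.Crit (k + 3) C → ∀ {μ : V}, A.Adj (C (k + 3)) μ → μ ≠ C (k + 2) →
      R.Crit (k + 3) (pre μ fun i => C (k + 3 - i)) := by
    intro C hC μ hμ hμne
    obtain ⟨hCa, hCs, -⟩ := id hC
    have hend : A.side (C (k + 3)) = !s := by rw [Amal.side_of_odd hCa le_rfl hodd, hCs]
    have hμs : A.side μ = s := side_nbr hend hμ
    have harc : A.Arc (k + 4) (pre μ fun i => C (k + 3 - i)) :=
      Amal.arc_pre (Amal.arc_rev hCa) (by simpa using A.symm hμ) fun _ => by simpa using hμne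
    by_contra hcon
    have hQ : ∀ x, A.Adj μ x → R.el μ x ∈ A.Q (C 1) := fun x hx => by_contra fun hm =>
      hcon ⟨Amal.arc_le harc (Nat.le_succ _), hμs, x, hx,
        by simpa [show k + 3 - (k + 2) = 1 by omega] using hm⟩
    obtain ⟨γ, hγ, hγne⟩ := Amal.exists_other (A.symm hμ)
    have hγs : A.side γ = !s := by rw [A.side_adj hγ, hμs]
    have hfix : ∀ i ≤ k + 3, R.el μ γ • C (k + 3 - i) = C (k + 3 - i) := fun i hi => by
      rcases Nat.lt_or_eq_of_le hi with hi | rfl
      · exact low_fix hR hμs hγ (by omega) le_rfl (Amal.reach_mono (by omega)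
          (Amal.reach_cons (A.symm hμ) (Amal.arc_reach_le hCa le_rfl (by omega) (k := k + 2)
            (by omega) (by omega))))
      · rw [Nat.sub_self]
        exact (hQ γ hγ).2 _ (A.symm (hCa.1 0 (by omega)))
    have hc0 : R.el μ γ ∈ A.Q (C 0) := by
      have := hrig (C := fun i => C (k + 3 - (1 + i)))
        (Amal.arc_shift (Amal.arc_rev hCa) (k := 1) (m := k + 2) (by omega))
        (by simpa [show k + 3 - (1 + (k + 2)) = 0 by omega] using hCs)
        (g := R.el μ γ) fun i hi => hfix (1 + i) (by omega)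
      simpa [show k + 3 - (1 + (k + 2)) = 0 by omega] using this
    obtain ⟨x, hx, hxne⟩ := Amal.exists_other (hCa.1 0 (by omega))
    have hm := crit_out hR hC hr hodd hx hxne
    rw [← R.el_eq_root hr hCs hx] at hm
    have hcm : Commute (R.el μ γ) (R.el (C 0) x) := R.comm_mem hCs hx hc0
    have hfj : ∀ j, 2 ≤ j → j ≤ k + 3 → R.el (C 0) x • C j = C j := fun j _ hj =>
      low_fix hR hCs hx (by omega) hj (Amal.reach_mono (by omega)
        (Amal.arc_reach hCa (Nat.zero_le j) hj))
    have hne : R.el (C 0) x • μ ≠ μ :=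
      Amal.exists_swapped (hfj _ (by omega) le_rfl) (A.symm (hCa.1 (k + 2) (by omega)))
        (hfj _ (by omega) (by omega)) hm μ hμ hμne
    refine R.root_siblings hA hr hend hμ (Amal.adj_of_smul (hfj _ (by omega) le_rfl) hμ) hne.symm
      hγ hγne (A.adj_smul _ hγ) (fun e => hγne (MulAction.injective _
        (e.trans (hfj _ (by omega) le_rfl).symm))) ?_
    rw [← R.root_conj hr hγs (g := R.el (C 0) x) rfl, ← R.el_eq_root hr hμs hγ, ← hcm.eq,
      mul_inv_cancel_right]
  -- prolonging a critical arc two steps to the left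
  have hstep : ∀ {C : ℕ → V}, R.Crit (k + 3) C → ∀ {u v : V}, A.Adj (C 0) u → u ≠ C 1 →
      A.Adj u v → v ≠ C 0 → R.Crit (k + 3) (pre v (pre u C)) := by
    intro C hC u v hu hu1 hv hv0
    obtain ⟨hCa, hCs, -⟩ := id hC
    have hus : A.side u = !s := by rw [A.side_adj hu, hCs]
    have hvs : A.side v = s := side_nbr hus hv
    by_contra hcon
    have hend : A.side (C (k + 3)) = !s := by rw [Amal.side_of_odd hCa le_rfl hodd, hCs]
    have hk2s : A.side (C (k + 2)) = s := by
      rw [A.side_adj (A.symm (hCa.1 (k + 2) (by omega))), hend, Bool.not_not]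
    have harc : A.Arc (k + 3) (pre v (pre u C)) :=
      Amal.arc_le (Amal.arc_pre (Amal.arc_pre hCa (A.symm hu) fun _ => hu1) (A.symm hv)
        fun _ => hv0) (by omega)
    have hQ : ∀ x, A.Adj v x → R.el v x ∈ A.Q (C (k + 1)) := fun x hx => by_contra fun hm =>
      hcon ⟨harc, hvs, x, hx, hm⟩
    have hfix : ∀ x, A.Adj v x → ∀ i ≤ k + 2, R.el v x • C i = C i := fun x hx i hi => by
      rcases Nat.lt_or_eq_of_le hi with hi | rfl
      · exact low_fix hR hvs hx (by omega) (n := k + 3) le_rfl (Amal.reach_mono (by omega)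
          (Amal.reach_cons (A.symm hv) (Amal.reach_cons (A.symm hu)
            (Amal.arc_reach_le hCa (Nat.zero_le _) (by omega) (k := k + 1) (by omega) (by omega)))))
      · exact (hQ x hx).2 _ (hCa.1 (k + 1) (by omega))
    have hfixb : ∀ x, A.Adj v x → R.el v x • C (k + 3) = C (k + 3) := fun x hx =>
      (hrig (Amal.arc_le hCa (by omega)) hk2s (hfix x hx)).2 _ (hCa.1 (k + 2) (by omega))
    obtain ⟨o, o', ho, ho', hou, ho'u, hoo'⟩ := Amal.exists_two_others (A.symm hv)
    have hnot : R.el v o * R.el v o' ∉ A.Q (C (k + 3)) := by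
      rw [R.el_mul_el hvs ho ho' (A.symm hv) hoo' hou ho'u, R.el_eq_root hr hvs (A.symm hv)]
      exact crit_out hR hC hr hodd hu hu1
    have hlast : A.Adj (C (k + 3)) (C (k + 2)) := A.symm (hCa.1 (k + 2) (by omega))
    rw [Amal.mul_mem_Q_iff hlast (hfixb o ho) (hfixb o' ho') (hfix o ho _ le_rfl)
      (hfix o' ho' _ le_rfl)] at hnot
    obtain ⟨o₁, ho₁, ho₁u, ho₁Q⟩ : ∃ o₁, A.Adj v o₁ ∧ o₁ ≠ u ∧ R.el v o₁ ∈ A.Q (C (k + 3)) := by
      by_cases h1 : R.el v o ∈ A.Q (C (k + 3))
      · exact ⟨o, ho, hou, h1⟩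
      · exact ⟨o', ho', ho'u, by_contra fun h2 => hnot (iff_of_false h1 h2)⟩
    obtain ⟨e, he, hene⟩ := Amal.exists_other hlast
    have hes : A.side e = s := side_nbr hend he
    obtain ⟨C', hC', hC'e⟩ : ∃ C', A.Arc (k + 4) C' ∧ C' = app C (k + 3) e :=
      ⟨_, Amal.arc_app hCa he fun _ => hene, rfl⟩
    have hC'e' : C' (k + 4) = e := by rw [hC'e, app_gt (by omega)]
    have hoe : R.el v o₁ ∈ A.Q e := by
      have := hrig (C := fun i => C' (2 + i)) (Amal.arc_shift hC' (by omega))
        (by show A.side (C' (2 + (k + 2))) = s; rwa [show 2 + (k + 2) = k + 4 by omega, hC'e'])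
        (g := R.el v o₁) fun i hi => by
          show R.el v o₁ • C' (2 + i) = C' (2 + i)
          rw [hC'e]
          rcases Nat.lt_or_ge i (k + 1) with h1 | h1
          · rw [app_le (by omega)]
            exact hfix o₁ ho₁ _ (by omega)
          rcases Nat.eq_or_lt_of_le h1 with rfl | h1
          · rw [app_le (by omega), show 2 + (k + 1) = k + 3 by omega]
            exact hfixb o₁ ho₁
          · obtain rfl : i = k + 2 := by omega
            rw [app_gt (by omega)]
            exact ho₁Q.2 e he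
      simpa [show 2 + (k + 2) = k + 4 by omega, hC'e'] using this
    obtain ⟨X, hX, hXne⟩ := Amal.exists_other (A.symm he)
    have hXs : A.side X = !s := by rw [A.side_adj hX, hes]
    have ho₁s : A.side o₁ = !s := by rw [A.side_adj ho₁, hvs]
    set x := R.root X with hx
    have hxm := crit_out hR (hE1 hC he hene) hr hodd (x := X) (by simpa using hX)
      (by simpa using hXne)
    simp only [pre_succ, show k + 3 - (k + 2) = 1 by omega] at hxm
    have hX0 : x • C 1 = C 1 := root_fix hR hr hXs (by omega) (n := k + 4) le_rfl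
      (Amal.reach_cons (A.symm hX) (Amal.reach_cons (A.symm he)
        (Amal.arc_reach_le hCa le_rfl (by omega) (by omega) (by omega))))
    have hX2 : x • C 2 = C 2 := root_fix hR hr hXs (by omega) (n := k + 4) le_rfl
      (Amal.reach_cons (A.symm hX) (Amal.reach_cons (A.symm he)
        (Amal.arc_reach_le hCa le_rfl (by omega) (by omega) (by omega))))
    have hmove : x • C 0 ≠ C 0 :=
      Amal.exists_swapped hX0 (hCa.1 1 (by omega)) hX2 hxm _ (A.symm (hCa.1 0 (by omega)))
        (hCa.2 0 (by omega)).symm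
    have hxo : R.root o₁ = R.root (x • o₁) := by
      have hcm : Commute (R.el v o₁) x := R.root_comm hr hXs (hoe.2 X hX)
      rw [R.el_eq_root hr hvs ho₁] at hcm
      rw [← R.root_conj hr ho₁s (g := x) rfl, ← hcm.eq, mul_inv_cancel_right]
    let Q4 : ℕ → V := pre v (pre u (pre (C 0) (app (fun _ => C 1) 0 (x • C 0))))
    have hQ4 : A.Arc 4 Q4 := by
      refine Amal.arc_pre (Amal.arc_pre (Amal.arc_pre (Amal.arc_app (n := 0) (P := fun _ => C 1)
        ⟨fun i hi => absurd hi (Nat.not_lt_zero i), fun i hi => absurd hi (Nat.not_lt_zero _)⟩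
        (Amal.adj_of_smul hX0 (A.symm (hCa.1 0 (by omega)))) (fun h => absurd h (lt_irrefl 0)))
        (hCa.1 0 (by omega)) fun _ => ?_) (A.symm hu) fun _ => hu1) (A.symm hv) fun _ => hv0
      rw [app_gt (by omega)]
      exact hmove.symm
    obtain ⟨g, hg⟩ := Amal.trans_succ (by omega) (Amal.trans_three hA s) (fun Z hZ hZs => by
      rw [Amal.side_of_odd hZ le_rfl ⟨1, rfl⟩, hZs]
      exact Amal.wit_le w1 (by omega)) C Q4 (Amal.arc_le hCa (by omega)) hQ4 hCs hvs
    have hcr := R.crit_smul hC g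
    have hg0 : g • C 0 = v := hg 0 (by omega)
    have hg1 : g • C 1 = u := hg 1 (by omega)
    have hg4 : g • C 4 = x • C 0 :=
      (hg 4 le_rfl).trans (app_gt (P := fun _ => C 1) (n := 0) (w := x • C 0) (i := 1) Nat.one_pos)
    have hm := crit_out hR hcr hr hodd (x := o₁) (by rwa [hg0]) (by rwa [hg1])
    obtain ⟨p, hp, hpm⟩ : ∃ p, A.Adj (g • C (k + 3)) p ∧ R.root o₁ • p ≠ p := by
      by_contra hc
      push Not at hc
      refine hm ⟨root_fix hR hr ho₁s (by omega) (n := k + 4) le_rfl ?_, hc⟩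
      refine Amal.reach_cons (A.symm ho₁) ?_
      rw [← hg0]
      exact Amal.arc_reach hcr.1 (Nat.zero_le _) le_rfl
    refine hpm ?_
    rw [hxo]
    refine root_fix hR hr ((A.side_smul x o₁).trans ho₁s) (by omega) (n := k - 1 + 1 + 1 + 1 + 1)
      (by omega)
      (Amal.reach_snoc (Amal.reach_cons (A.adj_smul x (A.symm ho₁)) (Amal.reach_cons
        (A.adj_smul x (A.symm hv)) (Amal.reach_cons (A.adj_smul x (A.symm hu)) ?_))) hp)
    rw [← hg4]
    exact Amal.arc_reach_le hcr.1 (i := 4) (by omega) le_rfl (by omega) (by omega)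
  -- iterate along `P'`
  have hP'e : A.side (P' (k + 2)) = s := by
    rw [A.side_adj (A.symm (hP'.1 (k + 2) (by omega))), Amal.side_of_odd hP' le_rfl hodd, hs',
      Bool.not_not]
  obtain ⟨g, hg0, hg1⟩ :=
    A.edge (h.1.1 0 (by omega)) (hP'.1 (k + 2) (by omega)) (h.2.1.trans hP'e.symm)
  let W : ℕ → ℕ → V := fun i j => if i + j ≤ k + 3 then P' (i + j) else g • P (i + j - (k + 2))
  have hW : ∀ t, 2 * t ≤ k + 2 → R.Crit (k + 3) (W (k + 2 - 2 * t)) := by
    intro t
    induction t with
    | zero =>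
      refine fun _ => R.crit_congr (R.crit_smul h g) fun j hj => ?_
      simp only [W]
      split_ifs with hj'
      · rcases (by omega : j = 0 ∨ j = 1) with rfl | rfl
        · simpa using hg0.symm
        · simpa using hg1.symm
      · rw [show k + 2 - 2 * 0 + j - (k + 2) = j by omega]
    | succ t ih =>
      intro ht
      set i := k + 2 - 2 * (t + 1) with hi
      have hprev := ih (by omega)
      rw [show k + 2 - 2 * t = i + 2 by omega] at hprev
      have h0 : W (i + 2) 0 = P' (i + 2) := by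
        simp only [W]
        rw [if_pos (by omega)]
      have h1 : W (i + 2) 1 = P' (i + 3) := by
        simp only [W]
        rw [if_pos (by omega)]
      refine R.crit_congr (hstep hprev (u := P' (i + 1)) (v := P' i) ?_ ?_
        (A.symm (hP'.1 i (by omega))) ?_) fun j hj => ?_
      · rw [h0]
        exact A.symm (hP'.1 (i + 1) (by omega))
      · rw [h1]
        exact (hP'.2 (i + 1) (by omega)).symm
      · rw [h0]
        exact (hP'.2 i (by omega)).symm
      · rcases j with _ | _ | j
        · simp only [W, pre_zero, Nat.add_zero]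
          rw [if_pos (by omega)]
        · simp only [W, pre_succ, pre_zero, Nat.zero_add]
          rw [if_pos (by omega)]
        · simp only [W, pre_succ]
          simp only [show i + (j + 1 + 1) = i + 2 + j by omega]
  have heven : Even (k + 2) := by
    obtain ⟨m, hm⟩ := hodd
    exact ⟨m, by omega⟩
  obtain ⟨t, ht⟩ := heven
  have := hW t (by omega)
  rw [show k + 2 - 2 * t = 0 by omega] at this
  refine R.crit_congr this fun j hj => ?_
  simp only [W]
  rw [if_pos (by omega), Nat.zero_add]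

end Fam

end Cfsg.Agent.Goldschmidt
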