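import Cfsg.Agent.Lib.Goldschmidt.Line

/-!
# There is no odd critical length above three
-/

set_option autoImplicit false

namespace Cfsg.Agent.Goldschmidt

open MulAction

variable {G V : Type*} [Group G] [MulAction G V] {A : Amal G V} {s : Bool}

namespace Fam

variable {R : Fam A s}

theorem five_false (H : R.Odd3 2) (v : V) : False := by
  obtain ⟨v₀, hv₀⟩ := A.exists_side v (!s)
  obtain ⟨P, hP₀, hPe⟩ := Amal.exists_arc_ext (A := A) (n := 0) (P := fun _ => v₀)
    ⟨fun i hi => absurd hi (Nat.not_lt_zero i), fun i hi => absurd hi (Nat.not_lt_zero _)⟩ 10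
  have hP : A.Arc 10 P := hP₀
  have h0 : A.side (P 0) = !s := by rw [hPe 0 le_rfl]; exact hv₀
  have hse : ∀ {i}, i ≤ 10 → Even i → A.side (P i) = !s := fun {i} hi he =>
    (Amal.side_of_even hP hi he).trans h0
  have hso : ∀ {i}, i ≤ 10 → Odd i → A.side (P i) = s := fun {i} hi ho => by
    rw [Amal.side_of_odd hP hi ho, h0, Bool.not_not]
  -- a root fixes everything within six steps
  have hfix : ∀ {y z : V}, A.side y = (!s) → A.Reach 6 y z → R.root y • z = z :=
    fun {y z} hy hr => root_fix H.low H.isRoot hy (by omega) (n := 6) le_rfl hr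
  have hP' : ∀ {i j}, i ≤ 10 → j ≤ 10 → i ≤ j + 6 → j ≤ i + 6 → A.Reach 6 (P i) (P j) :=
    fun hi hj h1 h2 => Amal.arc_reach_le hP hi hj h2 h1
  set a := R.root (P 0) with ha
  set x := R.root (P 10) with hx
  have hP10s : A.side (P 10) = !s := hse le_rfl ⟨5, rfl⟩
  have haf : ∀ {j}, j ≤ 6 → a • P j = P j := fun {j} hj =>
    hfix h0 (hP' (Nat.zero_le _) (by omega) (by omega) (by omega))
  have hxf : ∀ {j}, 4 ≤ j → j ≤ 10 → x • P j = P j := fun {j} h1 hj =>
    hfix hP10s (hP' le_rfl hj (by omega) (by omega))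
  have hrevarc : ∀ {i}, 5 ≤ i → i ≤ 10 → A.Arc 5 fun j => P (i - j) := by
    intro i h5 hi
    have h := Amal.arc_rev (Amal.arc_le hP hi)
    exact Amal.arc_le h h5
  have hfwdarc : ∀ {i}, i ≤ 5 → A.Arc 5 fun j => P (i + j) := fun {i} hi =>
    Amal.arc_shift hP (by omega)
  have hout : ∀ {Z : ℕ → V}, A.Arc 5 Z → A.side (Z 0) = s → ∀ {y : V}, A.Adj (Z 0) y → y ≠ Z 1 →
      R.root y ∉ A.Q (Z 5) := fun {Z} hZ hs {y} hy hy1 =>
    crit_out H.low (H.all Z hZ hs) H.isRoot H.odd hy hy1
  -- `x` moves `P 3` and `a` moves `P 7`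
  have hx3 : x • P 3 ≠ P 3 := by
    have := hout (hrevarc (i := 9) (by omega) (by omega)) (hso (i := 9) (by omega) ⟨4, rfl⟩)
      (y := P 10) (hP.1 9 (by omega)) (hP.2 8 (by omega))
    exact Amal.exists_swapped (hxf (j := 4) le_rfl (by omega)) (hP.1 4 (by omega))
      (hxf (j := 5) (by omega) (by omega)) this _ (A.symm (hP.1 3 (by omega)))
      (hP.2 3 (by omega)).symm
  have ha7 : a • P 7 ≠ P 7 := by
    have := hout (hfwdarc (i := 1) (by omega)) (hso (i := 1) (by omega) ⟨0, rfl⟩)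
      (y := P 0) (A.symm (hP.1 0 (by omega))) (hP.2 0 (by omega)).symm
    exact Amal.exists_swapped (haf (j := 6) le_rfl) (A.symm (hP.1 5 (by omega)))
      (haf (j := 5) (by omega)) this _ (hP.1 6 (by omega)) (hP.2 5 (by omega))
  -- two lines turning back
  let L₁ : ℕ → V := fun i => if i ≤ 2 then P (2 + i) else x • P (6 - i)
  let L₂ : ℕ → V := fun i => if i ≤ 2 then P (8 - i) else a • P (4 + i)
  have hL₁ : A.Arc 4 L₁ := by
    refine ⟨fun i hi => ?_, fun i hi => ?_⟩
    · rcases (by omega : i = 0 ∨ i = 1 ∨ i = 2 ∨ i = 3) with rfl | rfl | rfl | rfl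
      · exact hP.1 2 (by omega)
      · exact hP.1 3 (by omega)
      · show A.Adj (P 4) (x • P 3)
        exact Amal.adj_of_smul (hxf le_rfl (by omega)) (A.symm (hP.1 3 (by omega)))
      · show A.Adj (x • P 3) (x • P 2)
        exact A.adj_smul x (A.symm (hP.1 2 (by omega)))
    · rcases (by omega : i = 0 ∨ i = 1 ∨ i = 2) with rfl | rfl | rfl
      · exact hP.2 2 (by omega)
      · show x • P 3 ≠ P 3
        exact hx3
      · show x • P 2 ≠ P 4
        exact fun e => hP.2 2 (by omega)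
          (MulAction.injective x (e.trans (hxf le_rfl (by omega)).symm)).symm
  have hL₂ : A.Arc 4 L₂ := by
    refine ⟨fun i hi => ?_, fun i hi => ?_⟩
    · rcases (by omega : i = 0 ∨ i = 1 ∨ i = 2 ∨ i = 3) with rfl | rfl | rfl | rfl
      · exact A.symm (hP.1 7 (by omega))
      · exact A.symm (hP.1 6 (by omega))
      · show A.Adj (P 6) (a • P 7)
        exact Amal.adj_of_smul (haf le_rfl) (hP.1 6 (by omega))
      · show A.Adj (a • P 7) (a • P 8)
        exact A.adj_smul a (hP.1 7 (by omega))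
    · rcases (by omega : i = 0 ∨ i = 1 ∨ i = 2) with rfl | rfl | rfl
      · exact (hP.2 6 (by omega)).symm
      · show a • P 7 ≠ P 7
        exact ha7
      · show a • P 8 ≠ P 6
        exact fun e => hP.2 6 (by omega) (MulAction.injective a (e.trans (haf le_rfl).symm))
  have k0 : A.Kid (P 2) (P 3) (P 0) :=
    ⟨P 1, A.symm (hP.1 1 (by omega)), (hP.2 1 (by omega)).symm, A.symm (hP.1 0 (by omega)),
      (hP.2 0 (by omega)).symm⟩
  have k2 : A.Kid (P 4) (P 5) (P 2) :=
    ⟨P 3, A.symm (hP.1 3 (by omega)), (hP.2 3 (by omega)).symm, A.symm (hP.1 2 (by omega)),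
      (hP.2 2 (by omega)).symm⟩
  have k10 : A.Kid (P 8) (P 7) (P 10) :=
    ⟨P 9, hP.1 8 (by omega), hP.2 7 (by omega), hP.1 9 (by omega), hP.2 8 (by omega)⟩
  have h2s : A.side (P 2) = !s := hse (by omega) ⟨1, rfl⟩
  have h4s : A.side (P 4) = !s := hse (by omega) ⟨2, rfl⟩
  have h8s : A.side (P 8) = !s := hse (by omega) ⟨4, rfl⟩
  have e₁ : R.line 2 L₁ = R.comm2 (P 0) (x • P 0) :=
    line_eq H hL₁ h2s k0 (kid_smul x k0)
  have e₂ : R.line 2 L₂ = R.comm2 (P 10) (a • P 10) :=
    line_eq H hL₂ h8s k10 (kid_smul a k10)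
  have he12 : R.line 2 L₁ = R.line 2 L₂ := by
    rw [← inv_line H hL₂ h8s, e₁, e₂, comm2, comm2,
      ← R.root_conj H.isRoot h0 (g := x) rfl, ← R.root_conj H.isRoot hP10s (g := a) rfl,
      ← ha, ← hx, inv_root H.isRoot hP10s, inv_root H.isRoot h0]
    simp only [mul_inv_rev, show a⁻¹ = a from inv_root H.isRoot h0,
      show x⁻¹ = x from inv_root H.isRoot hP10s, mul_assoc]
    simp only [← ha, ← hx, show a⁻¹ = a from inv_root H.isRoot h0]
  have hA26 : A.Arc 4 fun i => P (2 + i) := Amal.arc_shift hP (by omega)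
  have hA48 : A.Arc 4 fun i => P (4 + i) := Amal.arc_shift hP (by omega)
  set F26 := R.line 2 fun i => P (2 + i) with hF26
  set F48 := R.line 2 fun i => P (4 + i) with hF48
  have hs1 : R.line 2 L₁ = F26 ∨ R.line 2 L₁ = F26 * R.root (P 2) :=
    line_share H hA26 hL₁ h2s rfl rfl
  have hs2 : R.line 2 L₂ = F48 ∨ R.line 2 L₂ = F48 * R.root (P 8) := by
    have := line_share H (Amal.arc_rev hA48) hL₂ (show A.side (P (4 + (4 - 0))) = !s from h8s)
      rfl rfl
    rwa [line_rev H hA48 h4s] at this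
  have f26 : ∀ {z}, A.Reach 4 (P 2) z ∨ A.Reach 4 (P 6) z → F26 • z = z := fun {z} hz =>
    hz.elim (fun h => line_fix H hA26 h2s le_rfl h) fun h => line_fix_end H hA26 h2s le_rfl h
  have f48 : ∀ {z}, A.Reach 4 (P 4) z ∨ A.Reach 4 (P 8) z → F48 • z = z := fun {z} hz =>
    hz.elim (fun h => line_fix H hA48 h4s le_rfl h) fun h => line_fix_end H hA48 h4s le_rfl h
  have hR4 : ∀ {i j}, i ≤ 10 → j ≤ 10 → i ≤ j + 4 → j ≤ i + 4 → A.Reach 4 (P i) (P j) :=
    fun hi hj h1 h2 => Amal.arc_reach_le hP hi hj h2 h1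
  have hF : F26 = F48 := by
    have r2 : R.root (P 2) • P 1 = P 1 := hfix h2s (hP' (by omega) (by omega) (by omega) (by omega))
    have hF1 : R.line 2 L₂ = F48 := by
      refine hs2.resolve_right fun h8 => ?_
      have := hout (hrevarc (i := 7) (by omega) (by omega)) (hso (i := 7) (by omega) ⟨3, rfl⟩)
        (y := P 8) (hP.1 7 (by omega)) (hP.2 6 (by omega))
      refine Amal.exists_swapped (hfix h8s (hP' (by omega) (j := 2) (by omega) (by omega) (by omega)))
        (hP.1 2 (by omega)) (hfix h8s (hP' (by omega) (j := 3) (by omega) (by omega) (by omega)))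
        this _ (A.symm (hP.1 1 (by omega))) (hP.2 1 (by omega)).symm ?_
      have e8 : R.root (P 8) = F48 * R.line 2 L₂ := by
        rw [h8, ← mul_assoc, line_sq H hA48 h4s, one_mul]
      have g26 : F26 • P 1 = P 1 :=
        f26 (Or.inl (hR4 (by omega) (by omega) (by omega) (by omega)))
      have g48 : F48 • P 1 = P 1 :=
        f48 (Or.inl (hR4 (by omega) (by omega) (by omega) (by omega)))
      rw [e8, mul_smul, ← he12]
      rcases hs1 with h | h
      · rw [h, g26, g48]
      · rw [h, mul_smul, r2, g26, g48]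
    rw [← hF1, ← he12]
    refine ((hs1.resolve_right fun h2 => ?_)).symm
    have := hout (hfwdarc (i := 3) (by omega)) (hso (i := 3) (by omega) ⟨1, rfl⟩)
      (y := P 2) (A.symm (hP.1 2 (by omega))) (hP.2 2 (by omega)).symm
    refine Amal.exists_swapped (hfix h2s (hP' (by omega) (j := 8) (by omega) (by omega) (by omega)))
      (A.symm (hP.1 7 (by omega)))
      (hfix h2s (hP' (by omega) (j := 7) (by omega) (by omega) (by omega)))
      this _ (hP.1 8 (by omega)) (hP.2 7 (by omega)) ?_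
    have e2 : R.root (P 2) = F26 * R.line 2 L₁ := by
      rw [h2, ← mul_assoc, line_sq H hA26 h2s, one_mul]
    rw [e2, mul_smul, he12, hF1, f48 (Or.inr (hR4 (by omega) (by omega) (by omega) (by omega))),
      f26 (Or.inr (hR4 (by omega) (by omega) (by omega) (by omega)))]
  have e48 : F48 = R.root (P 2) * R.root (x • P 2) := by
    rw [hF48, line_eq H hA48 h4s k2 k10, comm2_eq H hA48 h4s k2 (P 10) k10]
  -- the last critical arc
  let Z : ℕ → V := fun i => if i = 0 then x • P 3 else P (5 - i)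
  have hZ : A.Arc 5 Z := by
    refine ⟨fun i hi => ?_, fun i hi => ?_⟩
    · rcases Nat.eq_zero_or_pos i with rfl | hi0
      · exact A.symm (Amal.adj_of_smul (hxf le_rfl (by omega)) (A.symm (hP.1 3 (by omega))))
      · have := A.symm (hP.1 (5 - (i + 1)) (by omega))
        simp only [Z, show i ≠ 0 by omega, show i + 1 ≠ 0 by omega, if_false]
        rwa [show 5 - (i + 1) + 1 = 5 - i by omega] at this
    · rcases Nat.eq_zero_or_pos i with rfl | hi0
      · exact hx3.symm
      · have := hP.2 (5 - (i + 2)) (by omega)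
        simp only [Z, show i ≠ 0 by omega, show i + 2 ≠ 0 by omega, if_false]
        rw [show 5 - (i + 2) + 2 = 5 - i by omega] at this
        exact this.symm
  have hZ0s : A.side (Z 0) = s := (A.side_smul _ _).trans (hso (by omega) ⟨1, rfl⟩)
  have hm := hout hZ hZ0s (y := x • P 2) (A.adj_smul x (A.symm (hP.1 2 (by omega))))
    (fun e => hP.2 2 (by omega)
      (MulAction.injective x (e.trans (hxf (j := 4) le_rfl (by omega)).symm)).symm)
  have hx2s : A.side (x • P 2) = !s := (A.side_smul _ _).trans h2s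
  obtain ⟨p, hp, hpm⟩ : ∃ p, A.Adj (P 0) p ∧ R.root (x • P 2) • p ≠ p := by
    by_contra hc
    push Not at hc
    exact hm ⟨hfix hx2s (Amal.reach_cons (A.adj_smul x (hP.1 2 (by omega)))
      (Amal.arc_reach_le hZ (i := 0) (j := 5) (by omega) le_rfl (by omega) (by omega))), hc⟩
  refine hpm ?_
  have e : R.root (x • P 2) = R.root (P 2) * F26 := by
    rw [hF, e48, ← mul_assoc, R.root_sq H.isRoot h2s, one_mul]
  rw [e, mul_smul, f26 (Or.inl (Amal.reach_mono (by omega)
      (Amal.reach_snoc (Amal.arc_reach_le hP (i := 2) (j := 0) (k := 2) (by omega) (by omega)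
        (by omega) (by omega)) hp))),
    hfix h2s (Amal.reach_mono (by omega)
      (Amal.reach_snoc (Amal.arc_reach_le hP (i := 2) (j := 0) (k := 2) (by omega) (by omega)
        (by omega) (by omega)) hp))]

theorem seven_false (hA : A.CharTwo) (hNC : A.NoCen s) {k : ℕ} (H : R.Odd3 k) (hk : 4 ≤ k) (v : V) :
    False := by
  have hB : ∀ {L L' : ℕ → V}, A.Arc (k + 2) L → A.Arc (k + 2) L' → A.side (L 0) = (!s) →
      (∀ i ≤ k + 1, L' i = L i) → R.line k L' = R.line k L := by
    intro L L' hL hL' h0 he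
    refine (line_share H hL hL' h0 (he 0 (by omega)) (he 1 (by omega))).resolve_right fun h => ?_
    obtain ⟨Z, hZ, hZe⟩ := Amal.exists_arc_ext (Amal.arc_shift hL (k := 1) (m := k + 1) (by omega)) 2
    have hZ0 : Z 0 = L 1 := hZe 0 (by omega)
    have hZ1 : Z 1 = L 2 := hZe 1 (by omega)
    have hZk : Z (k + 1) = L (k + 2) := (hZe (k + 1) le_rfl).trans (congrArg L (Nat.add_comm 1 _))
    have hZk' : Z k = L (k + 1) := (hZe k (by omega)).trans (congrArg L (Nat.add_comm 1 _))
    have hs1 : A.side (L 1) = s := by rw [A.side_adj (hL.1 0 (by omega)), h0, Bool.not_not]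
    have hm := crit_out H.low (H.all Z hZ (hZ0 ▸ hs1)) H.isRoot H.odd (x := L 0)
      (hZ0 ▸ A.symm (hL.1 0 (by omega))) (hZ1 ▸ (hL.2 0 (by omega)).symm)
    obtain ⟨p, hp, hpm⟩ : ∃ p, A.Adj (Z (k + 1 + 2)) p ∧ R.root (L 0) • p ≠ p := by
      by_contra hc
      push Not at hc
      refine hm ⟨root_fix H.low H.isRoot h0 (by omega) (n := k + 4) le_rfl ?_, hc⟩
      refine Amal.reach_cons (hL.1 0 (by omega)) ?_
      rw [← hZ0]
      exact Amal.arc_reach hZ (Nat.zero_le _) le_rfl
    refine hpm ?_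
    have e : R.root (L 0) = R.line k L * R.line k L' := by
      rw [h, ← mul_assoc, line_sq H hL h0, one_mul]
    have f1 : R.line k L • p = p := line_fix_end H hL h0 (n := 3) (by omega) (by
      rw [← hZk]
      exact Amal.reach_snoc (Amal.arc_reach_le hZ (by omega) le_rfl (by omega) (by omega)) hp)
    have f2 : R.line k L' • p = p :=
      line_fix_end H hL' (he 0 (by omega) ▸ h0) (n := 5) (by omega) (Amal.reach_cons
        (A.symm (hL'.1 (k + 1) (by omega))) (by
          rw [he (k + 1) le_rfl, ← hZk']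
          exact Amal.reach_snoc (Amal.arc_reach_le hZ (by omega) le_rfl (by omega) (by omega)) hp))
    rw [e, mul_smul, f2, f1]
  have hB' : ∀ {L L' : ℕ → V}, A.Arc (k + 2) L → A.Arc (k + 2) L' → A.side (L 0) = (!s) →
      (∀ i, 1 ≤ i → i ≤ k + 2 → L' i = L i) → R.line k L' = R.line k L := by
    intro L L' hL hL' h0 he
    have h0' : A.side (L' 0) = !s := by
      rw [A.side_adj (A.symm (hL'.1 0 (by omega))), he 1 le_rfl (by omega),
        A.side_adj (hL.1 0 (by omega)), h0, Bool.not_not]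
    rw [← line_rev H hL h0, ← line_rev H hL' h0']
    exact hB (Amal.arc_rev hL) (Amal.arc_rev hL') (line_end H hL h0)
      fun i hi => he _ (by omega) (by omega)
  have hrepl : ∀ {L : ℕ → V}, A.Arc (k + 2) L → ∀ {u : V}, A.Adj u (L 1) → u ≠ L 2 →
      A.Arc (k + 2) fun i => if i = 0 then u else L i := by
    intro L hL u hu hu2
    refine ⟨fun i hi => ?_, fun i hi => ?_⟩
    · rcases Nat.eq_zero_or_pos i with rfl | h
      · simpa using hu
      · simpa [show i ≠ 0 by omega] using hL.1 i hi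
    · rcases Nat.eq_zero_or_pos i with rfl | h
      · simpa using hu2.symm
      · simpa [show i ≠ 0 by omega] using hL.2 i hi
  have hC : ∀ {L L' : ℕ → V}, A.Arc (k + 2) L → A.Arc (k + 2) L' → A.side (L 0) = (!s) →
      L' 1 = L 1 → L' 2 = L 2 → R.line k L' = R.line k L := by
    intro L L' hL hL' h0 e1 e2
    have h10 : A.Adj (L 0) (L 1) := hL.1 0 (by omega)
    have hs1 : A.side (L 1) = s := by rw [A.side_adj h10, h0, Bool.not_not]
    obtain ⟨u, hu, hu0, hu2⟩ :=
      Amal.exists_third (A.symm h10) (hL.1 1 (by omega)) (hL.2 0 (by omega)).symm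
    have hus : A.side u = !s := by rw [A.side_adj hu, hs1]
    have hM := hrepl hL' (u := L 0) (e1 ▸ h10) (e2 ▸ (hL.2 0 (by omega)).symm)
    have hN := hrepl hL (u := u) (A.symm hu) hu2
    have hN' := hrepl hL' (u := u) (e1 ▸ A.symm hu) (e2 ▸ hu2)
    have q1 := line_share H hL hM h0 rfl e1
    have q2 := line_share H hN hN' (show A.side u = !s from hus) rfl e1
    rw [hB' hL hN h0 fun i hi _ => if_neg (by omega)] at q2
    have h0' : A.side (L' 0) = !s := by
      rw [A.side_adj (A.symm (hL'.1 0 (by omega))), e1, hs1]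
    rw [hB' hL' hN' h0' fun i hi _ => if_neg (by omega)] at q2
    rw [hB' hL' hM h0' fun i hi _ => if_neg (by omega)] at q1
    rcases q1 with q1 | q1
    · exact q1
    rcases q2 with q2 | q2
    · exact q2
    exfalso
    refine root_ne H.isRoot hs1 (A.symm h10) hu hu0.symm ?_
    exact mul_left_cancel (q1.symm.trans q2)
  obtain ⟨v₀, hv₀⟩ := A.exists_side v (!s)
  obtain ⟨L₀, hL₀, hLe⟩ := Amal.exists_arc_ext (A := A) (n := 0) (P := fun _ => v₀)
    ⟨fun i hi => absurd hi (Nat.not_lt_zero i), fun i hi => absurd hi (Nat.not_lt_zero _)⟩ (k + 6)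
  have hP : A.Arc (k + 6) L₀ := Amal.arc_le hL₀ (by omega)
  have hL : A.Arc (k + 2) L₀ := Amal.arc_le hP (by omega)
  have h0 : A.side (L₀ 0) = !s := by rw [hLe 0 le_rfl]; exact hv₀
  set t := L₀ 1 with ht
  have hts : A.side t = s := by rw [A.side_adj (hL.1 0 (by omega)), h0, Bool.not_not]
  have hex : ∀ u : V, ∃ L, A.Adj t u →
      A.Arc (k + 2) L ∧ A.side (L 0) = (!s) ∧ L 1 = t ∧ L 2 = u := by
    intro u
    by_cases hu : A.Adj t u
    swap
    · exact ⟨fun _ => u, fun h => absurd h hu⟩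
    obtain ⟨z, hz, hzu⟩ := Amal.exists_other hu
    obtain ⟨L, hL, e0, e1, e2⟩ := Amal.exists_arc_two (A.symm hz) hu hzu.symm
    obtain ⟨L', hL', he⟩ := Amal.exists_arc_ext hL k
    refine ⟨L', fun _ => ⟨Amal.arc_le hL' (by omega), ?_, (he 1 (by omega)).trans e1,
      (he 2 le_rfl).trans e2⟩⟩
    rw [he 0 (by omega), e0, A.side_adj hz, hts]
  choose Lf hLf using hex
  have hf : ∀ {L : ℕ → V}, A.Arc (k + 2) L → L 1 = t → ∀ {u}, L 2 = u →
      R.line k L = R.line k (Lf u) := by
    intro L hL h1 u h2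
    have hu : A.Adj t u := h1 ▸ h2 ▸ hL.1 1 (by omega)
    obtain ⟨a1, a2, a3, a4⟩ := hLf u hu
    exact hC a1 hL a2 (h1.trans a3.symm) (h2.trans a4.symm)
  have hval : ∀ u, A.Adj t u → R.line k (Lf u) = R.root u := by
    intro u hu
    refine triangle hNC H.isRoot hts (fun u => R.line k (Lf u)) ?_ ?_ ?_ ?_ ?_ hu
    · intro u hu
      obtain ⟨a1, a2, a3, -⟩ := hLf u hu
      exact line_mem H a1 a2 (n := 1) (by omega) (by
        rw [← a3]
        exact Amal.reach_adj (a1.1 0 (by omega)))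
    · exact fun u hu => line_sq H (hLf u hu).1 (hLf u hu).2.1
    · exact fun u hu => line_ne_one hA H (hLf u hu).1 (hLf u hu).2.1
    · intro g hg u hu
      obtain ⟨a1, a2, a3, a4⟩ := hLf u hu
      rw [line_smul H a1 a2 g]
      exact hf (Amal.arc_smul g a1) (by rw [a3, hg]) (by rw [a4])
    · intro u v w hu hv hw huv huw hvw
      obtain ⟨a1, a2, a3, a4⟩ := hLf u hu
      obtain ⟨b1, b2, b3, b4⟩ := hLf w hw
      have hvs : A.side v = !s := by rw [A.side_adj hv, hts]
      have hN := hrepl a1 (u := v) (a3 ▸ A.symm hv) (fun e => huv (e.trans a4).symm)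
      have hN' := hrepl b1 (u := v) (b3 ▸ A.symm hv) (fun e => hvw (e.trans b4))
      have q := line_share H hN hN' (show A.side v = !s from hvs) rfl (b3.trans a3.symm)
      rw [hB' a1 hN a2 fun i hi _ => if_neg (by omega),
        hB' b1 hN' b2 fun i hi _ => if_neg (by omega)] at q
      show R.line k (Lf u) * R.line k (Lf w) = 1 ∨ _
      rcases q with q | q
      · left
        rw [q, line_sq H a1 a2]
      · right
        rw [q, ← mul_assoc, line_sq H a1 a2, one_mul]
        rfl
  have hL2 : R.line k L₀ = R.root (L₀ 2) :=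
    (hf hL rfl rfl).trans (hval _ (hL.1 1 (by omega)))
  have hZ : A.Arc (k + 3) fun i => L₀ (3 + i) := Amal.arc_shift hP (by omega)
  have h2s : A.side (L₀ 2) = !s := by rw [A.side_adj (hL.1 1 (by omega)), hts]
  have hm := crit_out H.low (H.all _ hZ (by
      show A.side (L₀ 3) = s
      rw [A.side_adj (hL.1 2 (by omega)), h2s, Bool.not_not])) H.isRoot H.odd (x := L₀ 2)
    (A.symm (hP.1 2 (by omega))) (hP.2 2 (by omega)).symm
  obtain ⟨p, hp, hpm⟩ : ∃ p, A.Adj (L₀ (3 + (k + 3))) p ∧ R.root (L₀ 2) • p ≠ p := by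
    by_contra hc
    push Not at hc
    exact hm ⟨root_fix H.low H.isRoot h2s (by omega) (n := k + 4) le_rfl
      (Amal.arc_reach_le hP (by omega) (by omega) (by omega) (by omega)), hc⟩
  refine hpm ?_
  rw [← hL2]
  exact line_fix_end H hL h0 (n := 5) (by omega)
    (Amal.reach_snoc (Amal.arc_reach_le hP (by omega) (by omega) (by omega) (by omega)) hp)

end Fam

end Cfsg.Agent.Goldschmidt
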