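import Cfsg.Agent.Lib.Goldschmidt.Setting

/-!
# Walks, arcs and transitivity on arcs in the graph of an amalgam
-/

set_option autoImplicit false

namespace Cfsg.Agent.Goldschmidt

open MulAction

variable {G V : Type*} [Group G] [MulAction G V]

/-- `z` is at the end of a walk of length at most `n` starting at `u`. -/
def Amal.Reach (A : Amal G V) : ℕ → V → V → Prop
  | 0, u, z => u = z
  | n + 1, u, z => A.Reach n u z ∨ ∃ x, A.Reach n u x ∧ A.Adj x z

/-- A walk without backtracking, given by its first `n + 1` values. -/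
def Amal.Arc (A : Amal G V) (n : ℕ) (P : ℕ → V) : Prop :=
  (∀ i, i < n → A.Adj (P i) (P (i + 1))) ∧ ∀ i, i + 1 < n → P (i + 2) ≠ P i

/-- Prepend a vertex. -/
def pre (u : V) (P : ℕ → V) : ℕ → V
  | 0 => u
  | i + 1 => P i

/-- Continue a sequence after position `n` by `w`. -/
def app (P : ℕ → V) (n : ℕ) (w : V) : ℕ → V := fun i => if i ≤ n then P i else w

/-- Some arc of length `n` ending on side `e` has a fixer outside the kernel at its end. -/
def Amal.Wit (A : Amal G V) (n : ℕ) (e : Bool) : Prop :=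
  ∃ P, A.Arc n P ∧ A.side (P n) = e ∧ ∃ g : G, (∀ i ≤ n, g • P i = P i) ∧ g ∉ A.Q (P n)

/-- All arcs of length `n` starting on side `s` are conjugate. -/
def Amal.Trans (A : Amal G V) (n : ℕ) (s : Bool) : Prop :=
  ∀ P P' : ℕ → V, A.Arc n P → A.Arc n P' → A.side (P 0) = s → A.side (P' 0) = s →
    ∃ g : G, ∀ i ≤ n, g • P i = P' i

@[simp] theorem pre_zero (u : V) (P : ℕ → V) : pre u P 0 = u := rfl

@[simp] theorem pre_succ (u : V) (P : ℕ → V) (i : ℕ) : pre u P (i + 1) = P i := rfl

theorem app_le {P : ℕ → V} {n : ℕ} {w : V} {i : ℕ} (h : i ≤ n) : app P n w i = P i := if_pos h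

theorem app_gt {P : ℕ → V} {n : ℕ} {w : V} {i : ℕ} (h : n < i) : app P n w i = w := if_neg h.not_ge

namespace Amal

variable {A : Amal G V}

/-! ### Walks -/

theorem reach_refl : ∀ (n : ℕ) (u : V), A.Reach n u u
  | 0, _ => rfl
  | n + 1, u => Or.inl (reach_refl n u)

theorem reach_mono {m n : ℕ} (h : m ≤ n) {u z : V} (hr : A.Reach m u z) : A.Reach n u z := by
  induction h with
  | refl => exact hr
  | step _ ih => exact Or.inl ih

theorem reach_adj {u v : V} (h : A.Adj u v) : A.Reach 1 u v := Or.inr ⟨u, rfl, h⟩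

theorem reach_trans {m : ℕ} {u x : V} (h : A.Reach m u x) :
    ∀ {n : ℕ} {z : V}, A.Reach n x z → A.Reach (m + n) u z
  | 0, _, hz => by obtain rfl := hz; exact h
  | n + 1, z, hz => by
    rcases hz with hz | ⟨y, hy, hyz⟩
    · exact Or.inl (reach_trans h hz)
    · exact Or.inr ⟨y, reach_trans h hy, hyz⟩

theorem reach_symm : ∀ {n : ℕ} {u z : V}, A.Reach n u z → A.Reach n z u
  | 0, _, _, h => Eq.symm h
  | n + 1, u, z, h => by
    rcases h with h | ⟨x, hx, hxz⟩
    · exact Or.inl (reach_symm h)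
    · exact reach_mono (by omega) (reach_trans (reach_adj (A.symm hxz)) (reach_symm hx))

theorem reach_cons {n : ℕ} {u x z : V} (h : A.Adj u x) (hr : A.Reach n x z) :
    A.Reach (n + 1) u z := reach_mono (by omega) (reach_trans (reach_adj h) hr)

theorem reach_snoc {n : ℕ} {u x z : V} (hr : A.Reach n u x) (h : A.Adj x z) :
    A.Reach (n + 1) u z := Or.inr ⟨x, hr, h⟩

theorem reach_head {n : ℕ} {u z : V} (h : A.Reach (n + 1) u z) :
    u = z ∨ ∃ x, A.Adj u x ∧ A.Reach n x z := by
  induction n generalizing z with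
  | zero =>
    rcases h with h | ⟨x, hx, hxz⟩
    · exact Or.inl h
    · obtain rfl := hx
      exact Or.inr ⟨z, hxz, rfl⟩
  | succ n ih =>
    rcases h with h | ⟨x, hx, hxz⟩
    · rcases ih h with h | ⟨y, hy, hyz⟩
      · exact Or.inl h
      · exact Or.inr ⟨y, hy, Or.inl hyz⟩
    · rcases ih hx with rfl | ⟨y, hy, hyx⟩
      · exact Or.inr ⟨z, hxz, reach_refl _ _⟩
      · exact Or.inr ⟨y, hy, Or.inr ⟨x, hyx, hxz⟩⟩

theorem reach_smul (g : G) : ∀ {n : ℕ} {u z : V}, A.Reach n u z → A.Reach n (g • u) (g • z)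
  | 0, _, _, h => congrArg (g • ·) h
  | _ + 1, _, _, h => by
    rcases h with h | ⟨x, hx, hxz⟩
    · exact Or.inl (reach_smul g h)
    · exact Or.inr ⟨g • x, reach_smul g hx, A.adj_smul g hxz⟩

/-! ### Arcs -/

theorem arc_le {n m : ℕ} {P : ℕ → V} (h : A.Arc n P) (hm : m ≤ n) : A.Arc m P :=
  ⟨fun i hi => h.1 i (by omega), fun i hi => h.2 i (by omega)⟩

theorem arc_shift {n : ℕ} {P : ℕ → V} (h : A.Arc n P) {k m : ℕ} (hm : k + m ≤ n) :
    A.Arc m fun i => P (k + i) :=
  ⟨fun i hi => h.1 (k + i) (by omega), fun i hi => h.2 (k + i) (by omega)⟩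

theorem arc_rev {n : ℕ} {P : ℕ → V} (h : A.Arc n P) : A.Arc n fun i => P (n - i) := by
  refine ⟨fun i hi => ?_, fun i hi => ?_⟩
  · have := A.symm (h.1 (n - (i + 1)) (by omega))
    rwa [show n - (i + 1) + 1 = n - i by omega] at this
  · have := h.2 (n - (i + 2)) (by omega)
    rw [show n - (i + 2) + 2 = n - i by omega] at this
    exact this.symm

theorem arc_pre {n : ℕ} {P : ℕ → V} (h : A.Arc n P) {u : V} (hu : A.Adj u (P 0))
    (hne : 0 < n → u ≠ P 1) : A.Arc (n + 1) (pre u P) := by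
  refine ⟨fun i hi => ?_, fun i hi => ?_⟩
  · cases i with
    | zero => exact hu
    | succ i => exact h.1 i (by omega)
  · cases i with
    | zero => exact (hne (by omega)).symm
    | succ i => exact h.2 i (by omega)

theorem arc_app {n : ℕ} {P : ℕ → V} (h : A.Arc n P) {w : V} (hw : A.Adj (P n) w)
    (hne : 0 < n → w ≠ P (n - 1)) : A.Arc (n + 1) (app P n w) := by
  refine ⟨fun i hi => ?_, fun i hi => ?_⟩
  · rcases Nat.lt_or_eq_of_le (Nat.lt_succ_iff.1 hi) with hi | rfl
    · rw [app_le hi.le, app_le (by omega)]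
      exact h.1 i hi
    · rwa [app_le le_rfl, app_gt (by omega)]
  · rcases Nat.lt_or_ge (i + 1) n with hlt | hge
    · rw [app_le (by omega), app_le (by omega)]
      exact h.2 i hlt
    · have hin : n = i + 1 := by omega
      subst hin
      rw [app_gt (by omega), app_le (by omega)]
      exact hne (by omega)

theorem arc_smul {n : ℕ} {P : ℕ → V} (g : G) (h : A.Arc n P) : A.Arc n fun i => g • P i :=
  ⟨fun i hi => A.adj_smul g (h.1 i hi), fun i hi e => h.2 i hi (MulAction.injective g e)⟩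

theorem arc_reach {n : ℕ} {P : ℕ → V} (h : A.Arc n P) :
    ∀ {i j : ℕ}, i ≤ j → j ≤ n → A.Reach (j - i) (P i) (P j) := by
  intro i j hij hj
  induction hij with
  | refl => exact reach_refl _ _
  | @step j hij ih =>
    rw [show j + 1 - i = j - i + 1 by
      have : i ≤ j := hij
      omega]
    exact reach_snoc (ih (by omega)) (h.1 j (by omega))

/-- Two vertices of an arc are joined by a walk of the evident length. -/
theorem arc_reach_le {n : ℕ} {P : ℕ → V} (h : A.Arc n P) {i j k : ℕ} (hi : i ≤ n) (hj : j ≤ n)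
    (h1 : j ≤ i + k) (h2 : i ≤ j + k) : A.Reach k (P i) (P j) := by
  rcases le_total i j with hij | hij
  · exact reach_mono (by omega) (arc_reach h hij hj)
  · exact reach_mono (by omega) (reach_symm (arc_reach h hij hi))

theorem side_add_two {n : ℕ} {P : ℕ → V} (h : A.Arc n P) {i : ℕ} (hi : i + 2 ≤ n) :
    A.side (P (i + 2)) = A.side (P i) := by
  rw [A.side_adj (h.1 (i + 1) (by omega)), A.side_adj (h.1 i (by omega)), Bool.not_not]

theorem side_even {n : ℕ} {P : ℕ → V} (h : A.Arc n P) :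
    ∀ {k : ℕ}, 2 * k ≤ n → A.side (P (2 * k)) = A.side (P 0)
  | 0, _ => rfl
  | k + 1, hk => by
    rw [show 2 * (k + 1) = 2 * k + 2 by ring, side_add_two h (by omega), side_even h (by omega)]

theorem side_of_even {n : ℕ} {P : ℕ → V} (h : A.Arc n P) {i : ℕ} (hi : i ≤ n) (he : Even i) :
    A.side (P i) = A.side (P 0) := by
  obtain ⟨k, rfl⟩ := he
  rw [← two_mul]
  exact side_even h (by omega)

theorem side_of_odd {n : ℕ} {P : ℕ → V} (h : A.Arc n P) {i : ℕ} (hi : i ≤ n) (ho : Odd i) :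
    A.side (P i) = !A.side (P 0) := by
  obtain ⟨k, rfl⟩ := ho
  rw [A.side_adj (h.1 (2 * k) (by omega)), side_even h (by omega)]

theorem side_eq {n : ℕ} {P P' : ℕ → V} (h : A.Arc n P) (h' : A.Arc n P')
    (h0 : A.side (P 0) = A.side (P' 0)) : ∀ {i : ℕ}, i ≤ n → A.side (P i) = A.side (P' i)
  | 0, _ => h0
  | i + 1, hi => by
    rw [A.side_adj (h.1 i (by omega)), A.side_adj (h'.1 i (by omega)),
      side_eq h h' h0 (i := i) (by omega)]

theorem exists_arc_of_reach {n : ℕ} {u z : V} (h : A.Reach n u z) :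
    ∃ P k, k ≤ n ∧ A.Arc k P ∧ P 0 = u ∧ P k = z := by
  induction n generalizing z with
  | zero =>
    exact ⟨fun _ => u, 0, le_rfl, ⟨fun i hi => absurd hi (Nat.not_lt_zero i),
      fun i hi => absurd hi (Nat.not_lt_zero _)⟩, rfl, h⟩
  | succ n ih =>
    rcases h with h | ⟨x, hx, hxz⟩
    · obtain ⟨P, k, hk, hP, h0, h1⟩ := ih h
      exact ⟨P, k, by omega, hP, h0, h1⟩
    · obtain ⟨P, k, hk, hP, h0, h1⟩ := ih hx
      by_cases hb : 0 < k ∧ P (k - 1) = z
      · exact ⟨P, k - 1, by omega, arc_le hP (by omega), h0, hb.2⟩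
      · refine ⟨app P k z, k + 1, by omega, arc_app hP (h1 ▸ hxz) (fun hk0 e => hb ⟨hk0, e.symm⟩),
          by rw [app_le (Nat.zero_le _), h0], app_gt (by omega)⟩

/-- An arc continues. -/
theorem exists_arc_ext {n : ℕ} {P : ℕ → V} (h : A.Arc n P) :
    ∀ m : ℕ, ∃ P', A.Arc (n + m) P' ∧ ∀ i ≤ n, P' i = P i := by
  intro m
  induction m with
  | zero => exact ⟨P, h, fun i _ => rfl⟩
  | succ m ih =>
    obtain ⟨P', hP', he⟩ := ih
    by_cases h0 : 0 < n + m
    · have hadj : A.Adj (P' (n + m)) (P' (n + m - 1)) := by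
        have := A.symm (hP'.1 (n + m - 1) (by omega))
        rwa [Nat.sub_add_cancel h0] at this
      obtain ⟨w, hw, hwne⟩ := exists_other hadj
      refine ⟨app P' (n + m) w, arc_app hP' hw (fun _ => hwne), fun i hi => ?_⟩
      rw [app_le (by omega), he i hi]
    · obtain ⟨w, hw⟩ := A.exists_adj (P' (n + m))
      refine ⟨app P' (n + m) w, arc_app hP' hw (fun h => absurd h h0), fun i hi => ?_⟩
      rw [app_le (by omega), he i hi]

theorem exists_arc_two {u v w : V} (h1 : A.Adj u v) (h2 : A.Adj v w) (hne : w ≠ u) :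
    ∃ P, A.Arc 2 P ∧ P 0 = u ∧ P 1 = v ∧ P 2 = w := by
  refine ⟨fun i => if i = 0 then u else if i = 1 then v else w, ⟨fun i hi => ?_, fun i hi => ?_⟩,
    rfl, rfl, rfl⟩
  · rcases (by omega : i = 0 ∨ i = 1) with rfl | rfl <;> simpa
  · obtain rfl : i = 0 := by omega
    simpa

/-! ### Transitivity on arcs -/

theorem wit_two (hA : A.CharTwo) {v : V} {e : Bool} (hv : A.side v = e) : A.Wit 2 e := by
  obtain ⟨u, hu⟩ := A.exists_adj v
  obtain ⟨q, hq, hqv⟩ := exists_mem_Q_not_mem hA (A.symm hu)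
  obtain ⟨w, hw, hwv⟩ := exists_other (A.symm hu)
  refine ⟨fun i => if i = 0 then w else if i = 1 then u else v,
    ⟨fun i hi => ?_, fun i hi => ?_⟩, by simpa, q, fun i hi => ?_, by simpa⟩
  · rcases (by omega : i = 0 ∨ i = 1) with rfl | rfl
    · simpa using A.symm hw
    · simpa using A.symm hu
  · obtain rfl : i = 0 := by omega
    simpa using hwv.symm
  · rcases (by omega : i = 0 ∨ i = 1 ∨ i = 2) with rfl | rfl | rfl
    · simpa using hq.2 w hw
    · simpa using hq.1
    · simpa using hq.2 v (A.symm hu)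

/-- A suffix of a witness is a witness. -/
theorem wit_le {n m : ℕ} {e : Bool} (h : A.Wit n e) (hm : m ≤ n) : A.Wit m e := by
  obtain ⟨P, hP, hs, g, hg, hgQ⟩ := h
  refine ⟨fun i => P (n - m + i), arc_shift hP (by omega), ?_, g, fun i hi => hg _ (by omega), ?_⟩
  · show A.side (P (n - m + m)) = e
    rwa [show n - m + m = n by omega]
  · show g ∉ A.Q (P (n - m + m))
    rwa [show n - m + m = n by omega]

theorem trans_zero (A : Amal G V) (s : Bool) : A.Trans 0 s := by
  intro P P' _ _ h h'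
  obtain ⟨x, hx⟩ := A.exists_adj (P 0)
  obtain ⟨x', hx'⟩ := A.exists_adj (P' 0)
  obtain ⟨g, hg, -⟩ := A.edge hx hx' (h.trans h'.symm)
  exact ⟨g, fun i hi => by obtain rfl := Nat.le_zero.1 hi; exact hg⟩

theorem trans_one (A : Amal G V) (s : Bool) : A.Trans 1 s := by
  intro P P' hP hP' h h'
  obtain ⟨g, hg, hg'⟩ := A.edge (hP.1 0 one_pos) (hP'.1 0 one_pos) (h.trans h'.symm)
  exact ⟨g, fun i hi => by
    rcases (by omega : i = 0 ∨ i = 1) with rfl | rfl
    · exact hg
    · exact hg'⟩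

theorem trans_succ {n : ℕ} {s : Bool} (hn : 0 < n) (ht : A.Trans n s)
    (hw : ∀ P, A.Arc n P → A.side (P 0) = s → A.Wit n (A.side (P n))) : A.Trans (n + 1) s := by
  intro P P' hP hP' h h'
  have hPn' := arc_le hP' (Nat.le_succ n)
  obtain ⟨g, hg⟩ := ht P P' (arc_le hP (Nat.le_succ n)) hPn' h h'
  have hadj : A.Adj (P' n) (g • P (n + 1)) := by
    rw [← hg n le_rfl]
    exact A.adj_smul g (hP.1 n (by omega))
  have hne : g • P (n + 1) ≠ P' (n - 1) := by
    rw [← hg (n - 1) (by omega)]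
    intro e
    have := hP.2 (n - 1) (by omega)
    rw [show n - 1 + 2 = n + 1 by omega] at this
    exact this (MulAction.injective g e)
  have hadj' : A.Adj (P' n) (P' (n - 1)) := by
    have := A.symm (hP'.1 (n - 1) (by omega))
    rwa [show n - 1 + 1 = n by omega] at this
  have hne' : P' (n + 1) ≠ P' (n - 1) := by
    have := hP'.2 (n - 1) (by omega)
    rwa [show n - 1 + 2 = n + 1 by omega] at this
  by_cases heq : g • P (n + 1) = P' (n + 1)
  · refine ⟨g, fun i hi => ?_⟩
    rcases Nat.lt_or_eq_of_le hi with hi | rfl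
    · exact hg i (by omega)
    · exact heq
  obtain ⟨W, hW, hWs, k, hk, hkQ⟩ := hw P' hPn' h'
  -- bring the witness onto `P'`
  have hW0 : A.side (W 0) = A.side (P' 0) := by
    rcases Nat.even_or_odd n with he | ho
    · rw [← side_of_even hW le_rfl he, ← side_of_even hPn' le_rfl he, hWs]
    · have := hWs
      rw [side_of_odd hW le_rfl ho, side_of_odd hPn' le_rfl ho] at this
      exact Bool.not_inj this
  obtain ⟨c, hc⟩ := ht W P' hW hPn' (hW0.trans h') h'
  have hfix : ∀ i ≤ n, (c * k * c⁻¹) • P' i = P' i := fun i hi => by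
    rw [mul_smul, mul_smul, ← hc i hi, inv_smul_smul, hk i hi]
  have hQ : c * k * c⁻¹ ∉ A.Q (P' n) := fun hm => hkQ (conj_mem_Q_iff.1 (by rwa [hc n le_rfl]))
  have hsw : (c * k * c⁻¹) • g • P (n + 1) = P' (n + 1) :=
    swap_of_not_mem_Q (hfix n le_rfl) hadj' hadj (hP'.1 n (by omega)) hne.symm hne'.symm heq
      (hfix (n - 1) (by omega)) hQ
  refine ⟨c * k * c⁻¹ * g, fun i hi => ?_⟩
  rcases Nat.lt_or_eq_of_le hi with hi | rfl
  · rw [mul_smul, hg i (by omega), hfix i (by omega)]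
  · rw [mul_smul, hsw]

theorem trans_of_wit {n : ℕ} (h : ∀ l, 0 < l → l < n → ∀ e, A.Wit l e) (s : Bool) :
    A.Trans n s := by
  induction n with
  | zero => exact A.trans_zero s
  | succ n ih =>
    rcases Nat.eq_zero_or_pos n with rfl | hn
    · exact A.trans_one s
    · exact trans_succ hn (ih fun l h0 hl => h l h0 (by omega))
        fun P _ _ => h n hn (Nat.lt_succ_self n) _

theorem exists_side (A : Amal G V) (v : V) (e : Bool) : ∃ x, A.side x = e := by
  obtain ⟨x, hx⟩ := A.exists_adj v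
  by_cases he : A.side v = e
  · exact ⟨v, he⟩
  · refine ⟨x, ?_⟩
    rw [A.side_adj hx]
    cases e <;> cases hv : A.side v <;> simp_all

theorem trans_three (hA : A.CharTwo) (s : Bool) : A.Trans 3 s := by
  intro P P'
  refine trans_of_wit (fun l h0 hl e => ?_) s P P'
  obtain ⟨x, hx⟩ := A.exists_side (P 0) e
  exact wit_le (wit_two hA hx) (by omega)

theorem trans_two (hA : A.CharTwo) (s : Bool) : A.Trans 2 s := by
  intro P P'
  refine trans_of_wit (fun l h0 hl e => ?_) s P P'
  obtain ⟨x, hx⟩ := A.exists_side (P 0) e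
  exact wit_le (wit_two hA hx) (by omega)

end Amal

end Cfsg.Agent.Goldschmidt
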