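import Mathlib.GroupTheory.GroupAction.Quotient
import Mathlib.GroupTheory.PGroup
import Mathlib.GroupTheory.Index

/-!
# Amalgams of index (3, 3) through their graphs

`Amal` records an edge-transitive action on a bipartite cubic graph with finite vertex stabilisers,
2-group edge stabilisers and no nontrivial subgroup of an edge stabiliser normalised by both ends.
-/

set_option autoImplicit false

namespace Cfsg.Agent.Goldschmidt

open MulAction

/-- An edge-transitive cubic bipartite action of amalgam type. -/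
structure Amal (G V : Type*) [Group G] [MulAction G V] where
  Adj : V → V → Prop
  side : V → Bool
  symm : ∀ {u v}, Adj u v → Adj v u
  side_adj : ∀ {u v}, Adj u v → side v = !side u
  side_smul : ∀ (g : G) (v : V), side (g • v) = side v
  adj_smul : ∀ (g : G) {u v}, Adj u v → Adj (g • u) (g • v)
  nbrs : ∀ v, ∃ a b c, a ≠ b ∧ a ≠ c ∧ b ≠ c ∧ ∀ x, Adj v x ↔ x = a ∨ x = b ∨ x = c
  edge : ∀ {u v u' v'}, Adj u v → Adj u' v' → side u = side u' →
    ∃ g : G, g • u = u' ∧ g • v = v'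
  finite : ∀ v : V, Finite (stabilizer G v)
  two : ∀ {u v}, Adj u v → IsPGroup 2 ↥(stabilizer G u ⊓ stabilizer G v)
  swap : ∀ {u v}, Adj u v → ∃ g : G, g • u = u ∧ g • v = v ∧ ∃ x, Adj u x ∧ g • x ≠ x
  faithful : ∀ {u v}, Adj u v → ∀ X : Subgroup G, (∀ x ∈ X, x • u = u ∧ x • v = v) →
    (∀ g : G, g • u = u → ∀ x ∈ X, g * x * g⁻¹ ∈ X) →
    (∀ g : G, g • v = v → ∀ x ∈ X, g * x * g⁻¹ ∈ X) → X = ⊥

variable {G V : Type*} [Group G] [MulAction G V] (A : Amal G V)

/-- The kernel of the stabiliser of `v` on the neighbours of `v`. -/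
def Amal.Q (v : V) : Subgroup G where
  carrier := {g | g • v = v ∧ ∀ x, A.Adj v x → g • x = x}
  one_mem' := ⟨one_smul _ _, fun _ _ => one_smul _ _⟩
  mul_mem' := fun {g h} hg hh => ⟨by rw [mul_smul, hh.1, hg.1],
    fun x hx => by rw [mul_smul, hh.2 x hx, hg.2 x hx]⟩
  inv_mem' := fun {g} hg => ⟨inv_smul_eq_iff.2 hg.1.symm,
    fun x hx => inv_smul_eq_iff.2 (hg.2 x hx).symm⟩

/-- The vertices within `2` of `v`: the intersection of the kernels at the neighbours. -/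
def Amal.ball (A : Amal G V) : ℕ → V → Subgroup G
  | 0, v => stabilizer G v
  | n + 1, v => stabilizer G v ⊓ ⨅ (x : V) (_ : A.Adj v x), A.ball n x

/-- The property `C(Q_v) ≤ Q_v`. -/
def Amal.CharTwo : Prop :=
  ∀ v : V, ∀ g : G, g • v = v → (∀ q ∈ A.Q v, g * q = q * g) → g ∈ A.Q v

namespace Amal

variable {A}

theorem adj_ne {u v : V} (h : A.Adj u v) : u ≠ v := fun e => by
  have := A.side_adj h
  simp [e] at this

theorem adj_smul_iff {g : G} {u v : V} : A.Adj (g • u) (g • v) ↔ A.Adj u v :=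
  ⟨fun h => by simpa using A.adj_smul g⁻¹ h, A.adj_smul g⟩

theorem adj_of_smul {g : G} {u x : V} (hg : g • u = u) (h : A.Adj u x) : A.Adj u (g • x) := by
  have := A.adj_smul g h
  rwa [hg] at this

theorem adj_left_of_smul {g : G} {u x : V} (hg : g • u = u) (h : A.Adj x u) : A.Adj (g • x) u :=
  A.symm (adj_of_smul hg (A.symm h))

/-- The neighbours are any three distinct ones. -/
theorem nbr_cases {v a b c x : V} (ha : A.Adj v a) (hb : A.Adj v b) (hc : A.Adj v c) (hab : a ≠ b)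
    (hac : a ≠ c) (hbc : b ≠ c) (hx : A.Adj v x) : x = a ∨ x = b ∨ x = c := by
  obtain ⟨p, q, r, -, -, -, h⟩ := A.nbrs v
  rcases (h a).1 ha with rfl | rfl | rfl <;> rcases (h b).1 hb with rfl | rfl | rfl <;>
    rcases (h c).1 hc with rfl | rfl | rfl <;> rcases (h x).1 hx with rfl | rfl | rfl <;> tauto

theorem exists_third {v a b : V} (ha : A.Adj v a) (hb : A.Adj v b) (hab : a ≠ b) :
    ∃ c, A.Adj v c ∧ c ≠ a ∧ c ≠ b := by
  obtain ⟨p, q, r, hpq, hpr, hqr, h⟩ := A.nbrs v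
  rcases (h a).1 ha with rfl | rfl | rfl <;> rcases (h b).1 hb with rfl | rfl | rfl
  all_goals first
    | exact absurd rfl hab
    | exact ⟨p, (h p).2 (by tauto), by tauto, by tauto⟩
    | exact ⟨q, (h q).2 (by tauto), by tauto, by tauto⟩
    | exact ⟨r, (h r).2 (by tauto), by tauto, by tauto⟩

theorem exists_other {v a : V} (ha : A.Adj v a) : ∃ b, A.Adj v b ∧ b ≠ a := by
  obtain ⟨p, q, r, hpq, -, -, h⟩ := A.nbrs v
  by_cases e : p = a
  · exact ⟨q, (h q).2 (by tauto), fun e' => hpq (e.trans e'.symm)⟩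
  · exact ⟨p, (h p).2 (by tauto), e⟩

theorem exists_two_others {v a : V} (ha : A.Adj v a) :
    ∃ b c, A.Adj v b ∧ A.Adj v c ∧ b ≠ a ∧ c ≠ a ∧ b ≠ c := by
  obtain ⟨b, hb, hba⟩ := exists_other ha
  obtain ⟨c, hc, hca, hcb⟩ := exists_third ha hb hba.symm
  exact ⟨b, c, hb, hc, hba, hca, hcb.symm⟩

theorem exists_adj (A : Amal G V) (v : V) : ∃ x, A.Adj v x := by
  obtain ⟨a, b, c, -, -, -, h⟩ := A.nbrs v
  exact ⟨a, (h a).2 (Or.inl rfl)⟩

theorem mem_Q {v : V} {g : G} : g ∈ A.Q v ↔ g • v = v ∧ ∀ x, A.Adj v x → g • x = x := Iff.rfl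

theorem smul_adj_ne {g : G} {x y : V} (h : x ≠ y) : g • x ≠ g • y := fun e =>
  h (MulAction.injective g e)

theorem mem_Q_of_two {v a b : V} {g : G} (hg : g • v = v) (ha : A.Adj v a) (hb : A.Adj v b)
    (hab : a ≠ b) (hga : g • a = a) (hgb : g • b = b) : g ∈ A.Q v := by
  obtain ⟨c, hc, hca, hcb⟩ := exists_third ha hb hab
  refine ⟨hg, fun x hx => ?_⟩
  rcases nbr_cases ha hb hc hab hca.symm hcb.symm hx with rfl | rfl | rfl
  · exact hga
  · exact hgb
  rcases nbr_cases ha hb hc hab hca.symm hcb.symm (adj_of_smul hg hc) with e | e | e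
  · exact absurd (MulAction.injective g (e.trans hga.symm)) hca
  · exact absurd (MulAction.injective g (e.trans hgb.symm)) hcb
  · exact e

theorem smul_ne_of_not_mem_Q {v a b : V} {g : G} (hg : g • v = v) (ha : A.Adj v a) (hb : A.Adj v b)
    (hab : a ≠ b) (hga : g • a = a) (h : g ∉ A.Q v) : g • b ≠ b :=
  fun e => h (mem_Q_of_two hg ha hb hab hga e)

theorem swap_of_not_mem_Q {v a b c : V} {g : G} (hg : g • v = v) (ha : A.Adj v a)
    (hb : A.Adj v b) (hc : A.Adj v c) (hab : a ≠ b) (hac : a ≠ c) (hbc : b ≠ c)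
    (hga : g • a = a) (h : g ∉ A.Q v) : g • b = c := by
  rcases nbr_cases ha hb hc hab hac hbc (adj_of_smul hg hb) with e | e | e
  · exact absurd (MulAction.injective g (hga.trans e.symm)) hab
  · exact absurd e (smul_ne_of_not_mem_Q hg ha hb hab hga h)
  · exact e

theorem exists_swapped {v a : V} {g : G} (hg : g • v = v) (ha : A.Adj v a) (hga : g • a = a)
    (h : g ∉ A.Q v) : ∀ x, A.Adj v x → x ≠ a → g • x ≠ x :=
  fun _ hx hxa => smul_ne_of_not_mem_Q hg ha hx (Ne.symm hxa) hga h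

theorem mul_mem_Q_iff {v a : V} {g h : G} (ha : A.Adj v a) (hg : g • v = v) (hh : h • v = v)
    (hga : g • a = a) (hha : h • a = a) : g * h ∈ A.Q v ↔ (g ∈ A.Q v ↔ h ∈ A.Q v) := by
  by_cases hq : g ∈ A.Q v
  · simp [hq, Subgroup.mul_mem_cancel_left _ hq]
  by_cases hr : h ∈ A.Q v
  · simp [hq, hr, Subgroup.mul_mem_cancel_right _ hr]
  simp only [hq, hr, iff_self, iff_true]
  obtain ⟨b, c, hb, hc, hba, hca, hbc⟩ := exists_two_others ha
  refine mem_Q_of_two (by rw [mul_smul, hh, hg]) ha hb hba.symm (by rw [mul_smul, hha, hga]) ?_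
  rw [mul_smul, swap_of_not_mem_Q hh ha hb hc hba.symm hca.symm hbc hha hr,
    swap_of_not_mem_Q hg ha hc hb hca.symm hba.symm hbc.symm hga hq]

theorem conj_mem_Q {v : V} {g q : G} (hq : q ∈ A.Q v) : g * q * g⁻¹ ∈ A.Q (g • v) := by
  refine ⟨by rw [mul_smul, mul_smul, inv_smul_smul, hq.1], fun x hx => ?_⟩
  have : A.Adj v (g⁻¹ • x) := by simpa using A.adj_smul g⁻¹ hx
  rw [mul_smul, mul_smul, hq.2 _ this, smul_inv_smul]

theorem conj_mem_Q_iff {v : V} {g q : G} : g * q * g⁻¹ ∈ A.Q (g • v) ↔ q ∈ A.Q v :=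
  ⟨fun h => by simpa [mul_assoc] using conj_mem_Q (g := g⁻¹) h, conj_mem_Q⟩

theorem normal_Q {v : V} {g q : G} (hg : g • v = v) (hq : q ∈ A.Q v) : g * q * g⁻¹ ∈ A.Q v := by
  simpa [hg] using conj_mem_Q (g := g) hq

theorem Q_le_stab (v : V) : A.Q v ≤ stabilizer G v := fun _ h => h.1

theorem Q_le_edge {u v : V} (h : A.Adj v u) : A.Q v ≤ stabilizer G v ⊓ stabilizer G u :=
  fun _ hg => ⟨hg.1, hg.2 u h⟩

theorem finite_of_le (A : Amal G V) {H : Subgroup G} {v : V} (h : H ≤ stabilizer G v) :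
    Finite H :=
  have := A.finite v
  Finite.of_injective _ (Subgroup.inclusion_injective h)

theorem card_pos_of_le (A : Amal G V) {H : Subgroup G} {v : V} (h : H ≤ stabilizer G v) :
    0 < Nat.card H :=
  have := A.finite_of_le h
  Nat.card_pos

/-- A subgroup is at most twice as large as a subgroup containing all quotients of outside
elements. -/
theorem card_le_two_mul {X B : Subgroup G} [Finite X]
    (h : ∀ x ∈ X, ∀ y ∈ X, x ∉ B → y ∉ B → x⁻¹ * y ∈ B) :
    Nat.card X ≤ 2 * Nat.card ↥(X ⊓ B) := by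
  classical
  by_cases hall : X ≤ B
  · rw [inf_eq_left.2 hall]
    omega
  obtain ⟨x₀, hx₀, hx₀B⟩ := SetLike.not_le_iff_exists.1 hall
  have : Finite ↥(X ⊓ B) := Finite.of_injective _ (Subgroup.inclusion_injective inf_le_left)
  have hf : ∀ x : X, (x : G) ∉ B → x₀⁻¹ * (x : G) ∈ X ⊓ B := fun x hx =>
    ⟨X.mul_mem (X.inv_mem hx₀) x.2, h x₀ hx₀ x x.2 hx₀B hx⟩
  let f : X → Bool × ↥(X ⊓ B) := fun x =>
    if hx : (x : G) ∈ B then (true, ⟨x, x.2, hx⟩) else (false, ⟨x₀⁻¹ * x, hf x hx⟩)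
  have hinj : Function.Injective f := by
    intro x y e
    simp only [f] at e
    apply Subtype.ext
    split_ifs at e
    · exact congrArg (fun p : Bool × ↥(X ⊓ B) => (p.2 : G)) e
    · exact absurd (congrArg Prod.fst e) Bool.noConfusion
    · exact absurd (congrArg Prod.fst e) Bool.noConfusion
    · exact mul_left_cancel (congrArg (fun p : Bool × ↥(X ⊓ B) => (p.2 : G)) e)
  refine (Nat.card_le_card_of_injective f hinj).trans ?_
  simp [Nat.card_prod]

theorem card_le_two_mul_Q {X : Subgroup G} {v a : V} (ha : A.Adj v a)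
    (hX : ∀ x ∈ X, x • v = v ∧ x • a = a) : Nat.card X ≤ 2 * Nat.card ↥(X ⊓ A.Q v) := by
  have : Finite X := A.finite_of_le (v := v) fun x hx => (hX x hx).1
  refine card_le_two_mul fun x hx y hy hxv hyv => ?_
  have hi := inv_mem hx
  rw [mul_mem_Q_iff ha (hX _ hi).1 (hX _ hy).1 (hX _ hi).2 (hX _ hy).2, inv_mem_iff]
  tauto

theorem card_edge {u v : V} (h : A.Adj v u) :
    Nat.card ↥(stabilizer G v ⊓ stabilizer G u) = 2 * Nat.card (A.Q v) := by
  have hle := card_le_two_mul_Q h (X := stabilizer G v ⊓ stabilizer G u) fun x hx => ⟨hx.1, hx.2⟩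
  rw [inf_eq_right.2 (Q_le_edge h)] at hle
  have : Finite ↥(stabilizer G v ⊓ stabilizer G u) :=
    A.finite_of_le (v := v) inf_le_left
  obtain ⟨k, hk⟩ := Subgroup.card_dvd_of_le (Q_le_edge h)
  have hpos : 0 < Nat.card (A.Q v) := A.card_pos_of_le (Q_le_stab v)
  have hk1 : k ≠ 1 := by
    rintro rfl
    obtain ⟨g, hgv, hgu, x, hx, hne⟩ := A.swap h
    have he : A.Q v = stabilizer G v ⊓ stabilizer G u :=
      Subgroup.eq_of_le_of_card_ge (Q_le_edge h) (by rw [hk, mul_one])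
    have hgQ : g ∈ A.Q v := he.ge ⟨hgv, hgu⟩
    exact hne (hgQ.2 x hx)
  have hk0 : k ≠ 0 := by
    rintro rfl
    rw [mul_zero] at hk
    exact absurd hk Nat.card_pos.ne'
  have h2 : 2 * Nat.card (A.Q v) ≤ Nat.card (A.Q v) * k := by
    rw [mul_comm]
    exact Nat.mul_le_mul_left _ (by omega)
  omega

theorem card_Q_eq {u v : V} (h : A.Adj v u) : Nat.card (A.Q v) = Nat.card (A.Q u) := by
  have h1 := card_edge h
  have h2 := card_edge (A.symm h)
  rw [inf_comm] at h2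
  omega

theorem Q_eq_bot_of_le {u v : V} (h : A.Adj u v) (hle : A.Q u ≤ A.Q v) : A.Q u = ⊥ := by
  have : Finite (A.Q v) := A.finite_of_le (Q_le_stab v)
  have he : A.Q u = A.Q v := Subgroup.eq_of_le_of_card_ge hle (card_Q_eq h).ge
  exact A.faithful h _ (fun x hx => ⟨hx.1, hx.2 v h⟩) (fun g hg x hx => normal_Q hg hx)
    (fun g hg x hx => by rw [he] at hx ⊢; exact normal_Q hg hx)

theorem Q_ne_bot (hA : A.CharTwo) (v : V) : A.Q v ≠ ⊥ := by
  intro e
  obtain ⟨u, hu⟩ := A.exists_adj v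
  obtain ⟨g, hgv, -, x, hx, hne⟩ := A.swap hu
  refine hne ((hA v g hgv fun q hq => ?_).2 x hx)
  rw [e, Subgroup.mem_bot] at hq
  rw [hq, one_mul, mul_one]

theorem exists_mem_Q_not_mem {u v : V} (hA : A.CharTwo) (h : A.Adj u v) :
    ∃ q ∈ A.Q u, q ∉ A.Q v := by
  by_contra hne
  push Not at hne
  exact Q_ne_bot hA u (Q_eq_bot_of_le h hne)

/-- Elements fixing `v` that generate transitivity together with an edge stabiliser. -/
theorem exists_edge_mul {v u : V} (hu : A.Adj v u) {N : Subgroup G}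
    (htr : ∀ x y, A.Adj v x → A.Adj v y → ∃ n ∈ N, n • v = v ∧ n • x = y) {g : G} (hg : g • v = v) :
    ∃ n ∈ N, ∃ t, t • v = v ∧ t • u = u ∧ g = n * t := by
  obtain ⟨n, hn, hnv, hnu⟩ := htr u (g • u) hu (adj_of_smul hg hu)
  refine ⟨n, hn, n⁻¹ * g, ?_, ?_, (mul_inv_cancel_left _ _).symm⟩
  · rw [mul_smul, hg, inv_smul_eq_iff, hnv]
  · rw [mul_smul, inv_smul_eq_iff, hnu]

/-- A normal subgroup of a vertex stabiliser outside the kernel is transitive on neighbours. -/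
theorem transitive_of_normal {v : V} {N : Subgroup G} (hN : ∀ n ∈ N, n • v = v)
    (hnorm : ∀ g : G, g • v = v → ∀ n ∈ N, g * n * g⁻¹ ∈ N) {n : G} (hn : n ∈ N)
    (hnQ : n ∉ A.Q v) :
    ∀ x y, A.Adj v x → A.Adj v y → ∃ m ∈ N, m • v = v ∧ m • x = y := by
  obtain ⟨a, ha, hna⟩ : ∃ a, A.Adj v a ∧ n • a ≠ a := by
    by_contra hc
    push Not at hc
    exact hnQ ⟨hN n hn, hc⟩
  have hnv := hN n hn
  obtain ⟨c, hc, hca, hcn⟩ := exists_third ha (adj_of_smul hnv ha) hna.symm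
  have step : ∀ x, A.Adj v x → ∃ m ∈ N, m • a = x := by
    intro x hx
    rcases nbr_cases ha (adj_of_smul hnv ha) hc hna.symm hca.symm hcn.symm hx with rfl | rfl | rfl
    · exact ⟨1, N.one_mem, one_smul _ _⟩
    · exact ⟨n, hn, rfl⟩
    -- move `n • a` to `x` fixing `a`
    obtain ⟨t, htv, hta, y, hy, hty⟩ := A.swap ha
    have hQ : t ∉ A.Q v := fun h => hty (h.2 y hy)
    refine ⟨t * n * t⁻¹, hnorm t htv n hn, ?_⟩
    rw [mul_smul, mul_smul, inv_smul_eq_iff.2 hta.symm,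
      swap_of_not_mem_Q htv ha (adj_of_smul hnv ha) hc hna.symm hca.symm hcn.symm hta hQ]
  intro x y hx hy
  obtain ⟨m₁, hm₁, e₁⟩ := step x hx
  obtain ⟨m₂, hm₂, e₂⟩ := step y hy
  refine ⟨m₂ * m₁⁻¹, mul_mem hm₂ (inv_mem hm₁), hN _ (mul_mem hm₂ (inv_mem hm₁)), ?_⟩
  rw [mul_smul, ← e₁, inv_smul_smul, e₂]

theorem mem_ball_succ {n : ℕ} {v : V} {g : G} :
    g ∈ A.ball (n + 1) v ↔ g • v = v ∧ ∀ x, A.Adj v x → g ∈ A.ball n x := by
  simp [ball]

theorem ball_smul_self : ∀ (n : ℕ) {v : V} {g : G}, g ∈ A.ball n v → g • v = v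
  | 0, _, _, h => h
  | _ + 1, _, _, h => (mem_ball_succ.1 h).1

theorem ball_one (v : V) : A.ball 1 v = A.Q v := by
  ext g
  rw [mem_ball_succ]
  rfl

theorem mem_ball_two {v : V} {g : G} : g ∈ A.ball 2 v ↔ ∀ x, A.Adj v x → g ∈ A.Q x := by
  rw [mem_ball_succ]
  simp only [ball_one]
  refine ⟨fun h => h.2, fun h => ⟨?_, h⟩⟩
  obtain ⟨x, hx⟩ := A.exists_adj v
  exact (h x hx).2 v (A.symm hx)

theorem conj_mem_ball : ∀ (n : ℕ) {v : V} {g q : G}, q ∈ A.ball n v →
    g * q * g⁻¹ ∈ A.ball n (g • v)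
  | 0, v, g, q, h => by
    show (g * q * g⁻¹) • g • v = g • v
    rw [mul_smul, mul_smul, inv_smul_smul, show q • v = v from h]
  | n + 1, v, g, q, h => by
    obtain ⟨h1, h2⟩ := mem_ball_succ.1 h
    refine mem_ball_succ.2 ⟨by rw [mul_smul, mul_smul, inv_smul_smul, h1], fun x hx => ?_⟩
    have hx' : A.Adj v (g⁻¹ • x) := by simpa using A.adj_smul g⁻¹ hx
    simpa using conj_mem_ball n (g := g) (h2 _ hx')

theorem normal_ball {n : ℕ} {v : V} {g q : G} (hg : g • v = v) (hq : q ∈ A.ball n v) :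
    g * q * g⁻¹ ∈ A.ball n v := by simpa [hg] using conj_mem_ball n (g := g) hq

end Amal

end Cfsg.Agent.Goldschmidt
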