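import Cfsg.Agent.Lib.Goldschmidt.Line

/-!
# Root families with critical length three: commutators and the deep kernels
-/

set_option autoImplicit false

namespace Cfsg.Agent.Goldschmidt

open MulAction

variable {G V : Type*} [Group G] [MulAction G V] {A : Amal G V} {s : Bool}

theorem exists_two_arc_ext {u v w : V} (h1 : A.Adj u v) (h2 : A.Adj v w) (hne : w ≠ u) (m : ℕ) :
    ∃ P, A.Arc (2 + m) P ∧ P 0 = u ∧ P 1 = v ∧ P 2 = w := by
  obtain ⟨L, hL, e0, e1, e2⟩ := Amal.exists_arc_two h1 h2 hne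
  obtain ⟨P, hP, he⟩ := Amal.exists_arc_ext hL m
  exact ⟨P, hP, (he 0 (by omega)).trans e0, (he 1 (by omega)).trans e1, (he 2 le_rfl).trans e2⟩

namespace Fam

/-- The root families with critical length three all of whose central involutions are roots. -/
structure ThreeOnly (R : Fam A s) : Prop where
  odd3 : R.Odd3 0
  noCen : A.NoCen s
  uniq : ∀ {u v : V} {y : G}, A.side u = s → A.Adj u v → y ≠ 1 → y * y = 1 → y • u = u → y • v = v →
    (∀ g : G, g • u = u → g • v = v → Commute g y) → y = R.root v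

variable {R : Fam A s}

theorem three_fix (H : R.Odd3 0) {x z : V} (hx : A.side x = !s) {n : ℕ} (hn : n ≤ 4)
    (h : A.Reach n x z) : R.root x • z = z :=
  root_fix H.low H.isRoot hx (by omega) hn h

theorem three_mem (H : R.Odd3 0) {x z : V} (hx : A.side x = !s) {n : ℕ} (hn : n ≤ 3)
    (h : A.Reach n x z) : R.root x ∈ A.Q z :=
  root_mem H.low H.isRoot hx (by omega) hn h

/-- A root is outside the kernel at the far end of an arc of length three from its neighbour. -/
theorem three_out (H : R.Odd3 0) {x a b c d : V} (ha : A.side a = s) (hax : A.Adj a x)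
    (hab : A.Adj a b) (hbc : A.Adj b c) (hcd : A.Adj c d) (hxb : x ≠ b) (hca : c ≠ a)
    (hdb : d ≠ b) : R.root x ∉ A.Q d := by
  obtain ⟨L, hL, e0, e1, e2⟩ := Amal.exists_arc_two hbc hcd hdb
  have h3 : A.Arc 3 (pre a L) :=
    Amal.arc_pre hL (e0 ▸ hab) fun _ => by rw [e1]; exact hca.symm
  have := crit_out H.low (H.all _ h3 ha) H.isRoot H.odd (x := x) hax (by
    show x ≠ L 0
    rw [e0]
    exact hxb)
  rw [show pre a L (0 + 3) = d from e2] at this
  exact this

/-- The commutator along a line of length two is the root at the remaining neighbour. -/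
theorem three_line (hA : A.CharTwo) (H : R.Odd3 0) (hNC : A.NoCen s) {L : ℕ → V}
    (hL : A.Arc 2 L) (h0 : A.side (L 0) = !s) {w : V} (hw : A.Adj (L 1) w) (hw0 : w ≠ L 0)
    (hw2 : w ≠ L 2) : R.line 0 L = R.root w := by
  set t := L 1 with ht
  have hts : A.side t = s := by rw [A.side_adj (hL.1 0 (by omega)), h0, Bool.not_not]
  have hnb : ∀ {u}, A.Adj t u → A.side u = !s := fun {u} hu => by rw [A.side_adj hu, hts]
  have hex : ∀ u : V, ∃ M, A.Adj t u →
      A.Arc 2 M ∧ A.side (M 0) = (!s) ∧ M 1 = t ∧ M 0 ≠ u ∧ M 2 ≠ u := by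
    intro u
    by_cases hu : A.Adj t u
    swap
    · exact ⟨fun _ => u, fun h => absurd h hu⟩
    obtain ⟨a, b, ha, hb, hau, hbu, hab⟩ := Amal.exists_two_others hu
    obtain ⟨M, hM, e0, e1, e2⟩ := Amal.exists_arc_two (A.symm ha) hb hab.symm
    exact ⟨M, fun _ => ⟨hM, e0 ▸ hnb ha, e1, e0 ▸ hau, e2 ▸ hbu⟩⟩
  choose Mf hMf using hex
  have hf : ∀ {M : ℕ → V}, A.Arc 2 M → M 1 = t → ∀ {u}, A.Adj t u → M 0 ≠ u → M 2 ≠ u →
      R.line 0 M = R.line 0 (Mf u) := by
    intro M hM h1 u hu hu0 hu2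
    obtain ⟨a1, a2, a3, a4, a5⟩ := hMf u hu
    have hM0 : A.Adj t (M 0) := h1 ▸ A.symm (hM.1 0 (by omega))
    have hM2 : A.Adj t (M 2) := h1 ▸ hM.1 1 (by omega)
    have hne : M 2 ≠ M 0 := hM.2 0 (by omega)
    have hA0 : A.Adj t (Mf u 0) := a3 ▸ A.symm (a1.1 0 (by omega))
    have hA2 : A.Adj t (Mf u 2) := a3 ▸ a1.1 1 (by omega)
    have hne' : Mf u 2 ≠ Mf u 0 := a1.2 0 (by omega)
    rcases Amal.nbr_cases hu hM0 hM2 hu0.symm hu2.symm hne.symm hA0 with e | e | e
    · exact absurd e a4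
    · rcases Amal.nbr_cases hu hM0 hM2 hu0.symm hu2.symm hne.symm hA2 with e' | e' | e'
      · exact absurd e' a5
      · exact absurd (e'.trans e.symm) hne'
      · refine (line_congr fun i hi => ?_).symm
        rcases (by omega : i = 0 ∨ i = 1 ∨ i = 2) with rfl | rfl | rfl
        exacts [e, a3.trans h1.symm, e']
    · rcases Amal.nbr_cases hu hM0 hM2 hu0.symm hu2.symm hne.symm hA2 with e' | e' | e'
      · exact absurd e' a5
      · rw [← line_rev H a1 a2]
        refine (line_congr fun i hi => ?_).symm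
        rcases (by omega : i = 0 ∨ i = 1 ∨ i = 2) with rfl | rfl | rfl
        exacts [e', a3.trans h1.symm, e]
      · exact absurd (e'.trans e.symm) hne'
  rw [hf hL rfl hw hw0.symm hw2.symm]
  refine triangle hNC H.isRoot hts (fun u => R.line 0 (Mf u)) ?_ ?_ ?_ ?_ ?_ hw
  · intro u hu
    obtain ⟨a1, a2, a3, -⟩ := hMf u hu
    exact line_mem H a1 a2 (n := 1) (by omega)
      (by rw [← a3]; exact Amal.reach_adj (a1.1 0 (by omega)))
  · exact fun u hu => line_sq H (hMf u hu).1 (hMf u hu).2.1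
  · exact fun u hu => line_ne_one hA H (hMf u hu).1 (hMf u hu).2.1
  · intro g hg u hu
    obtain ⟨a1, a2, a3, a4, a5⟩ := hMf u hu
    rw [line_smul H a1 a2 g]
    exact hf (Amal.arc_smul g a1) (by rw [a3, hg]) (Amal.adj_of_smul hg hu)
      (Amal.smul_adj_ne a4) (Amal.smul_adj_ne a5)
  · intro u v x hu hv hx huv hux hvx
    obtain ⟨N, hN, n0, n1, n2⟩ := Amal.exists_arc_two (A.symm hv) hx hvx.symm
    obtain ⟨N', hN', m0, m1, m2⟩ := Amal.exists_arc_two (A.symm hv) hu huv
    have hNs : A.side (N 0) = !s := n0 ▸ hnb hv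
    have e := line_share H hN hN' hNs (m0.trans n0.symm) (m1.trans n1.symm)
    show R.line 0 (Mf u) * R.line 0 (Mf x) = 1 ∨ _
    rw [← hf hN n1 hu (n0 ▸ huv.symm) (n2 ▸ hux.symm),
      ← hf hN' m1 hx (m0 ▸ hvx) (m2 ▸ hux)]
    rcases e with e | e
    · left
      rw [e, line_sq H hN hNs]
    · right
      rw [e, ← mul_assoc, line_sq H hN hNs, one_mul, n0]

/-- The product of two roots beyond the ends of a line of length two. -/
theorem three_comm (hA : A.CharTwo) (H : R.Odd3 0) (hNC : A.NoCen s) {a t b w o γ : V}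
    (ha : A.side a = !s) (hat : A.Adj a t) (htb : A.Adj t b) (hab : b ≠ a) (hw : A.Adj t w)
    (hwa : w ≠ a) (hwb : w ≠ b) (ho : A.Kid a t o) (hγ : A.Kid b t γ) :
    R.root o * R.root γ * R.root o * R.root γ = R.root w ∧
      R.root o * R.root (R.root γ • o) = R.root w := by
  obtain ⟨L, hL, e0, e1, e2⟩ := Amal.exists_arc_two hat htb hab
  subst e0 e1 e2
  have := three_line hA H hNC hL ha hw hwa hwb
  rw [line_eq H hL ha ho hγ] at this
  exact ⟨this, by rw [← comm2_eq H hL ha ho γ hγ, this]⟩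

/-- Two root families with critical length three have the same roots. -/
theorem roots_eq (hA : A.CharTwo) (H : R.Odd3 0) {S : Fam A s} (H' : S.Odd3 0) (hNC : A.NoCen s)
    {w : V} (hws : A.side w = !s) : R.root w = S.root w := by
  obtain ⟨t, ht⟩ := A.exists_adj w
  have hts : A.side t = s := side_nbr hws ht
  obtain ⟨u, v, hu, hv, huw, hvw, huv⟩ := Amal.exists_two_others (A.symm ht)
  have hus : A.side u = !s := by rw [A.side_adj hu, hts]
  have hvs : A.side v = !s := by rw [A.side_adj hv, hts]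
  obtain ⟨o, ho⟩ := exists_kid (A.symm hu)
  obtain ⟨γ, hγ⟩ := exists_kid (A.symm hv)
  obtain ⟨L, hL, e0, e1, e2⟩ := Amal.exists_arc_two (A.symm hu) hv huv.symm
  subst e0 e1 e2
  have hos := kid_side hus ho
  have hγs := kid_side hvs hγ
  obtain ⟨m, hm, hm1, hmo, hoc⟩ := id ho
  obtain ⟨n, hn, hn1, hnγ, hγc⟩ := id hγ
  obtain ⟨m', hm', hm'm, hm'1⟩ := Amal.exists_third hm (A.symm hu) hm1
  obtain ⟨n', hn', hn'n, hn'1⟩ := Amal.exists_third hn (A.symm hv) hn1
  -- all four roots swap the two further neighbours at the other end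
  have hswap : ∀ {T : Fam A s}, T.Odd3 0 → (T.root γ • L 0 = L 0 ∧ T.root γ • m = m') ∧
      (T.root o • L 2 = L 2 ∧ T.root o • n = n') := by
    intro T HT
    have f0 : T.root γ • L 0 = L 0 := kid_fix_end HT hL hus hγ (by omega)
    have f2 : T.root o • L 2 = L 2 := kid_fix HT hL hus ho le_rfl
    refine ⟨⟨f0, Amal.swap_of_not_mem_Q f0 (A.symm hu) hm hm' hm1.symm hm'1.symm hm'm.symm
      (kid_fix_end HT hL hus hγ (i := 1) (by omega)) (kid_not_mem HT hL hus hγ)⟩, f2,
      Amal.swap_of_not_mem_Q f2 (A.symm hv) hn hn' hn1.symm hn'1.symm hn'n.symm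
        (kid_fix HT hL hus ho (i := 1) (by omega)) ?_⟩
    have := kid_not_mem HT (line_rev_arc hL) (line_end HT hL hus) (γ := o) (by simpa using ho)
    simpa using this
  have hR := (three_comm hA H hNC hus (A.symm hu) hv huv.symm (A.symm ht) huw.symm hvw.symm ho hγ).2
  have hS := (three_comm hA H' hNC hvs (A.symm hv) hu huv (A.symm ht) hvw.symm huw.symm hγ ho).2
  obtain ⟨⟨fa, fam⟩, -, -⟩ := hswap H'
  obtain ⟨⟨fb, fbm⟩, -, -⟩ := hswap H
  obtain ⟨-, fc, fcn⟩ := hswap H
  obtain ⟨-, fd, fdn⟩ := hswap H'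
  set M := R.root o * S.root γ * R.root o * S.root γ with hM
  have hM1 : M = R.root o * R.root (S.root γ • o) := by
    rw [hM, ← R.root_conj H.isRoot hos (g := S.root γ) rfl, inv_root H'.isRoot hγs]
    simp only [mul_assoc]
  have hM2 : M = S.root (R.root o • γ) * S.root γ := by
    rw [hM, ← S.root_conj H'.isRoot hγs (g := R.root o) rfl, inv_root H.isRoot hos]
  have hMR : M = R.root w ∨ M = R.root (L 2) := by
    rw [hM1]
    by_cases e : S.root γ • o = R.root γ • o
    · left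
      rw [e, hR]
    right
    rw [← root_mul_root H.isRoot (side_nbr hus hm') (fbm ▸ A.adj_smul _ hmo) (A.symm hm')
      (fam ▸ A.adj_smul _ hmo) (fun e' => hoc (MulAction.injective _ (e'.trans fb.symm))) (Ne.symm e)
      (fun e' => hoc (MulAction.injective _ (e'.symm.trans fa.symm))), ← mul_assoc, hR,
      root_mul_root H.isRoot hts (A.symm ht) hu hv huw.symm hvw.symm huv]
  have hcomm : S.root (S.root o • γ) * S.root γ = S.root γ * S.root (S.root o • γ) := by
    have hsq : S.root w * S.root w = 1 := S.root_sq H'.isRoot hws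
    have h1 := inv_eq_of_mul_eq_one_right hsq
    rw [← hS, mul_inv_rev, inv_root H'.isRoot hγs,
      inv_root H'.isRoot ((A.side_smul _ _).trans hγs)] at h1
    exact h1
  have hMS : M = S.root w ∨ M = S.root (L 0) := by
    rw [hM2]
    by_cases e : R.root o • γ = S.root o • γ
    · left
      rw [e, hcomm, hS]
    right
    rw [← root_mul_root H'.isRoot (side_nbr hvs hn') (A.symm hn') (fdn ▸ A.adj_smul _ hnγ)
      (fcn ▸ A.adj_smul _ hnγ) (fun e' => hγc (MulAction.injective _ (e'.symm.trans fd.symm)))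
      (fun e' => hγc (MulAction.injective _ (e'.symm.trans fc.symm))) (Ne.symm e), mul_assoc, hcomm,
      hS, root_mul_root H'.isRoot hts hv (A.symm ht) hu hvw huv.symm huw.symm]
  -- an element fixing one neighbour of `t` and exchanging the others
  have hexch : ∀ {p q r : V}, A.Adj (L 1) p → A.Adj (L 1) q → A.Adj (L 1) r → p ≠ q → p ≠ r →
      q ≠ r → ∃ g : G, g • p = p ∧ g • q = r := by
    intro p q r hp hq hr hpq hpr hqr
    obtain ⟨g, hgt, hgp, y, hy, hgy⟩ := A.swap hp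
    exact ⟨g, hgp, Amal.swap_of_not_mem_Q hgt hp hq hr hpq hpr hqr hgp fun h => hgy (h.2 y hy)⟩
  rcases hMR with e | e <;> rcases hMS with e' | e' <;> rw [e] at e'
  · exact e'
  · exfalso
    obtain ⟨g, hg, hg'⟩ := hexch hu (A.symm ht) hv huw huv hvw.symm
    refine root_ne H.isRoot hts (A.symm ht) hv hvw.symm ?_
    rw [← R.root_conj H.isRoot hws hg', e', S.root_conj H'.isRoot hus hg]
  · exfalso
    obtain ⟨g, hg, hg'⟩ := hexch (A.symm ht) hv hu hvw.symm huw.symm huv.symm
    refine root_ne H.isRoot hts hu hv huv ?_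
    rw [← R.root_conj H.isRoot hvs hg', e', S.root_conj H'.isRoot hws hg]
  · exfalso
    obtain ⟨g, hg, hg'⟩ := hexch hu hv (A.symm ht) huv huw hvw
    refine root_ne H.isRoot hts hv (A.symm ht) hvw ?_
    rw [← R.root_conj H.isRoot hvs hg', e', S.root_conj H'.isRoot hus hg]

/-- A product of two roots through two neighbours flips the children on the other side. -/
theorem flip (hA : A.CharTwo) (H : R.Odd3 0) (hNC : A.NoCen s) {w v₁ o₁ o₂ n₁ n₂ x₁ x₂ p q : V}
    (hw : A.side w = !s) (hv : A.Adj w v₁) (h1 : A.Adj v₁ o₁) (h2 : A.Adj v₁ o₂) (h1w : o₁ ≠ w)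
    (h2w : o₂ ≠ w) (h12 : o₁ ≠ o₂) (hn1 : A.Adj o₁ n₁) (hn1v : n₁ ≠ v₁) (hx1 : A.Adj n₁ x₁)
    (hx1o : x₁ ≠ o₁) (hn2 : A.Adj o₂ n₂) (hn2v : n₂ ≠ v₁) (hx2 : A.Adj n₂ x₂) (hx2o : x₂ ≠ o₂)
    (hp : A.Adj w p) (hpv : p ≠ v₁) (hq : A.Adj p q) (hqw : q ≠ w) :
    (R.root x₂ * R.root x₁) • p = p ∧ (R.root x₂ * R.root x₁) • q ≠ q := by
  have hvs : A.side v₁ = s := side_nbr hw hv
  have hos : ∀ {o}, A.Adj v₁ o → A.side o = !s := fun {o} ho => by rw [A.side_adj ho, hvs]
  have hxs : ∀ {o n x}, A.Adj v₁ o → A.Adj o n → A.Adj n x → A.side x = !s := fun {o n x} ho hn hx => by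
    rw [A.side_adj hx, A.side_adj hn, hos ho, Bool.not_not]
  obtain ⟨p', hp', hp'p, hp'v⟩ := Amal.exists_third hp hv hpv
  have hone : ∀ {o n x}, A.Adj v₁ o → o ≠ w → A.Adj o n → n ≠ v₁ → A.Adj n x → x ≠ o →
      R.root x • p = p' ∧ R.root x • p' = p ∧ R.root x • w = w := by
    intro o n x ho how hn hnv hx hxo
    have hns : A.side n = s := side_nbr (hos ho) hn
    have hout := three_out H hns hx (A.symm hn) (A.symm ho) (A.symm hv) hxo hnv.symm how.symm
    have f0 : R.root x • w = w := three_fix H (hxs ho hn hx) le_rfl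
      (Amal.reach_cons (A.symm hx) (Amal.reach_cons (A.symm hn) (Amal.reach_cons (A.symm ho)
        (Amal.reach_adj (A.symm hv)))))
    have f1 : R.root x • v₁ = v₁ := three_fix H (hxs ho hn hx) (n := 3) (by omega)
      (Amal.reach_cons (A.symm hx) (Amal.reach_cons (A.symm hn) (Amal.reach_adj (A.symm ho))))
    exact ⟨Amal.swap_of_not_mem_Q f0 hv hp hp' hpv.symm hp'v.symm hp'p.symm f1 hout,
      Amal.swap_of_not_mem_Q f0 hv hp' hp hp'v.symm hpv.symm hp'p f1 hout, f0⟩
  obtain ⟨g1, g1', g1w⟩ := hone h1 h1w hn1 hn1v hx1 hx1o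
  obtain ⟨g2, g2', g2w⟩ := hone h2 h2w hn2 hn2v hx2 hx2o
  refine ⟨by rw [mul_smul, g1, g2'], fun hgq => ?_⟩
  have hqs : A.side q = !s := by rw [A.side_adj hq, side_nbr hw hp]
  have hi1 : A.side x₁ = !s := hxs h1 hn1 hx1
  have hi2 : A.side x₂ = !s := hxs h2 hn2 hx2
  have hkq : A.Kid w v₁ q := ⟨p, hp, hpv, hq, hqw⟩
  have e1 := (three_comm hA H hNC (hos h1) (A.symm h1) (A.symm hv) h1w.symm h2 h12.symm h2w
    ⟨n₁, hn1, hn1v, hx1, hx1o⟩ hkq).1
  have e2 := (three_comm hA H hNC (hos h2) (A.symm h2) (A.symm hv) h2w.symm h1 h12 h1w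
    ⟨n₂, hn2, hn2v, hx2, hx2o⟩ hkq).1
  have hrq := R.root_sq H.isRoot hqs
  have a1 : R.root x₁ * R.root q * R.root x₁ = R.root o₂ * R.root q := by
    rw [← e1, mul_assoc _ (R.root q) (R.root q), hrq, mul_one]
  have a2 : R.root x₂ * R.root q * R.root x₂ = R.root o₁ * R.root q := by
    rw [← e2, mul_assoc _ (R.root q) (R.root q), hrq, mul_one]
  have hc : Commute (R.root x₂) (R.root o₂) := R.root_comm H.isRoot (hos h2)
    (three_fix H hi2 (n := 2) (by omega) (Amal.reach_cons (A.symm hx2) (Amal.reach_adj (A.symm hn2))))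
  have key := R.root_conj H.isRoot hqs hgq
  rw [mul_inv_rev, inv_root H.isRoot hi1, inv_root H.isRoot hi2] at key
  refine R.root_ne_one H.isRoot hw ?_
  have : R.root x₂ * R.root x₁ * R.root q * (R.root x₁ * R.root x₂) =
      R.root o₂ * R.root o₁ * R.root q := by
    calc R.root x₂ * R.root x₁ * R.root q * (R.root x₁ * R.root x₂)
        = R.root x₂ * (R.root x₁ * R.root q * R.root x₁) * R.root x₂ := by group
      _ = (R.root x₂ * R.root o₂) * R.root q * R.root x₂ := by rw [a1]; group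
      _ = R.root o₂ * (R.root x₂ * R.root q * R.root x₂) := by rw [hc.eq]; group
      _ = R.root o₂ * R.root o₁ * R.root q := by rw [a2]; group
  rw [this, root_mul_root H.isRoot hvs h2 h1 (A.symm hv) h12.symm h2w h1w] at key
  exact mul_eq_right.1 key

end Fam

end Cfsg.Agent.Goldschmidt
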