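import Cfsg.Agent.Lib.Goldschmidt.General

/-!
# Amalgams with central involutions on both sides
-/

set_option autoImplicit false

namespace Cfsg.Agent.Goldschmidt

open MulAction

variable {G V : Type*} [Group G] [MulAction G V] {A : Amal G V} {s s' : Bool}

namespace Fam

variable (R : Fam A s)

theorem low_succ {b : ℕ} (hR : R.Low b) (h : ∀ P, ¬R.Crit b P) : R.Low (b + 1) := by
  intro u x z hu hx n hn hr
  rcases Nat.lt_or_eq_of_le (Nat.lt_succ_iff.1 hn) with hlt | rfl
  · exact hR hu hx hlt hr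
  obtain ⟨P, k, hk, hP, rfl, rfl⟩ := Amal.exists_arc_of_reach hr
  rcases Nat.lt_or_eq_of_le hk with hlt | rfl
  · exact hR hu hx hlt (Amal.arc_reach hP (Nat.zero_le _) le_rfl)
  · exact by_contra fun hm => h P ⟨hP, hu, x, hx, hm⟩

/-- The commutator of the two ends of a critical arc. -/
theorem commutator {b : ℕ} {P : ℕ → V} (hR : R.Low b) (h : R.Crit b P) (S : Fam A s')
    (hS : S.Low b) (he : A.side (P b) = s') {x w : V} (hx : A.Adj (P 0) x) (hx1 : x ≠ P 1)
    (hw : A.Adj (P b) w) (hw1 : w ≠ P (b - 1)) :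
    R.el (P 0) x * S.el (P b) w * R.el (P 0) x * S.el (P b) w = R.el (P 0) (P 1) := by
  obtain ⟨-, -, hout⟩ := R.transvection hR h S hS he
  have hb := R.crit_pos h
  have h01 : A.Adj (P 0) (P 1) := h.1.1 0 hb
  have hs := h.2.1
  obtain ⟨x', hx', h1, h2⟩ := Amal.exists_third h01 hx hx1.symm
  have hfix : ∀ i ≤ b, S.el (P b) w • P i = P i := fun i hi =>
    low_fix hS he hw hb le_rfl (Amal.arc_reach_le h.1 le_rfl hi (by omega) (by omega))
  have e1 := R.conj_eq hs hx (hfix 0 (Nat.zero_le _)) (Amal.swap_of_not_mem_Q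
    (hfix 0 (Nat.zero_le _)) h01 hx hx' hx1.symm h1.symm h2.symm (hfix 1 hb) (hout w hw hw1))
  rw [S.inv_el he hw] at e1
  rw [← R.el_mul_el hs hx hx' h01 h2.symm hx1 h1, ← e1]
  simp only [mul_assoc]

end Fam

theorem Amal.exists_crit_min {s : Bool} (R : Fam A s) (Z : Fam A !s) (v : V) :
    ∃ b, R.Low b ∧ Z.Low b ∧ ((∃ P, R.Crit b P) ∨ ∃ P, Z.Crit b P) := by
  obtain ⟨x, hx⟩ := A.exists_side v s
  obtain ⟨y, hy⟩ := A.exists_side v (!s)
  obtain ⟨b₁, P₁, hR, h₁⟩ := R.exists_crit hx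
  obtain ⟨b₂, P₂, hZ, h₂⟩ := Z.exists_crit hy
  rcases le_total b₁ b₂ with h | h
  · exact ⟨b₁, hR, Fam.low_mono hZ h, Or.inl ⟨P₁, h₁⟩⟩
  · exact ⟨b₂, Fam.low_mono hR h, hZ, Or.inr ⟨P₂, h₂⟩⟩

/-- Two separated families force a bound. -/
theorem Amal.bounded_of_sib (hA : A.CharTwo) (R : Fam A s) (R' : Fam A !s) (hsR : R.Sib)
    (hsR' : R'.Sib) (v : V) : A.Bounded := by
  obtain ⟨b, hR, hR', hc⟩ := Amal.exists_crit_min R R' v
  rcases Nat.lt_or_ge b 2 with hb | hb
  · rcases hc with ⟨P, h⟩ | ⟨P, h⟩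
    · obtain rfl : b = 1 := by
        have := R.crit_pos h
        omega
      exact R.small_bound h
    · obtain rfl : b = 1 := by
        have := R'.crit_pos h
        omega
      exact R'.small_bound h
  rcases hc with ⟨P, h⟩ | ⟨P, h⟩
  · exact (R.shift hA R' hR hR' hsR' h hb).elim
  · obtain ⟨R₂, hR₂, hs₂⟩ : ∃ R₂ : Fam A !(!s), R₂.Low b ∧ R₂.Sib := by
      rw [Bool.not_not]
      exact ⟨R, hR, hsR⟩
    exact (R'.shift hA R₂ hR' hR₂ hs₂ h hb).elim

/-- Two root families on opposite sides, the first one critical: a bound. -/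
theorem Amal.bounded_of_roots_aux (hA : A.CharTwo) (R : Fam A s) (hr : R.IsRoot) (Z : Fam A s')
    (hss : s' = !s) (hz : Z.IsRoot) {b : ℕ} {P : ℕ → V} (hR : R.Low b) (hZ : Z.Low b)
    (h : R.Crit b P) : A.Bounded := by
  subst hss
  obtain ⟨hP, hs, -⟩ := id h
  have hb := R.crit_pos h
  rcases Nat.lt_or_ge b 2 with hb2 | hb2
  · obtain rfl : b = 1 := by omega
    exact R.small_bound h
  exfalso
  have hnn : ∀ {x : V}, A.side x = s → A.side x = !(!s) := fun hx => by rw [hx, Bool.not_not]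
  rcases Nat.even_or_odd b with hev | hodd
  swap
  · obtain ⟨k, rfl⟩ : ∃ k, b = k + 3 :=
      ⟨b - 3, by obtain ⟨m, hm⟩ := hodd; omega⟩
    have hend : A.side (P (k + 3)) = !s := by rw [Amal.side_of_odd hP le_rfl hodd, hs]
    have w1 : A.Wit (k + 3) (!s) := hend ▸ R.wit_of_crit hR h
    have w2 : A.Wit (k + 3) s := R.wit_rev_of_crit hR h Z hZ hend
    have ht : A.Trans (k + 3) s := Amal.trans_of_wit (fun l _ hl e => by
      by_cases he : e = s
      · exact he ▸ Amal.wit_le w2 hl.le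
      · rw [Bool.eq_not.2 he]
        exact Amal.wit_le w1 hl.le) s
    obtain ⟨e1, -, -⟩ := R.transvection hR h Z hZ hend
    rw [show k + 3 - 1 = k + 2 by omega] at e1
    have hk2 : A.side (P (k + 2)) = s := by
      rw [A.side_adj (A.symm (hP.1 (k + 2) (by omega))), hend, Bool.not_not]
    obtain ⟨Q, hQ, hQe⟩ := Amal.exists_arc_ext (Amal.arc_shift hP (k := 2) (m := k + 1) (by omega)) 2
    have hQ0 : Q 0 = P 2 := hQe 0 (by omega)
    have hQ1 : Q 1 = P 3 := hQe 1 (by omega)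
    have hQk : Q k = P (k + 2) := (hQe k (by omega)).trans (congrArg P (Nat.add_comm 2 k))
    have h2s : A.side (P 2) = s := (Amal.side_of_even hP (by omega) ⟨1, rfl⟩).trans hs
    have hQc : R.Crit (k + 3) Q :=
      R.crit_of_trans h ht (Amal.arc_le hQ (by omega)) (hQ0 ▸ h2s)
    have hQend : A.side (Q (k + 3)) = !s := by
      rw [Amal.side_of_odd hQ (by omega) hodd, hQ0, h2s]
    obtain ⟨-, hout, -⟩ := R.transvection hR hQc Z hZ hQend
    have h21 : A.Adj (P 2) (P 1) := A.symm (hP.1 1 (by omega))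
    have := hout (P 1) (by rwa [hQ0]) (by rw [hQ1]; exact (hP.2 1 (by omega)).symm)
    rw [hQ0, R.el_eq_root hr h2s h21, ← R.el_eq_root hr hs (hP.1 0 (by omega)), e1,
      Z.el_eq_root hz hend (A.symm (hP.1 (k + 2) (by omega)))] at this
    refine this (Fam.root_mem hZ hz (hnn hk2) hb (n := 3) (by omega) ?_)
    rw [← hQk]
    exact Amal.arc_reach_le hQ (by omega) (by omega) (by omega) (by omega)
  rcases Nat.lt_or_ge b 4 with hb4 | hb4
  swap
  · exact R.even_false hA hr hR h hev hb4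
  obtain rfl : b = 2 := by
    obtain ⟨m, hm⟩ := hev
    omega
  -- the names of the vertices
  set α := P 0 with hα
  set β := P 1 with hβ
  set α' := P 2 with hα'
  have hαβ : A.Adj α β := hP.1 0 (by omega)
  have hβα' : A.Adj β α' := hP.1 1 (by omega)
  have hαne : α' ≠ α := hP.2 0 (by omega)
  have hα's : A.side α' = s := (Amal.side_of_even hP le_rfl ⟨1, rfl⟩).trans hs
  have hβs : A.side β = !s := by rw [A.side_adj hαβ, hs]
  obtain ⟨-, houtα, -⟩ := R.transvection hR h R hR hα's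
  obtain ⟨ν, ν', hν, hν', hνβ, hν'β, hνν'⟩ := Amal.exists_two_others (A.symm hβα')
  have hνs : A.side ν = !s := by rw [A.side_adj hν, hα's]
  obtain ⟨w, hw, hwα'⟩ := Amal.exists_other (A.symm hν)
  obtain ⟨α₀, hα₀, hα₀α, hα₀α'⟩ := Amal.exists_third (A.symm hαβ) hβα' hαne.symm
  have hα₀s : A.side α₀ = s := by rw [A.side_adj hα₀, hβs, Bool.not_not]
  obtain ⟨x, hx, hxβ⟩ := Amal.exists_other hαβ
  set z := Z.el ν w with hzdef
  -- values off `β` at second neighbours swap `ν` and `ν'`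
  have hsw : ∀ {γ y : V}, A.Adj β γ → γ ≠ α' → A.Adj γ y → y ≠ β →
      R.el γ y • α' = α' ∧ R.el γ y • ν = ν' ∧ R.el γ y • ν' = ν := by
    intro γ y hγ hγne hy hyβ
    have hγs : A.side γ = s := by rw [A.side_adj hγ, hβs, Bool.not_not]
    obtain ⟨Q, hQ, h0, h1, h2⟩ := Amal.exists_arc_two (A.symm hγ) hβα' hγne.symm
    have hQc := R.crit_of_trans h (Amal.trans_two hA s) hQ (h0 ▸ hγs)
    obtain ⟨-, hout, -⟩ := R.transvection hR hQc R hR (h2 ▸ hα's)
    have hnQ := hout y (by rwa [h0]) (by rwa [h1])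
    rw [h0, h2] at hnQ
    have f2 : R.el γ y • α' = α' := Fam.low_fix hR hγs hy (by omega) le_rfl
      (Amal.reach_cons (A.symm hγ) (Amal.reach_adj hβα'))
    have f1 : R.el γ y • β = β :=
      Fam.low_fix hR hγs hy (by omega) (n := 1) (by omega) (Amal.reach_adj (A.symm hγ))
    exact ⟨f2,
      Amal.swap_of_not_mem_Q f2 (A.symm hβα') hν hν' hνβ.symm hν'β.symm hνν' f1 hnQ,
      Amal.swap_of_not_mem_Q f2 (A.symm hβα') hν' hν hν'β.symm hνβ.symm hνν'.symm f1 hnQ⟩
  have hz1 : z • β = β :=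
    Fam.low_fix hZ hνs hw (by omega) le_rfl (Amal.reach_cons (A.symm hν) (Amal.reach_adj
      (A.symm hβα')))
  have hra : R.el α β = R.root β := R.el_eq_root hr hs hαβ
  -- the commutator of values at `α` and at the third neighbour of `β`
  have hkk : ∀ {y : V}, A.Adj α₀ y → y ≠ β →
      R.el α x * R.el α₀ y * R.el α x * R.el α₀ y = R.root β := by
    intro y hy hyβ
    obtain ⟨Q, hQ, h0, h1, h2⟩ := Amal.exists_arc_two hαβ hα₀ hα₀α
    have hQc := R.crit_of_trans h (Amal.trans_two hA s) hQ (h0 ▸ hs)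
    have := R.commutator hR hQc R hR (h2 ▸ hα₀s) (x := x) (w := y) (by rwa [h0]) (by rwa [h1])
      (by rwa [h2]) (by rwa [show 2 - 1 = 1 from rfl, h1])
    rwa [h0, h1, h2, hra] at this
  by_cases hZc : ∃ Q, Z.Crit 2 Q
  · obtain ⟨Q₂, hQ₂⟩ := hZc
    obtain ⟨Q, hQ, h0, h1, h2⟩ := Amal.exists_arc_two (A.symm hν) (A.symm hβα') hνβ.symm
    have hQc := Z.crit_of_trans hQ₂ (Amal.trans_two hA _) hQ (h0 ▸ hνs)
    obtain ⟨-, hout, -⟩ := Z.transvection hZ hQc Z hZ (h2 ▸ hβs)
    have hzQ := hout w (by rwa [h0]) (by rwa [h1])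
    rw [h0, h2] at hzQ
    have hz' : z • α' = α' :=
      Fam.low_fix hZ hνs hw (by omega) (n := 1) (by omega) (Amal.reach_adj (A.symm hν))
    have hzα : z • α = α₀ := Amal.swap_of_not_mem_Q hz1 hβα' (A.symm hαβ) hα₀ hαne hα₀α'.symm
      hα₀α.symm hz' hzQ
    have e1 : z * R.el α x * z⁻¹ = R.el α₀ (z • x) := R.conj_eq hs hx hzα rfl
    rw [Z.inv_el hνs hw] at e1
    have k1 := hkk (y := z • x) (hzα ▸ A.adj_smul z hx)
      (fun e => hxβ (MulAction.injective z (e.trans hz1.symm)))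
    obtain ⟨f2, fν, -⟩ := hsw (A.symm hαβ) hαne.symm hx hxβ
    have e2 : R.el α x * z * (R.el α x)⁻¹ = Z.el ν' (R.el α x • w) := Z.conj_eq hνs hw fν rfl
    rw [R.inv_el hs hx] at e2
    obtain ⟨Q', hQ', h0', h1', h2'⟩ := Amal.exists_arc_two (A.symm hν') hν hνν'
    have hν's : A.side ν' = !s := by rw [A.side_adj hν', hα's]
    have hQc' := Z.crit_of_trans hQ₂ (Amal.trans_two hA _) hQ' (h0' ▸ hν's)
    have hw' : A.Adj ν' (R.el α x • w) := fν ▸ A.adj_smul _ hw
    have k2 := Z.commutator hZ hQc' Z hZ (h2' ▸ hνs) (x := R.el α x • w) (w := w) (by rwa [h0'])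
      (by rw [h1']; exact fun e => hwα' (MulAction.injective _ (e.trans f2.symm)))
      (by rwa [h2']) (by rwa [show 2 - 1 = 1 from rfl, h1'])
    rw [h0', h1', h2', Z.el_eq_root hz hν's (A.symm hν'), ← e2] at k2
    rw [← e1] at k1
    have hreq : R.root β = Z.root α' := by
      rw [← k1, ← k2]
      simp only [← hzdef, mul_assoc]
    refine R.root_ne_one hr hβs ?_
    have hbot := A.faithful hβα' (Subgroup.zpowers (R.root β))
      (fun y hy => ?_) (fun g hg y hy => ?_) (fun g hg y hy => ?_)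
    · exact Subgroup.zpowers_eq_bot.1 hbot
    · obtain ⟨m, rfl⟩ := Subgroup.mem_zpowers_iff.1 hy
      have : R.root β ∈ stabilizer G β ⊓ stabilizer G α' := by
        rw [← R.el_eq_root hr hα's (A.symm hβα')]
        exact ⟨(R.mem_left hα's (A.symm hβα')).2 β (A.symm hβα'),
          (R.mem_left hα's (A.symm hβα')).1⟩
      exact Subgroup.zpow_mem _ this m
    · obtain ⟨m, rfl⟩ := Subgroup.mem_zpowers_iff.1 hy
      rw [((R.root_comm hr hβs hg).zpow_right m).eq, mul_inv_cancel_right]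
      exact ⟨m, rfl⟩
    · obtain ⟨m, rfl⟩ := Subgroup.mem_zpowers_iff.1 hy
      rw [hreq, ((Z.root_comm hz (hnn hα's) hg).zpow_right m).eq, mul_inv_cancel_right]
      exact ⟨m, rfl⟩
  · have hZ3 : Z.Low 3 := Z.low_succ hZ (fun Q hQ => hZc ⟨Q, hQ⟩)
    have key : ∀ {γ y : V}, A.Adj β γ → γ ≠ α' → A.Adj γ y → y ≠ β →
        z * R.el γ y * z = R.el γ y * R.root β := by
      intro γ y hγ hγne hy hyβ
      have hγs : A.side γ = s := by rw [A.side_adj hγ, hβs, Bool.not_not]
      obtain ⟨f2, fν, -⟩ := hsw hγ hγne hy hyβ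
      have hzγ : z • γ = γ := Fam.low_fix hZ3 hνs hw (by omega) (n := 3) le_rfl
        (Amal.reach_cons (A.symm hν) (Amal.reach_cons (A.symm hβα') (Amal.reach_adj hγ)))
      have e1 : z * R.el γ y * z⁻¹ = R.el γ (z • y) := R.conj_eq hγs hy hzγ rfl
      rw [Z.inv_el hνs hw] at e1
      rw [e1, ← R.el_eq_root hr hγs (A.symm hγ)]
      have hzy : z • y ≠ y := by
        intro e
        have hcm : Commute z (R.el γ y) := R.comm hγs hy hzγ e
        have hroot := Z.root_conj hz (g := R.el γ y) (x := w) (y := R.el γ y • w)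
          (by rw [A.side_adj hw, hνs]) rfl
        rw [← Z.el_eq_root hz hνs hw, ← hzdef, hcm.symm.eq, mul_inv_cancel_right,
          hzdef, Z.el_eq_root hz hνs hw] at hroot
        refine Z.root_siblings hA hz (hnn hα's) hν hν' hνν' hw hwα' (fν ▸ A.adj_smul _ hw)
          (fun e' => hwα' (MulAction.injective _ (e'.trans f2.symm))) hroot
      refine (R.el_mul_el hγs hy (A.symm hγ) (Amal.adj_of_smul hzγ hy) hyβ hzy.symm ?_).symm
      exact fun e => hyβ (MulAction.injective z (e.symm.trans hz1.symm))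
    obtain ⟨y, hy, hyβ⟩ := Amal.exists_other (A.symm hα₀)
    obtain ⟨fa, faν, -⟩ := hsw (A.symm hαβ) hαne.symm hx hxβ
    obtain ⟨fb, -, fbν'⟩ := hsw hα₀ hα₀α' hy hyβ
    obtain ⟨-, fbν, -⟩ := hsw hα₀ hα₀α' hy hyβ
    obtain ⟨-, -, faν'⟩ := hsw (A.symm hαβ) hαne.symm hx hxβ
    have k1 := hkk hy hyβ
    set a := R.el α x with ha
    set c := R.el α₀ y with hc
    have hpν : (a * c) • ν = ν := by rw [mul_smul, fbν, faν']
    have hzz : z * z = 1 := Z.sq hνs hw
    have hrc : Commute c (R.root β) := R.root_comm hr hβs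
      (Fam.low_fix hR hα₀s hy (by omega) (n := 1) (by omega) (Amal.reach_adj (A.symm hα₀)))
    have hr2 : R.root β * R.root β = 1 := R.root_sq hr hβs
    have hzp : z * (a * c) * z = a * c := by
      calc z * (a * c) * z = z * a * (z * z) * c * z := by rw [hzz, mul_one, ← mul_assoc]
        _ = (z * a * z) * (z * c * z) := by group
        _ = a * R.root β * (c * R.root β) := by
          rw [ha, hc, key (A.symm hαβ) hαne.symm hx hxβ, key hα₀ hα₀α' hy hyβ]
        _ = a * R.root β * (R.root β * c) := by rw [hrc.eq]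
        _ = a * (R.root β * R.root β) * c := by group
        _ = a * c := by rw [hr2, mul_one]
    have hpw : (a * c) • w = w := by
      refine Z.fix_of_commute hνs hw hpν ?_
      show a * c * z = z * (a * c)
      calc a * c * z = z * z * (a * c * z) := by rw [hzz, one_mul]
        _ = z * (z * (a * c) * z) := by group
        _ = z * (a * c) := by rw [hzp]
    have hrQ : R.root β ∈ A.Q w := by
      rw [← k1, show a * c * a * c = a * c * (a * c) by group]
      exact (Amal.mul_mem_Q_iff (A.symm hw) hpw hpw hpν hpν).2 Iff.rfl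
    obtain ⟨Q, hQ, h0, h1, h2⟩ := Amal.exists_arc_two hν hw hwα'
    have hws : A.side w = s := by rw [A.side_adj hw, hνs, Bool.not_not]
    have hQc := R.crit_of_trans h (Amal.trans_two hA s) hQ (h0 ▸ hα's)
    obtain ⟨-, hout, -⟩ := R.transvection hR hQc R hR (h2 ▸ hws)
    refine hout β (by rw [h0]; exact A.symm hβα') (by rw [h1]; exact hνβ.symm) ?_
    rwa [h0, h2, R.el_eq_root hr hα's (A.symm hβα')]

/-- Root families on both sides force a bound. -/
theorem Amal.bounded_of_roots (hA : A.CharTwo) (R : Fam A s) (hr : R.IsRoot) (Z : Fam A !s)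
    (hz : Z.IsRoot) (v : V) : A.Bounded := by
  obtain ⟨b, hR, hZ, ⟨P, h⟩ | ⟨P, h⟩⟩ := Amal.exists_crit_min R Z v
  · exact Amal.bounded_of_roots_aux hA R hr Z rfl hz hR hZ h
  · exact Amal.bounded_of_roots_aux hA Z hz R (Bool.not_not s).symm hr hZ hR h

/-- A root family and a separated family on the other side force a bound. -/
theorem Amal.bounded_of_root_sib (hA : A.CharTwo) (R : Fam A s) (hr : R.IsRoot) (N : Fam A !s)
    (hN : N.Sib) (v₀ : V) : A.Bounded := by
  obtain ⟨b, hR, hNb, hor⟩ := Amal.exists_crit_min R N v₀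
  rcases Nat.lt_or_ge b 2 with hb | hb
  · rcases hor with ⟨P, h⟩ | ⟨P, h⟩
    · obtain rfl : b = 1 := by
        have := R.crit_pos h
        omega
      exact R.small_bound h
    · obtain rfl : b = 1 := by
        have := N.crit_pos h
        omega
      exact N.small_bound h
  exfalso
  by_cases hRc : ∃ P, R.Crit b P
  · obtain ⟨P, h⟩ := hRc
    exact R.shift hA N hR hNb hN h hb
  have hR1 : R.Low (b + 1) := R.low_succ hR fun P hP => hRc ⟨P, hP⟩
  obtain ⟨P, h⟩ : ∃ P, N.Crit b P := hor.resolve_left hRc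
  obtain ⟨hP, hs0, -⟩ := id h
  rcases Nat.even_or_odd b with hev | hodd
  swap
  · have hend : A.side (P b) = s := by rw [Amal.side_of_odd hP le_rfl hodd, hs0, Bool.not_not]
    obtain ⟨-, -, hout⟩ := N.transvection hNb h R hR hend
    have hlast : A.Adj (P b) (P (b - 1)) := by
      have := A.symm (hP.1 (b - 1) (by omega))
      rwa [show b - 1 + 1 = b by omega] at this
    obtain ⟨w, hw, hwne⟩ := Amal.exists_other hlast
    exact hout w hw hwne (hR1 hend hw (Nat.lt_succ_self b)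
      (Amal.arc_reach_le hP le_rfl (Nat.zero_le _) (by omega) (by omega)))
  have hend : A.side (P b) = !s := (Amal.side_of_even hP le_rfl hev).trans hs0
  rcases Nat.lt_or_ge b 4 with hb4 | hb4
  · obtain rfl : b = 2 := by
      obtain ⟨m, hm⟩ := hev
      omega
    obtain ⟨e1, -, -⟩ := N.transvection hNb h N hNb hend
    exact hN hs0 hend (hP.1 0 (by omega)) (A.symm (hP.1 1 (by omega))) (hP.2 0 (by omega)).symm e1
  obtain ⟨k, rfl⟩ : ∃ k, b = k + 4 := ⟨b - 4, by omega⟩
  clear hor hb hb4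
  have hfixR : ∀ {x y : V}, A.side x = (!s) → ∀ {n : ℕ}, n ≤ k + 6 → A.Reach n x y →
      R.root x • y = y := fun {x y} hx {n} hn hr' => Fam.root_fix hR1 hr hx (by omega) (by omega) hr'
  have hfixN : ∀ {u x y : V}, A.side u = (!s) → A.Adj u x → ∀ {n : ℕ}, n ≤ k + 4 →
      A.Reach n u y → N.el u x • y = y := fun {u x y} hu hx {n} hn hr' =>
    Fam.low_fix hNb hu hx (by omega) hn hr'
  -- products of roots at second neighbours
  have hID : ∀ {c v₁ v₂ v₃ o : V}, A.side c = (!s) → A.Adj c v₁ → A.Adj c v₂ → A.Adj c v₃ →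
      v₁ ≠ v₂ → v₁ ≠ v₃ → v₂ ≠ v₃ → A.Adj v₁ o → o ≠ c →
      ∃ o', A.Adj v₂ o' ∧ o' ≠ c ∧ R.root o * R.root o' = N.el c v₃ := by
    intro c v₁ v₂ v₃ o hc h1 h2 h3 h12 h13 h23 ho hoc
    obtain ⟨g, hg0, hg1⟩ := A.edge (hP.1 0 (by omega)) h3 (hs0.trans hc.symm)
    have hcr := N.crit_smul h g
    have hge : A.side (g • P (k + 4)) = !s := (A.side_smul g _).trans hend
    have hL : A.Adj (g • P (k + 4)) (g • P (k + 3)) :=
      A.adj_smul g (A.symm (hP.1 (k + 3) (by omega)))
    obtain ⟨e1, -, hout⟩ := N.transvection hNb hcr N hNb hge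
    simp only [hg0, hg1, show k + 4 - 1 = k + 3 by omega] at e1 hout
    obtain ⟨w, w', hw, hw', hwne, hw'ne, hww'⟩ := Amal.exists_two_others hL
    have hn : ∀ i ≤ k + 4, N.el (g • P (k + 4)) w • g • P i = g • P i := fun i hi =>
      hfixN hge hw le_rfl (Amal.arc_reach_le hcr.1 le_rfl hi (by omega) (by omega))
    set n := N.el (g • P (k + 4)) w with hndef
    have hnc : n • c = c := by
      rw [← hg0]
      exact hn 0 (by omega)
    have hn3 : n • v₃ = v₃ := by
      rw [← hg1]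
      exact hn 1 (by omega)
    have hswap : n • v₁ = v₂ :=
      Amal.swap_of_not_mem_Q hnc h3 h1 h2 h13.symm h23.symm h12 hn3 (hout w hw hwne)
    have ho's : A.side o = !s := by rw [A.side_adj ho, A.side_adj h1, hc, Bool.not_not]
    have hv2o : A.Adj v₂ (n • o) := hswap ▸ A.adj_smul n ho
    have hoc' : n • o ≠ c := fun e => hoc (MulAction.injective n (e.trans hnc.symm))
    refine ⟨n • o, hv2o, hoc', ?_⟩
    have hreach : ∀ j ≤ k + 4, A.Reach (j + 2) o (g • P j) := fun j hj =>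
      Amal.reach_cons (A.symm ho) (Amal.reach_cons (A.symm h1) (by
        rw [← hg0]
        exact Amal.arc_reach hcr.1 (Nat.zero_le j) hj))
    have hoE : R.root o • g • P (k + 4) = g • P (k + 4) :=
      hfixR ho's le_rfl (hreach (k + 4) le_rfl)
    have hoE' : R.root o • g • P (k + 3) = g • P (k + 3) :=
      hfixR ho's (by omega) (hreach (k + 3) (by omega))
    have e2 : R.root o * n * (R.root o)⁻¹ = N.el (g • P (k + 4)) (R.root o • w) :=
      N.conj_eq hge hw hoE rfl
    rw [← R.root_conj hr ho's (g := n) rfl, N.inv_el hge hw, ← hndef]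
    rw [inv_eq_of_mul_eq_one_right (R.root_sq hr ho's)] at e2
    rcases Amal.nbr_cases hL hw hw' hwne.symm hw'ne.symm hww'
        (Amal.adj_of_smul hoE hw) with e | e | e
    · exact absurd (MulAction.injective _ (e.trans hoE'.symm)) hwne
    · exfalso
      refine R.root_siblings hA hr hc h1 h2 h12 ho hoc hv2o hoc' ?_
      rw [← R.root_conj hr ho's (g := n) rfl, N.inv_el hge hw, ← hndef]
      rw [e, ← hndef] at e2
      calc R.root o = n * (n * R.root o) := by rw [← mul_assoc, N.sq hge hw, one_mul]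
        _ = n * (R.root o * n * R.root o * R.root o) := by rw [e2]
        _ = n * R.root o * n * (R.root o * R.root o) := by group
        _ = n * R.root o * n := by rw [R.root_sq hr ho's, mul_one]
    · rw [e1, ← N.el_mul_el hge hw' hw hL hww'.symm hw'ne hwne, ← e, ← e2, ← hndef]
      simp only [mul_assoc]
  -- consequently fixers of short arcs fix more
  have hM : ∀ {c v₁ v₂ : V}, A.side c = (!s) → A.Adj c v₁ → A.Adj c v₂ → v₁ ≠ v₂ →
      ∀ {q : G}, q ∈ A.Q c → q ∈ A.Q v₁ → q ∈ A.Q v₂ := by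
    intro c v₁ v₂ hc h1 h2 h12 q hqc hq1
    obtain ⟨v₃, h3, h31, h32⟩ := Amal.exists_third h1 h2 h12
    obtain ⟨o, ho, hoc⟩ := Amal.exists_other (A.symm h1)
    obtain ⟨o', ho', ho'c, he⟩ := hID hc h1 h2 h3 h12 h31.symm h32.symm ho hoc
    have hv1s : A.side v₁ = s := by rw [A.side_adj h1, hc, Bool.not_not]
    have hv2s : A.side v₂ = s := by rw [A.side_adj h2, hc, Bool.not_not]
    have hqv : q • v₂ = v₂ := hqc.2 v₂ h2
    refine Amal.mem_Q_of_two hqv (A.symm h2) ho' ho'c.symm hqc.1 (R.fix_of_commute hv2s ho' hqv ?_)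
    have hos : A.side o = !s := by rw [A.side_adj ho, hv1s]
    have : R.el v₂ o' = R.root o * N.el c v₃ := by
      rw [← he, ← mul_assoc, R.root_sq hr hos, one_mul, R.el_eq_root hr hv2s ho']
    rw [this]
    exact (R.root_comm hr hos (hq1.2 o ho)).mul_right (N.comm_mem hc h3 hqc)
  have hfour : ∀ {p₀ p₁ p₂ p₃ : V}, A.side p₀ = (!s) → A.Adj p₀ p₁ → A.Adj p₁ p₂ → A.Adj p₂ p₃ →
      p₂ ≠ p₀ → p₃ ≠ p₁ → ∀ {q : G}, q • p₀ = p₀ → q • p₁ = p₁ → q • p₂ = p₂ → q • p₃ = p₃ →
      q ∈ A.Q p₃ := by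
    intro p₀ p₁ p₂ p₃ hp a1 a2 a3 n1 n2 q f0 f1 f2 f3
    have hp2 : A.side p₂ = !s := by rw [A.side_adj a2, A.side_adj a1, hp, Bool.not_not]
    exact hM hp2 (A.symm a2) a3 n2.symm (Amal.mem_Q_of_two f2 (A.symm a2) a3 n2.symm f1 f3)
      (Amal.mem_Q_of_two f1 (A.symm a1) a2 n1.symm f0 f2)
  -- a prolongation to the left that is not critical
  have h45 : A.Adj (P 0) (P 1) := hP.1 0 (by omega)
  obtain ⟨v₃, hv₃, hv₃1⟩ := Amal.exists_other h45
  have hv₃s : A.side v₃ = s := by rw [A.side_adj hv₃, hs0, Bool.not_not]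
  obtain ⟨c, c', hc, hc', hc0, hc'0, hcc'⟩ := Amal.exists_two_others (A.symm hv₃)
  have hk2 : A.side (P (k + 2)) = !s := by
    rw [← Amal.side_add_two hP (i := k + 2) (by omega)]
    exact hend
  have hpro : ∀ {d : V}, A.Adj v₃ d → d ≠ P 0 → N.Crit (k + 4) (pre d (pre v₃ P)) →
      N.el d v₃ = N.el (P (k + 2)) (P (k + 1)) := fun {d} hd hd0 hcr => by
    obtain ⟨e1, -, -⟩ := N.transvection hNb hcr N hNb (by simpa using hk2)
    simpa [show k + 4 - 1 = k + 3 by omega] using e1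
  have harc : ∀ {d : V}, A.Adj v₃ d → d ≠ P 0 → A.Arc (k + 4) (pre d (pre v₃ P)) :=
    fun {d} hd hd0 => Amal.arc_le (Amal.arc_pre (Amal.arc_pre hP (A.symm hv₃) fun _ => hv₃1)
      (A.symm hd) fun _ => hd0) (by omega)
  obtain ⟨d, hd, hd0, hds, hdQ⟩ : ∃ d, A.Adj v₃ d ∧ d ≠ P 0 ∧ A.side d = (!s) ∧
      ∀ x, A.Adj d x → N.el d x ∈ A.Q (P (k + 2)) := by
    by_contra hcon
    push Not at hcon
    have hcs : A.side c = !s := by rw [A.side_adj hc, hv₃s]
    have hc's : A.side c' = !s := by rw [A.side_adj hc', hv₃s]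
    obtain ⟨x, hx, hxQ⟩ := hcon c hc hc0 hcs
    obtain ⟨x', hx', hx'Q⟩ := hcon c' hc' hc'0 hc's
    exact hN hcs hc's (A.symm hc) (A.symm hc') hcc'
      ((hpro hc hc0 ⟨harc hc hc0, hcs, x, hx, hxQ⟩).trans
        (hpro hc' hc'0 ⟨harc hc' hc'0, hc's, x', hx', hx'Q⟩).symm)
  obtain ⟨d₁, d₁', hd₁, hd₁', hd₁3, hd₁'3, hd11⟩ := Amal.exists_two_others (A.symm hd)
  obtain ⟨o, ho, hod⟩ := Amal.exists_other (A.symm hd₁)
  obtain ⟨u, hu, hud, hou⟩ :=
    hID hds hd₁ (A.symm hd) hd₁' hd₁3 hd11 hd₁'3.symm ho hod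
  have hus : A.side u = !s := by rw [A.side_adj hu, hv₃s]
  have hos : A.side o = !s := by
    rw [A.side_adj ho, A.side_adj hd₁, hds, Bool.not_not]
  have hru : R.root u * R.root u = 1 := R.root_sq hr hus
  have ho_eq : R.root o = N.el d d₁' * R.root u := by
    rw [← hou, mul_assoc, hru, mul_one]
  have huj : ∀ j ≤ k + 4, R.root u • P j = P j := fun j hj =>
    hfixR hus (n := j + 2) (by omega) (Amal.reach_cons (A.symm hu)
      (Amal.reach_cons (A.symm hv₃) (Amal.arc_reach hP (Nat.zero_le j) hj)))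
  have hdj : ∀ j ≤ k + 3, N.el d d₁' • P j = P j := fun j hj => by
    rcases Nat.lt_or_eq_of_le hj with hj | rfl
    · exact hfixN hds hd₁' (n := j + 2) (by omega) (Amal.reach_cons (A.symm hd)
        (Amal.reach_cons (A.symm hv₃) (Amal.arc_reach hP (Nat.zero_le j) (by omega))))
    · exact (hdQ d₁' hd₁').2 _ (hP.1 (k + 2) (by omega))
  have hoj : ∀ j ≤ k + 3, R.root o • P j = P j := fun j hj => by
    rw [ho_eq, mul_smul, huj j (by omega), hdj j hj]
  have hk0 : A.side (P k) = !s := by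
    rw [← Amal.side_add_two hP (i := k) (by omega)]
    exact hk2
  have hoQ : R.root o ∈ A.Q (P (k + 3)) :=
    hfour hk0 (hP.1 k (by omega)) (hP.1 (k + 1) (by omega)) (hP.1 (k + 2) (by omega))
      (hP.2 k (by omega)) (hP.2 (k + 1) (by omega)) (hoj k (by omega)) (hoj (k + 1) (by omega))
      (hoj (k + 2) (by omega)) (hoj (k + 3) le_rfl)
  have hoE : R.root o • P (k + 4) = P (k + 4) := hoQ.2 _ (hP.1 (k + 3) (by omega))
  obtain ⟨e45, -, houtE⟩ := N.transvection hNb h N hNb hend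
  rw [show k + 4 - 1 = k + 3 by omega] at e45 houtE
  have hlast : A.Adj (P (k + 4)) (P (k + 3)) := A.symm (hP.1 (k + 3) (by omega))
  obtain ⟨e, e', he, he', hene, he'ne, hee'⟩ := Amal.exists_two_others hlast
  have hes : A.side e = s := by rw [A.side_adj he, hend, Bool.not_not]
  obtain ⟨X, hX, hXE⟩ := Amal.exists_other (A.symm he)
  have hXs : A.side X = !s := by rw [A.side_adj hX, hes]
  obtain ⟨t, ht, htE, hXt⟩ := hID hend he hlast he' hene hee' he'ne.symm hX hXE
  have hts : A.side t = !s := by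
    rw [A.side_adj ht, A.side_adj hlast, hend, Bool.not_not]
  have htt : R.root t * R.root t = 1 := R.root_sq hr hts
  have hX_eq : R.root X = N.el (P (k + 4)) e' * R.root t := by rw [← hXt, mul_assoc, htt, mul_one]
  set x := R.root X with hxdef
  have ht0 : ∀ j ≤ 1, R.root t • P j = P j := fun j hj =>
    hfixR hts (n := k + 4) (by omega) (Amal.reach_cons (A.symm ht)
      (Amal.arc_reach_le hP (by omega) (by omega) (by omega) (by omega)))
  have hn' : ∀ j ≤ k + 4, N.el (P (k + 4)) e' • P j = P j := fun j hj =>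
    hfixN hend he' le_rfl (Amal.arc_reach_le hP le_rfl hj (by omega) (by omega))
  have ht3 : R.root t • v₃ = v₃ :=
    hfixR hts (n := k + 5) (by omega) (Amal.reach_snoc (Amal.reach_cons (A.symm ht)
      (Amal.arc_reach_le hP (by omega) (Nat.zero_le _) (k := k + 3) (by omega) (by omega))) hv₃)
  have hx0 : x • P 0 = P 0 := by rw [hX_eq, mul_smul, ht0 0 (by omega), hn' 0 (by omega)]
  have hx3 : x • v₃ ≠ v₃ := by
    rw [hX_eq, mul_smul, ht3]
    exact Amal.exists_swapped (hn' 0 (by omega)) h45 (hn' 1 (by omega)) (houtE e' he' he'ne)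
      v₃ hv₃ hv₃1
  have hx3a : A.Adj (P 0) (x • v₃) := Amal.adj_of_smul hx0 hv₃
  -- the conjugate of `root o` by `x`
  have hxo : x * R.root o * x⁻¹ = R.root (x • o) := R.root_conj hr hos rfl
  have hxx : x * x = 1 := R.root_sq hr hXs
  rw [inv_eq_of_mul_eq_one_right hxx] at hxo
  have hoo : R.root o * R.root o = 1 := R.root_sq hr hos
  have hcase : R.root o = R.root (x • o) ∨
      R.root o = N.el (P 0) (P 1) * R.root (x • o) := by
    by_cases hoe : R.root o • e = e
    · left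
      have hXQ : R.root o ∈ A.Q e :=
        hfour hk2 (hP.1 (k + 2) (by omega)) (hP.1 (k + 3) (by omega)) he
          (hP.2 (k + 2) (by omega)) hene (hoj (k + 2) (by omega)) (hoj (k + 3) le_rfl) hoE hoe
      have hcm : Commute (R.root o) x := R.root_comm hr hXs (hXQ.2 X hX)
      rw [← hxo, mul_assoc, hcm.eq, ← mul_assoc, hxx, one_mul]
    right
    have hoE3 : R.root o • P (k + 3) = P (k + 3) := hoj (k + 3) le_rfl
    have hsw : R.root o • e = e' := by
      rcases Amal.nbr_cases hlast he he' hene.symm he'ne.symm hee'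
          (Amal.adj_of_smul hoE he) with h' | h' | h'
      · exact absurd (MulAction.injective _ (h'.trans hoE3.symm)) hene
      · exact absurd h' hoe
      · exact h'
    have hsw' : R.root o • e' = e := by
      rw [← hsw, ← mul_smul, hoo, one_smul]
    have hot : Commute (R.root o) (R.root t) := R.root_comm hr hts (hoQ.2 t ht)
    have hconj : R.root o * N.el (P (k + 4)) e' * (R.root o)⁻¹ = N.el (P (k + 4)) e :=
      N.conj_eq hend he' hoE hsw'
    rw [inv_eq_of_mul_eq_one_right hoo] at hconj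
    have hxox : R.root o * x * R.root o = N.el (P (k + 4)) e * R.root t := by
      rw [hX_eq, ← hconj]
      simp only [mul_assoc]
      rw [hot.eq]
    have hY : x * (R.root o * x * R.root o) = N.el (P (k + 4)) (P (k + 3)) := by
      have hinv : (N.el (P (k + 4)) e * R.root t)⁻¹ = N.el (P (k + 4)) e * R.root t := by
        rw [← hxox]
        simp only [mul_inv_rev, inv_eq_of_mul_eq_one_right hoo, inv_eq_of_mul_eq_one_right hxx,
          mul_assoc]
      rw [hxox, ← hinv, mul_inv_rev, inv_eq_of_mul_eq_one_right htt, N.inv_el hend he, hX_eq,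
        mul_assoc, ← mul_assoc (R.root t), htt, one_mul,
        N.el_mul_el hend he' he hlast hee'.symm he'ne hene]
    rw [← e45] at hY
    rw [← hxo]
    have hoY : N.el (P 0) (P 1) * (x * R.root o * x) * R.root o = 1 := by
      rw [← N.sq hs0 h45]
      nth_rewrite 3 [← hY]
      group
    exact (inv_eq_of_mul_eq_one_right hoo).symm.trans (eq_inv_of_mul_eq_one_left hoY).symm
  -- a critical arc turning back through the image of `v₃`
  let Q3 : ℕ → V := pre d (pre v₃ (app P 0 (x • v₃)))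
  have hQ3 : A.Arc 3 Q3 := by
    refine Amal.arc_pre (Amal.arc_pre (Amal.arc_app (P := P) (n := 0)
      (Amal.arc_le hP (Nat.zero_le _)) hx3a (fun h => absurd h (lt_irrefl 0)))
      (A.symm hv₃) fun _ => ?_) (A.symm hd) fun _ => hd0
    show v₃ ≠ app P 0 (x • v₃) 1
    rw [app_gt (by omega)]
    exact hx3.symm
  obtain ⟨g, hg⟩ := Amal.trans_three hA (!s) P Q3 (Amal.arc_le hP (by omega)) hQ3 hs0 hds
  have hcr := N.crit_smul h g
  have hg0 : g • P 0 = d := hg 0 (by omega)
  have hg1 : g • P 1 = v₃ := hg 1 (by omega)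
  have hg3 : g • P 3 = x • v₃ :=
    (hg 3 le_rfl).trans (app_gt (P := P) (n := 0) (w := x • v₃) (i := 1) Nat.one_pos)
  obtain ⟨-, hout, -⟩ := N.transvection hNb hcr N hNb ((A.side_smul g _).trans hend)
  have hm := hout d₁' (by rwa [hg0]) (by rwa [hg1])
  rw [hg0] at hm
  have hEfix : N.el d d₁' • g • P (k + 4) = g • P (k + 4) := by
    refine hfixN hds hd₁' le_rfl ?_
    rw [← hg0]
    exact Amal.arc_reach hcr.1 (Nat.zero_le _) le_rfl
  obtain ⟨p, hp, hpm⟩ : ∃ p, A.Adj (g • P (k + 4)) p ∧ N.el d d₁' • p ≠ p := by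
    by_contra hcon
    push Not at hcon
    exact hm ⟨hEfix, hcon⟩
  have hr3 : A.Reach (k + 1) (x • v₃) (g • P (k + 4)) := by
    rw [← hg3]
    exact Amal.arc_reach_le hcr.1 (i := 3) (by omega) le_rfl (by omega) (by omega)
  have f1 : R.root u • p = p := hfixR hus (n := k + 5) (by omega)
    (Amal.reach_snoc (Amal.reach_cons (A.symm hu) (Amal.reach_cons (A.symm hv₃)
      (Amal.reach_cons hx3a hr3))) hp)
  have f2 : R.root (x • o) • p = p := hfixR ((A.side_smul x o).trans hos) (n := k + 5) (by omega)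
    (Amal.reach_snoc (Amal.reach_cons (A.adj_smul x (A.symm ho))
      (Amal.reach_cons (A.adj_smul x (A.symm hd₁)) (Amal.reach_cons (A.adj_smul x (A.symm hd)) hr3)))
      hp)
  have f3 : N.el (P 0) (P 1) • p = p := hfixN hs0 h45 (n := k + 3) (by omega)
    (Amal.reach_snoc (Amal.reach_cons hx3a hr3) hp)
  refine hpm ?_
  have : R.root o • p = p := by
    rcases hcase with h' | h'
    · rw [h', f2]
    · rw [h', mul_smul, f2, f3]
  rwa [ho_eq, mul_smul, f1] at this

end Cfsg.Agent.Goldschmidt
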